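/-
Orthogonal frames of an anisotropic-plane-plus-hyperbolic-plane space of dimension four.
-/
import Cfsg.Agent.Lib.Classical22.OrthPower.FlagTW
import Cfsg.Agent.Lib.Classical22.OrthOrthTensor.SmallThree
import Cfsg.Agent.Lib.Classical.SymBilin

set_option autoImplicit false
set_option linter.unusedSectionVars false
set_option linter.unusedSimpArgs false

namespace CfsgLib.Classical22.OFour

open Matrix CfsgLib.Transvec CfsgLib.Classical22.TensorMax CfsgLib.Classical22.TensorMax.SympO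
open CfsgLib.Classical22.TensorMax.SpO (sym_zero_left sym_zero_right sym_sub_left sym_sub_right sym_quad_smul
  sym_quad_add sym_eq sym_neg_left)
open CfsgLib.Classical22.TensorMax.OO (eq_sum_of_orth sym_neg_right)
open CfsgLib.Classical22.OPow (isoF mem_isoF rG rG_iso rG_apply rG_mul_self rG_val rG_conj)
open scoped MatrixGroups

variable {F : Type*} [Field F] {f : (Fin 4 → F) → (Fin 4 → F) → F}

/-- An orthogonal basis. -/
structure Frame (f : (Fin 4 → F) → (Fin 4 → F) → F) (u : Fin 4 → Fin 4 → F) : Prop where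
  orth : ∀ i j, i ≠ j → f (u i) (u j) = 0
  aniso : ∀ i, f (u i) (u i) ≠ 0

/-- Signs on the vectors of a basis. -/
structure Eig (A : GL (Fin 4) F) (u : Fin 4 → Fin 4 → F) (s : Fin 4 → ℤ) : Prop where
  sgn : ∀ i, s i = 1 ∨ s i = -1
  act : ∀ i, A.val *ᵥ u i = (s i : F) • u i

/-- No totally singular plane. -/
def NoLine (f : (Fin 4 → F) → (Fin 4 → F) → F) : Prop :=
  ∀ x y, x ≠ 0 → f x x = 0 → f y y = 0 → f x y = 0 → y ∈ Submodule.span F {x}

lemma Eig.mul {A B : GL (Fin 4) F} {u : Fin 4 → Fin 4 → F} {s r : Fin 4 → ℤ} (hA : Eig A u s) (hB : Eig B u r) :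
    Eig (A * B) u (s * r) where
  sgn i := by rcases hA.sgn i with h | h <;> rcases hB.sgn i with h' | h' <;> simp [h, h']
  act i := by
    rw [Transvec.mul_mulVec, hB.act, mulVec_smul, hA.act, smul_smul, Pi.mul_apply, Int.cast_mul, mul_comm]

lemma Eig.one (u : Fin 4 → Fin 4 → F) : Eig (1 : GL (Fin 4) F) u 1 where
  sgn i := Or.inl rfl
  act i := by simp

lemma Eig.neg {A : GL (Fin 4) F} {u : Fin 4 → Fin 4 → F} {s : Fin 4 → ℤ} (hA : Eig A u s) : Eig (-A) u (-s) where
  sgn i := by rcases hA.sgn i with h | h <;> simp [h]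
  act i := by simp [hA.act, neg_mulVec]

lemma Eig.perm {A : GL (Fin 4) F} {u : Fin 4 → Fin 4 → F} {s : Fin 4 → ℤ} (hA : Eig A u s)
    (e : Equiv.Perm (Fin 4)) : Eig A (u ∘ e) (s ∘ e) where
  sgn i := hA.sgn (e i)
  act i := hA.act (e i)

section Sym
variable (hf : Cfsg.Geo.IsSymmetricForm f)
include hf

lemma Frame.perm {u : Fin 4 → Fin 4 → F} (h : Frame f u) (e : Equiv.Perm (Fin 4)) : Frame f (u ∘ e) where
  orth i j hij := h.orth _ _ (e.injective.ne hij)
  aniso i := h.aniso _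

lemma Frame.ne_zero {u : Fin 4 → Fin 4 → F} (h : Frame f u) (i : Fin 4) : u i ≠ 0 := fun h0 =>
  h.aniso i (by rw [h0, sym_zero_left hf])

lemma Frame.ext {u : Fin 4 → Fin 4 → F} (h : Frame f u) {A B : Matrix (Fin 4) (Fin 4) F}
    (e : ∀ i, A *ᵥ u i = B *ᵥ u i) : A = B :=
  Matrix.ext_iff_mulVec.mpr fun x => by
    rw [eq_sum_of_orth hf u h.orth h.aniso x, mulVec_sum, mulVec_sum]
    exact Finset.sum_congr rfl fun i _ => by rw [mulVec_smul, mulVec_smul, e]

lemma Frame.eig_ext {u : Fin 4 → Fin 4 → F} (h : Frame f u) {A B : GL (Fin 4) F} {s : Fin 4 → ℤ}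
    (hA : Eig A u s) (hB : Eig B u s) : A = B :=
  Units.ext (h.ext hf fun i => by rw [hA.act, hB.act])

lemma Frame.eig_sq {u : Fin 4 → Fin 4 → F} (h : Frame f u) {A : GL (Fin 4) F} {s : Fin 4 → ℤ}
    (hA : Eig A u s) : A * A = 1 :=
  h.eig_ext hf (hA.mul hA) (by
    have : s * s = 1 := funext fun i => by rcases hA.sgn i with h | h <;> simp [h]
    rw [this]; exact Eig.one u)

lemma Frame.eig_comm {u : Fin 4 → Fin 4 → F} (h : Frame f u) {A B : GL (Fin 4) F} {s r : Fin 4 → ℤ}
    (hA : Eig A u s) (hB : Eig B u r) : A * B = B * A :=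
  h.eig_ext hf (hA.mul hB) (mul_comm s r ▸ hB.mul hA)

/-- The signs of a reflection. -/
lemma Frame.eig_rG {u : Fin 4 → Fin 4 → F} (h : Frame f u) (i : Fin 4) :
    Eig (rG hf (u i)) u (fun j => if j = i then -1 else 1) where
  sgn j := by by_cases hj : j = i <;> simp [hj]
  act j := by
    rw [rG_apply hf (h.aniso i)]
    by_cases hj : j = i
    · subst hj
      rw [div_mul_cancel₀ _ (h.aniso j), if_pos rfl, Int.cast_neg, Int.cast_one, neg_one_smul, two_smul]
      abel
    · rw [h.orth j i hj, if_neg hj]; simp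

/-- An isometry with signs on a frame. -/
lemma Frame.eig_iso {u : Fin 4 → Fin 4 → F} (h : Frame f u) {A : GL (Fin 4) F} {s : Fin 4 → ℤ}
    (hA : Eig A u s) : A ∈ isoF f := by
  have e : ∀ (S : Finset (Fin 4)), ∃ B ∈ isoF f, Eig B u (fun i => if i ∈ S then -1 else 1) := by
    intro S
    induction S using Finset.induction_on with
    | empty =>
      refine ⟨1, one_mem _, ?_⟩
      simpa [Pi.one_def] using Eig.one (F := F) u
    | insert i S hi ih =>
      obtain ⟨B, hB, hBe⟩ := ih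
      refine ⟨rG hf (u i) * B, mul_mem (rG_iso hf _) hB, ?_⟩
      have h' := (h.eig_rG hf i).mul hBe
      convert h' using 1
      funext j
      by_cases hj : j = i
      · subst hj; simp [hi]
      · simp [hj]
  obtain ⟨B, hB, hBe⟩ := e (Finset.univ.filter fun i => s i = -1)
  have hs : (fun i => if i ∈ (Finset.univ.filter fun i => s i = -1) then (-1 : ℤ) else 1) = s := funext fun i => by
    rcases hA.sgn i with h | h <;> simp [h]
  rw [hs] at hBe
  rwa [h.eig_ext hf hA hBe]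

variable [Fintype F] (h2 : (2 : F) ≠ 0)
include h2

/-- A common anisotropic eigenvector of commuting involutive isometries. -/
lemma exists_eigvec : ∀ (As : List (GL (Fin 4) F)), (∀ A ∈ As, A ∈ isoF f ∧ A * A = 1) →
    (∀ A ∈ As, ∀ B ∈ As, A * B = B * A) → ∀ W : Submodule F (Fin 4 → F),
      (∀ A ∈ As, ∀ x ∈ W, A.val *ᵥ x ∈ W) → (∃ z ∈ W, f z z ≠ 0) →
      ∃ z ∈ W, f z z ≠ 0 ∧ ∀ A ∈ As, A.val *ᵥ z = z ∨ A.val *ᵥ z = -z := by
  intro As
  induction As with
  | nil => exact fun _ _ W _ ⟨z, hz, hq⟩ => ⟨z, hz, hq, by simp⟩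
  | cons A As ih =>
    intro hi hc W hW hz
    obtain ⟨z, hzW, hq, hzs⟩ := ih (fun B hB => hi B (List.mem_cons_of_mem _ hB))
      (fun B hB B' hB' => hc B (List.mem_cons_of_mem _ hB) B' (List.mem_cons_of_mem _ hB')) W
      (fun B hB => hW B (List.mem_cons_of_mem _ hB)) hz
    obtain ⟨hA, hA2⟩ := hi A List.mem_cons_self
    have hAA : A.val *ᵥ (A.val *ᵥ z) = z := by rw [← Transvec.mul_mulVec, hA2, Units.val_one, one_mulVec]
    obtain ⟨a, ha⟩ : ∃ a, a = A.val *ᵥ z := ⟨_, rfl⟩
    have hAz : A.val *ᵥ z ∈ W := hW A List.mem_cons_self z hzW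
    have hcomm : ∀ B ∈ As, ∀ c : F, (c = 1 ∨ c = -1) → B.val *ᵥ z = c • z → B.val *ᵥ a = c • a :=
      fun B hB c _ h => by
        rw [ha, ← Transvec.mul_mulVec, hc B (List.mem_cons_of_mem _ hB) A List.mem_cons_self, Transvec.mul_mulVec, h,
          mulVec_smul]
    obtain ⟨ε, hε, hne⟩ : ∃ ε : F, (ε = 1 ∨ ε = -1) ∧ f (z + ε • a) (z + ε • a) ≠ 0 := by
      by_contra hno
      push Not at hno
      have h1 := hno 1 (Or.inl rfl)
      have h3 := hno (-1) (Or.inr rfl)
      rw [sym_quad_add hf, sym_quad_smul hf, hf.bilinear.smul_right, ha, hA] at h1 h3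
      exact hq ((mul_eq_zero.mp ((mul_eq_zero.mp (show 2 * (2 * f z z) = 0 by linear_combination h1 + h3)).resolve_left
        h2)).resolve_left h2)
    have hεA : A.val *ᵥ (z + ε • a) = ε • (z + ε • a) := by
      rw [mulVec_add, mulVec_smul, ha, hAA, smul_add, smul_smul]
      rcases hε with rfl | rfl <;> module
    refine ⟨z + ε • a, W.add_mem hzW (W.smul_mem _ (ha ▸ hAz)), hne, fun B hB => ?_⟩
    rcases List.mem_cons.mp hB with rfl | hB
    · rcases hε with h | h
      · left; rw [hεA, h, one_smul, one_smul]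
      · right; rw [hεA, h, neg_one_smul, neg_one_smul]
    · rcases hzs B hB with h | h
      · left
        rw [mulVec_add, mulVec_smul, h, hcomm B hB 1 (Or.inl rfl) (by rw [h, one_smul]), one_smul]
      · right
        rw [mulVec_add, mulVec_smul, h, hcomm B hB (-1) (Or.inr rfl) (by rw [h, neg_one_smul]), neg_one_smul,
          smul_neg, neg_add]

/-- An orthogonal eigenbasis of a subspace. -/
lemma exists_eig_orth (As : List (GL (Fin 4) F)) (hi : ∀ A ∈ As, A ∈ isoF f ∧ A * A = 1)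
    (hc : ∀ A ∈ As, ∀ B ∈ As, A * B = B * A) : ∀ (n : ℕ) (W : Submodule F (Fin 4 → F)), SpO.NdSub f W →
    n ≤ Module.finrank F W → (∀ A ∈ As, ∀ x ∈ W, A.val *ᵥ x ∈ W) →
    ∃ u : Fin n → Fin 4 → F, (∀ i j, i ≠ j → f (u i) (u j) = 0) ∧ (∀ i, u i ∈ W ∧ f (u i) (u i) ≠ 0) ∧
      ∀ A ∈ As, ∀ i, A.val *ᵥ u i = u i ∨ A.val *ᵥ u i = -u i := by
  intro n
  induction n with
  | zero => exact fun W _ _ _ => ⟨Fin.elim0, fun i => i.elim0, fun i => i.elim0, fun A _ i => i.elim0⟩
  | succ n ih =>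
    intro W hW hd hinv
    obtain ⟨z, hzW, hq, hzA⟩ := exists_eigvec hf h2 As hi hc W hinv (SpO.exists_aniso hf h2 hW (by omega))
    obtain ⟨u, ho, hu, hA⟩ := ih (SpO.perpIn f W z) (SpO.nd_perpIn hf hW hzW hq)
      (by have := SpO.finrank_perpIn hf W z; omega) (fun A hA x hx => by
        obtain ⟨hxW, hxz⟩ := (SpO.mem_perpIn hf).mp hx
        refine (SpO.mem_perpIn hf).mpr ⟨hinv A hA x hxW, ?_⟩
        have h := (hi A hA).1 x z
        rcases hzA A hA with e | e
        · rwa [e, hxz] at h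
        · rw [e, sym_neg_right hf, hxz] at h; exact neg_eq_zero.mp h)
    have hz : ∀ i, f z (u i) = 0 := fun i => by rw [hf.symm]; exact ((SpO.mem_perpIn hf).mp (hu i).1).2
    refine ⟨Fin.cons z u, fun i j hij => ?_, fun i => ?_, fun A hAm i => ?_⟩
    · induction i using Fin.cases with
      | zero =>
        induction j using Fin.cases with
        | zero => exact absurd rfl hij
        | succ j => simpa using hz j
      | succ i =>
        induction j using Fin.cases with
        | zero => rw [hf.symm]; simpa using hz i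
        | succ j => simpa using ho i j fun h => hij (by rw [h])
    · induction i using Fin.cases with
      | zero => simpa using ⟨hzW, hq⟩
      | succ i => simpa using ⟨((SpO.mem_perpIn hf).mp (hu i).1).1, (hu i).2⟩
    · induction i using Fin.cases with
      | zero => simpa using hzA A hAm
      | succ i => simpa using hA A hAm i

/-- Commuting involutive isometries have a common frame. -/
theorem exists_frame (As : List (GL (Fin 4) F)) (hi : ∀ A ∈ As, A ∈ isoF f ∧ A * A = 1)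
    (hc : ∀ A ∈ As, ∀ B ∈ As, A * B = B * A) :
    ∃ u, Frame f u ∧ ∀ A ∈ As, ∃ s, Eig A u s := by
  obtain ⟨u, ho, hu, hA⟩ := exists_eig_orth hf h2 As hi hc 4 ⊤ (SpO.nd_top hf)
    (by rw [finrank_top, Module.finrank_fin_fun]) (fun _ _ _ _ => trivial)
  refine ⟨u, ⟨ho, fun i => (hu i).2⟩, fun A hAm => ?_⟩
  classical
  refine ⟨fun i => if A.val *ᵥ u i = u i then 1 else -1, ⟨fun i => by by_cases h : A.val *ᵥ u i = u i <;> simp [h],
    fun i => ?_⟩⟩
  rcases hA A hAm i with h | h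
  · simp [h]
  · by_cases h' : A.val *ᵥ u i = u i
    · simp [h']
    · rw [if_neg h', h]; simp

/-- The orthogonal complement of orthogonal anisotropic vectors. -/
lemma exists_perp (xs : List (Fin 4 → F)) (ho : xs.Pairwise fun x y => f x y = 0) (hq : ∀ x ∈ xs, f x x ≠ 0) :
    ∃ W : Submodule F (Fin 4 → F), SpO.NdSub f W ∧ 4 ≤ Module.finrank F W + xs.length ∧
      ∀ w, w ∈ W ↔ ∀ x ∈ xs, f w x = 0 := by
  induction xs with
  | nil => exact ⟨⊤, SpO.nd_top hf, by rw [finrank_top, Module.finrank_fin_fun]; simp, by simp⟩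
  | cons x xs ih =>
    rw [List.pairwise_cons] at ho
    obtain ⟨W, hW, hd, hp⟩ := ih ho.2 fun y hy => hq y (List.mem_cons_of_mem _ hy)
    refine ⟨SpO.perpIn f W x, SpO.nd_perpIn hf hW ((hp x).mpr ho.1) (hq x List.mem_cons_self), ?_, fun w => ?_⟩
    · have := SpO.finrank_perpIn hf W x
      simp only [List.length_cons]
      omega
    · rw [SpO.mem_perpIn hf, hp]; simp [and_comm]

/-- Two orthogonal anisotropic vectors extend to a frame. -/
lemma exists_extend_two {x y : Fin 4 → F} (hx : f x x ≠ 0) (hy : f y y ≠ 0) (hxy : f x y = 0) :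
    ∃ u, Frame f u ∧ u 0 = x ∧ u 1 = y := by
  obtain ⟨W, hW, hd, hp⟩ := exists_perp hf h2 [x, y] (by simp [hxy]) (by simp [hx, hy])
  simp only [List.length_cons, List.length_nil] at hd
  obtain ⟨c, hc, hcq⟩ := SpO.exists_aniso hf h2 hW (by omega)
  obtain ⟨d, hd', hdq⟩ := SpO.exists_aniso hf h2 (SpO.nd_perpIn hf hW hc hcq)
    (by have := SpO.finrank_perpIn hf W c; omega)
  obtain ⟨hdW, hdc⟩ := (SpO.mem_perpIn hf).mp hd'
  obtain ⟨hcx, hcy⟩ : f c x = 0 ∧ f c y = 0 := by simpa using (hp c).mp hc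
  obtain ⟨hdx, hdy⟩ : f d x = 0 ∧ f d y = 0 := by simpa using (hp d).mp hdW
  refine ⟨![x, y, c, d], ⟨fun i j hij => ?_, fun i => ?_⟩, rfl, rfl⟩
  · fin_cases i <;> fin_cases j <;>
      first
        | exact absurd rfl hij
        | simp [hxy, hcx, hcy, hdx, hdy, hdc, hf.symm y x, hf.symm x c, hf.symm y c, hf.symm x d, hf.symm y d,
            hf.symm c d]
  · fin_cases i <;> assumption

/-- One anisotropic vector extends to a frame. -/
lemma exists_extend_one {x : Fin 4 → F} (hx : f x x ≠ 0) : ∃ u, Frame f u ∧ u 0 = x := by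
  obtain ⟨W, hW, hd, hp⟩ := exists_perp hf h2 [x] (by simp) (by simp [hx])
  simp only [List.length_cons, List.length_nil] at hd
  obtain ⟨y, hy, hyq⟩ := SpO.exists_aniso hf h2 hW (by omega)
  have hxy : f x y = 0 := by rw [hf.symm]; simpa using (hp y).mp hy
  obtain ⟨u, hu, h0, -⟩ := exists_extend_two hf h2 hx hyq hxy
  exact ⟨u, hu, h0⟩

omit [Fintype F] in
/-- A product of two reflections at orthogonal vectors is a half turn. -/
lemma Frame.eig_two {u : Fin 4 → Fin 4 → F} (h : Frame f u) (i j : Fin 4) :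
    Eig (rG hf (u i) * rG hf (u j)) u
      ((fun l => if l = i then -1 else 1) * fun l => if l = j then -1 else 1) :=
  (h.eig_rG hf i).mul (h.eig_rG hf j)

omit [Fintype F] in
/-- Planes spanned by the vectors of a frame: exactly one of two complementary planes is isotropic. -/
lemma Frame.planes {u : Fin 4 → Fin 4 → F} (h : Frame f u) (hn : NoLine f) :
    ¬ (IsSquare (-(f (u 0) (u 0) * f (u 1) (u 1))) ∧ IsSquare (-(f (u 2) (u 2) * f (u 3) (u 3)))) := by
  rintro ⟨⟨r, hr⟩, s, hs⟩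
  have hx : r • u 0 + f (u 0) (u 0) • u 1 ≠ 0 := fun h0 => by
    have h1 := congrArg (fun z => f z (u 1)) h0
    simp only [hf.bilinear.add_left, hf.bilinear.smul_left, h.orth 0 1 (by decide), sym_zero_left hf, mul_zero,
      zero_add] at h1
    exact mul_ne_zero (h.aniso 0) (h.aniso 1) h1
  have h1 := hn _ (s • u 2 + f (u 2) (u 2) • u 3) hx ?_ ?_ ?_
  · obtain ⟨c, hc⟩ := Submodule.mem_span_singleton.mp h1
    have h3 := congrArg (fun z => f z (u 3)) hc
    simp only [hf.bilinear.add_left, hf.bilinear.smul_left, h.orth 0 3 (by decide), h.orth 1 3 (by decide),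
      h.orth 2 3 (by decide), mul_zero, zero_add, add_zero] at h3
    exact mul_ne_zero (h.aniso 2) (h.aniso 3) h3.symm
  · rw [sym_quad_add hf, sym_quad_smul hf, sym_quad_smul hf, hf.bilinear.smul_left, hf.bilinear.smul_right,
      h.orth 0 1 (by decide)]
    linear_combination -(f (u 0) (u 0)) * hr
  · rw [sym_quad_add hf, sym_quad_smul hf, sym_quad_smul hf, hf.bilinear.smul_left, hf.bilinear.smul_right,
      h.orth 2 3 (by decide)]
    linear_combination -(f (u 2) (u 2)) * hs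
  · simp [hf.bilinear.add_left, hf.bilinear.add_right, hf.bilinear.smul_left, hf.bilinear.smul_right,
      h.orth 0 2 (by decide), h.orth 0 3 (by decide), h.orth 1 2 (by decide), h.orth 1 3 (by decide)]

/-- One of two complementary planes is isotropic. -/
lemma Frame.planes' {u : Fin 4 → Fin 4 → F} (h : Frame f u) (hn : NoLine f) :
    IsSquare (-(f (u 0) (u 0) * f (u 1) (u 1))) ∨ IsSquare (-(f (u 2) (u 2) * f (u 3) (u 3))) := by
  by_contra hno
  push Not at hno
  obtain ⟨h01, h23⟩ := hno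
  have hp : IsSquare (f (u 0) (u 0) * f (u 1) (u 1) * (f (u 2) (u 2) * f (u 3) (u 3))) := by
    have := CfsgLib.Classical.isSquare_mul_of_not_isSquare h2 h01 h23
    rwa [neg_mul_neg] at this
  -- a vector of each plane representing opposite values
  obtain ⟨W, hW, hd, hp'⟩ := exists_perp hf h2 [u 2, u 3] (by simp [h.orth 2 3 (by decide)])
    (by simp [h.aniso 2, h.aniso 3])
  simp only [List.length_cons, List.length_nil] at hd
  obtain ⟨p, hpW, hpv⟩ := SpO.exists_value hf h2 hW (by omega) (-(f (u 2) (u 2)))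
  obtain ⟨hp2, hp3⟩ : f p (u 2) = 0 ∧ f p (u 3) = 0 := by simpa using (hp' p).mp hpW
  have hp0 : f p p ≠ 0 := by rw [hpv]; exact neg_ne_zero.mpr (h.aniso 2)
  obtain ⟨q, hqW, hq0⟩ := SpO.exists_aniso hf h2 (SpO.nd_perpIn hf hW hpW hp0)
    (by have := SpO.finrank_perpIn hf W p; omega)
  obtain ⟨hqW', hqp⟩ := (SpO.mem_perpIn hf).mp hqW
  obtain ⟨hq2, hq3⟩ : f q (u 2) = 0 ∧ f q (u 3) = 0 := by simpa using (hp' q).mp hqW'
  have hF : Frame f ![p, q, u 2, u 3] := ⟨fun i j hij => by
    fin_cases i <;> fin_cases j <;>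
      first
        | exact absurd rfl hij
        | simp [hp2, hp3, hq2, hq3, hqp, hf.symm p q, hf.symm (u 2) p, hf.symm (u 3) p, hf.symm (u 2) q,
            hf.symm (u 3) q, h.orth 2 3 (by decide), h.orth 3 2 (by decide)],
    fun i => by fin_cases i <;> first | exact hp0 | exact hq0 | exact h.aniso 2 | exact h.aniso 3⟩
  -- the discriminant is that of the old frame
  obtain ⟨r, hr⟩ : IsSquare (f p p * f q q * (f (u 0) (u 0) * f (u 1) (u 1))) := by
    obtain ⟨a, b, hab⟩ : ∃ a b : F, p = a • u 0 + b • u 1 := ⟨_, _, by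
      conv_lhs => rw [eq_sum_of_orth hf u h.orth h.aniso p]
      simp only [Fin.sum_univ_four, hp2, hp3, zero_div, zero_smul, add_zero]
      rfl⟩
    obtain ⟨c, d, hcd⟩ : ∃ c d : F, q = c • u 0 + d • u 1 := ⟨_, _, by
      conv_lhs => rw [eq_sum_of_orth hf u h.orth h.aniso q]
      simp only [Fin.sum_univ_four, hq2, hq3, zero_div, zero_smul, add_zero]
      rfl⟩
    refine ⟨(a * d - b * c) * (f (u 0) (u 0) * f (u 1) (u 1)), ?_⟩
    have e1 := hqp
    rw [hab, hcd] at e1 ⊢
    simp only [hf.bilinear.add_left, hf.bilinear.add_right, hf.bilinear.smul_left, hf.bilinear.smul_right,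
      h.orth 0 1 (by decide), h.orth 1 0 (by decide)] at e1 ⊢
    linear_combination (f (u 0) (u 0) * f (u 1) (u 1)) * (a * c * f (u 0) (u 0) + b * d * f (u 1) (u 1)) * e1
  refine Frame.planes hf h2 (hF.perm hf (Equiv.swap 1 2)) hn ⟨⟨f (u 2) (u 2), ?_⟩, ?_⟩
  · change -(f (![p, q, u 2, u 3] (Equiv.swap 1 2 0)) (![p, q, u 2, u 3] (Equiv.swap 1 2 0)) *
      f (![p, q, u 2, u 3] (Equiv.swap 1 2 1)) (![p, q, u 2, u 3] (Equiv.swap 1 2 1))) = _
    rw [show Equiv.swap (1 : Fin 4) 2 0 = 0 by decide, show Equiv.swap (1 : Fin 4) 2 1 = 2 by decide]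
    simp [hpv]
  · change IsSquare (-(f (![p, q, u 2, u 3] (Equiv.swap 1 2 2)) (![p, q, u 2, u 3] (Equiv.swap 1 2 2)) *
      f (![p, q, u 2, u 3] (Equiv.swap 1 2 3)) (![p, q, u 2, u 3] (Equiv.swap 1 2 3))))
    rw [show Equiv.swap (1 : Fin 4) 2 2 = 1 by decide, show Equiv.swap (1 : Fin 4) 2 3 = 3 by decide]
    obtain ⟨s, hs⟩ := hp
    refine ⟨r * s / (f (u 0) (u 0) * f (u 1) (u 1) * f (u 2) (u 2)), ?_⟩
    simp only [Matrix.cons_val_one, Matrix.cons_val, Matrix.head_cons, Matrix.cons_val_zero]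
    have := h.aniso 0; have := h.aniso 1; have := h.aniso 2
    field_simp
    rw [hpv] at hr
    linear_combination (f (u 0) (u 0) * f (u 1) (u 1) * f (u 2) (u 2) * f (u 3) (u 3)) * hr + r * r * hs

end Sym

end CfsgLib.Classical22.OFour
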