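/-
The signature of an element: twice the dimension of its fixed space minus the dimension.
-/
import Cfsg.Agent.Lib.Classical22.OrthFour.Frame
import Mathlib.LinearAlgebra.Matrix.Diagonal

set_option autoImplicit false
set_option linter.unusedSectionVars false
set_option linter.unusedSimpArgs false

namespace CfsgLib.Classical22.OFour

open Matrix CfsgLib.Transvec CfsgLib.Classical22.TensorMax CfsgLib.Classical22.TensorMax.SympO
open CfsgLib.Classical22.TensorMax.OO (eq_sum_of_orth)
open CfsgLib.Classical22.TWMax (Idx pv tmat tGL tGL_apply TWData single_eq_pv slotEl slotEl_apply slotEl_data)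
open scoped MatrixGroups

variable {F : Type*} [Field F] {ι : Type} [Fintype ι] [DecidableEq ι]

/-- Twice the dimension of the fixed space minus the dimension. -/
noncomputable def sig (g : GL ι F) : ℤ :=
  2 * (Module.finrank F (LinearMap.ker (Matrix.mulVecLin g.val - LinearMap.id)) : ℤ) - Fintype.card ι

lemma sig_conj (g P : GL ι F) : sig (P * g * P⁻¹) = sig g := by
  obtain ⟨L, hL⟩ : ∃ L : (ι → F) ≃ₗ[F] (ι → F), ∀ v, L v = P.val *ᵥ v :=
    ⟨{ toFun := fun v => P.val *ᵥ v
       map_add' := fun x y => mulVec_add _ x y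
       map_smul' := fun c x => mulVec_smul _ c x
       invFun := fun v => P⁻¹.val *ᵥ v
       left_inv := fun v => Transvec.inv_mulVec_cancel P v
       right_inv := fun v => by exact Transvec.mulVec_inv_cancel P v }, fun v => rfl⟩
  unfold sig
  rw [show LinearMap.ker (Matrix.mulVecLin (P * g * P⁻¹).val - LinearMap.id) =
    (LinearMap.ker (Matrix.mulVecLin g.val - LinearMap.id)).map (L : (ι → F) →ₗ[F] (ι → F)) from ?_,
    LinearEquiv.finrank_map_eq L]
  ext v
  simp only [Submodule.mem_map, LinearEquiv.coe_coe, hL, LinearMap.mem_ker, LinearMap.sub_apply, Matrix.mulVecLin_apply,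
    LinearMap.id_apply, sub_eq_zero]
  constructor
  · intro h
    refine ⟨P⁻¹.val *ᵥ v, ?_, Transvec.mulVec_inv_cancel P v⟩
    have h' := congrArg (P⁻¹.val *ᵥ ·) h
    simp only [Transvec.mul_mulVec, Transvec.inv_mulVec_cancel] at h'
    exact h'
  · rintro ⟨w, hw, rfl⟩
    rw [Transvec.mul_mulVec, Transvec.mul_mulVec, Transvec.inv_mulVec_cancel, hw]

lemma sig_diag {g : GL ι F} (h2 : (2 : F) ≠ 0) {e : ι → ℤ} (he : ∀ i, e i = 1 ∨ e i = -1)
    (h : g.val = Matrix.diagonal fun i => (e i : F)) : sig g = ∑ i, e i := by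
  classical
  have e1 : LinearMap.ker (Matrix.mulVecLin g.val - LinearMap.id) =
      LinearMap.ker (Matrix.mulVecLin (Matrix.diagonal fun i => (e i : F) - 1)) := by
    ext v
    simp only [LinearMap.mem_ker, LinearMap.sub_apply, Matrix.mulVecLin_apply, LinearMap.id_apply, h]
    constructor <;> intro hv <;> funext i <;> have := congrFun hv i <;>
      simp only [Matrix.mulVec_diagonal, Pi.sub_apply, Pi.zero_apply] at this ⊢ <;> linear_combination this
  have h3 := LinearMap.finrank_range_add_finrank_ker (Matrix.mulVecLin (Matrix.diagonal fun i => (e i : F) - 1))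
  rw [Module.finrank_pi, ← Matrix.rank, Matrix.rank_diagonal] at h3
  have h4 : Fintype.card {i // (e i : F) - 1 ≠ 0} = (Finset.univ.filter fun i => e i = -1).card := by
    rw [Fintype.card_subtype]
    congr 1
    ext i
    simp only [Finset.mem_filter, Finset.mem_univ, true_and]
    rcases he i with hi | hi
    · simp [hi]
    · simp only [hi, Int.cast_neg, Int.cast_one, ne_eq, iff_true]
      exact fun hh => h2 (by linear_combination -hh)
  have h5 : ∑ i, e i = (Fintype.card ι : ℤ) - 2 * ((Finset.univ.filter fun i => e i = -1).card : ℤ) := by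
    rw [Finset.sum_congr rfl fun i _ => show e i = 1 - (if e i = -1 then (2 : ℤ) else 0) by
      rcases he i with hi | hi <;> simp [hi], Finset.sum_sub_distrib, ← Finset.sum_filter, Finset.sum_const,
      Finset.sum_const]
    simp [mul_comm]
  unfold sig
  rw [e1, h5]
  omega

section Pure
variable {T : ℕ} {f : (Fin 4 → F) → (Fin 4 → F) → F} (hf : Cfsg.Geo.IsSymmetricForm f)
include hf

lemma Frame.exists_gl {u : Fin 4 → Fin 4 → F} (h : Frame f u) :
    ∃ P : GL (Fin 4) F, ∀ i, P.val *ᵥ Pi.single i 1 = u i := by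
  obtain ⟨P, hP⟩ : ∃ P : Matrix (Fin 4) (Fin 4) F, P = (Matrix.of u)ᵀ := ⟨_, rfl⟩
  have hcol : ∀ c, P *ᵥ c = ∑ i, c i • u i := fun c => by
    funext a
    rw [hP, Matrix.mulVec, dotProduct, Finset.sum_apply]
    exact Finset.sum_congr rfl fun i _ => by simp [mul_comm]
  have hinj : Function.Surjective P.mulVec := fun x =>
    ⟨_, (hcol _).trans (eq_sum_of_orth hf u h.orth h.aniso x).symm⟩
  obtain ⟨U, hU⟩ := Matrix.mulVec_surjective_iff_isUnit.mp hinj
  exact ⟨U, fun i => by rw [hU, Matrix.mulVec_single_one, hP]; rfl⟩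

/-- The signature of an element with signs on product frames. -/
theorem sig_frames (h2 : (2 : F) ≠ 0) {y : GL (Idx T 4) F} {gs : Fin T → GL (Fin 4) F} (hy : TWData y 1 gs)
    (us : Fin T → Fin 4 → Fin 4 → F) (ss : Fin T → Fin 4 → ℤ) (hu : ∀ l, Frame f (us l))
    (hs : ∀ l, Eig (gs l) (us l) (ss l)) : sig y = ∏ l, ∑ i, ss l i := by
  classical
  choose P hP using fun l => (hu l).exists_gl hf
  obtain ⟨D, hD⟩ : ∃ D : GL (Idx T 4) F, D = (tGL P)⁻¹ * y * tGL P := ⟨_, rfl⟩
  have hDv : D.val = Matrix.diagonal fun x => ((∏ l, ss l (x l) : ℤ) : F) := by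
    refine Matrix.ext_of_mulVec_single fun x => Transvec.mulVec_injective (tGL P) ?_
    simp only
    have e1 : Matrix.diagonal (fun x => ((∏ l, ss l (x l) : ℤ) : F)) *ᵥ Pi.single x 1 =
        ((∏ l, ss l (x l) : ℤ) : F) • Pi.single x 1 := by
      funext a
      by_cases ha : a = x
      · subst ha; simp [Matrix.mulVec_diagonal]
      · simp [Matrix.mulVec_diagonal, ha]
    rw [e1, hD, Transvec.mul_mulVec, Transvec.mul_mulVec, Transvec.mulVec_inv_cancel, mulVec_smul, single_eq_pv,
      tGL_apply, hy, Int.cast_prod]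
    have hpv : ∀ (c : Fin T → F) (xs : Fin T → Fin 4 → F), pv (fun l => c l • xs l) = (∏ l, c l) • pv xs :=
      fun c xs => by funext a; simp [pv, Finset.prod_mul_distrib]
    rw [← hpv]
    congr 1
    funext l
    rw [Equiv.Perm.one_apply, hP, (hs l).act]
  have hsgn : ∀ x : Idx T 4, (∏ l, ss l (x l)) = 1 ∨ (∏ l, ss l (x l)) = -1 := fun x => by
    refine Finset.prod_induction _ (fun z => z = 1 ∨ z = -1) ?_ (Or.inl rfl) fun l _ => (hs l).sgn _
    rintro a b (rfl | rfl) (rfl | rfl) <;> simp
  rw [show y = tGL P * D * (tGL P)⁻¹ by rw [hD]; group, sig_conj, sig_diag h2 hsgn hDv, Fintype.prod_sum]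

end Pure

end CfsgLib.Classical22.OFour
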