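/-
Unipotent isometries in dimension four without totally singular planes.
-/
import Cfsg.Agent.Lib.Classical22.OrthFour.Frame
import Cfsg.Agent.Lib.Classical22.OrthPower.Ms

set_option autoImplicit false
set_option linter.unusedSectionVars false
set_option linter.unusedSimpArgs false

namespace CfsgLib.Classical22.OFour

open Matrix CfsgLib.Transvec CfsgLib.Classical22.TensorMax CfsgLib.Classical22.TensorMax.SympO
open CfsgLib.Classical22.TensorMax.SpO (sym_zero_left sym_zero_right sym_sub_left sym_sub_right sym_quad_smul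
  sym_quad_add sym_eq sym_neg_left sym_outer sym_dot mem_perpIn NdSub nd_top nd_perpIn finrank_perpIn perpIn)
open CfsgLib.Classical22.TensorMax.OO (eA eA_mulVec eA_iso eA_mul eA_mul_neg eA_zero eA_sub_one_cube eA_sub_one_sq
  sym_neg_right pairW mem_pairW nd_pairW finrank_pairW exists_partner_sym eq_zero_of_pairW_singular)
open CfsgLib.Classical22.OPow (isoF mem_isoF rG rG_iso rG_apply rG_mul_self rG_val eU eU_val eU_iso)
open scoped MatrixGroups

variable {F : Type*} [Field F] {f : (Fin 4 → F) → (Fin 4 → F) → F} (hf : Cfsg.Geo.IsSymmetricForm f)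
include hf

lemma det_rG {v : Fin 4 → F} (hv : f v v ≠ 0) : (rG hf v).val.det = -1 := by
  rw [rG_val hf hv, SpO.refl, outer, sub_eq_add_neg, ← neg_smul, ← Matrix.smul_vecMulVec, vecMulVec_eq Unit,
    det_one_add_replicateCol_mul_replicateRow, dotProduct_smul, smul_eq_mul, ← sym_dot hf]
  field_simp
  norm_num

/-- The fixed vectors of an Eichler element. -/
lemma eA_fixed {e w x : Fin 4 → F} (he : e ≠ 0) (hee : f e e = 0) (hew : f e w = 0) (hw : f w w ≠ 0)
    (h : eA f e w *ᵥ x = x) : f x e = 0 ∧ f x w = 0 := by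
  rw [eA_mulVec hf] at h
  have h1 := congrArg (fun z => f z w) h
  simp only [hf.bilinear.add_left, sym_sub_left hf, hf.bilinear.smul_left, hew, mul_zero, sub_zero,
    add_eq_left, mul_eq_zero, hw, or_false] at h1
  refine ⟨h1, ?_⟩
  obtain ⟨y, hy⟩ : ∃ y, f e y ≠ 0 := (hf.nondegenerate e he).2
  have h2' := congrArg (fun z => f z y) h
  simp only [h1, zero_smul, add_zero, mul_zero, zero_mul, sub_zero, sym_sub_left hf, hf.bilinear.smul_left] at h2'
  exact (mul_eq_zero.mp (show f x w * f e y = 0 by linear_combination -h2')).resolve_right hy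

/-- An Eichler element is the product of two reflections. -/
lemma eU_eq_rG (h2 : (2 : F) ≠ 0) {e w : Fin 4 → F} (hee : f e e = 0) (hew : f e w = 0) (hw : f w w ≠ 0) :
    eU hf h2 e w = rG hf w * rG hf (w + (f w w / 2) • e) := by
  have hb : f (w + (f w w / 2) • e) (w + (f w w / 2) • e) = f w w := by
    rw [sym_quad_add hf, sym_quad_smul hf, hf.bilinear.smul_right, hee, hf.symm w e, hew]; ring
  have hb' : f (w + (f w w / 2) • e) (w + (f w w / 2) • e) ≠ 0 := fun h => hw (hb.symm.trans h)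
  refine Transvec.gl_ext fun y => ?_
  rw [eU_val hf h2 hee hew, eA_mulVec hf, Transvec.mul_mulVec, rG_apply hf hw, rG_apply hf hb', hb]
  simp only [sym_sub_left hf, hf.bilinear.smul_left, hf.bilinear.add_left, hf.bilinear.add_right,
    hf.bilinear.smul_right, hew, hf.symm w e]
  match_scalars <;> field_simp <;> ring

lemma eU_ne_one (h2 : (2 : F) ≠ 0) {e w : Fin 4 → F} (he : e ≠ 0) (hee : f e e = 0) (hew : f e w = 0)
    (hw : f w w ≠ 0) : eU hf h2 e w ≠ 1 := fun h => by
  obtain ⟨y, hy⟩ : ∃ y, f e y ≠ 0 := (hf.nondegenerate e he).2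
  refine hy ?_
  rw [hf.symm]
  refine (eA_fixed hf he hee hew hw (x := y) ?_).1
  rw [← eU_val hf h2 hee hew, h, Units.val_one, one_mulVec]

lemma eU_pow_char (h2 : (2 : F) ≠ 0) (p : ℕ) [Fact p.Prime] [CharP F p] {e w : Fin 4 → F} (hee : f e e = 0)
    (hew : f e w = 0) : eU hf h2 e w ^ p = 1 := by
  have hp3 : 3 ≤ p := by
    have := (Fact.out : p.Prime).two_le
    rcases Nat.lt_or_ge p 3 with h | h
    · obtain rfl : p = 2 := by omega
      exact absurd (by simpa using CharP.cast_eq_zero F 2) h2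
    · exact h
  refine Units.ext ?_
  rw [Units.val_pow_eq_pow_val, Units.val_one, eU_val hf h2 hee hew, ← sub_eq_zero]
  have h1 := eA_sub_one_cube hf hee hew
  have h3 : (eA f e w - 1) ^ p = eA f e w ^ p - 1 := by
    rw [sub_pow_char_of_commute p (Commute.one_right _), one_pow]
  rw [← h3, show p = 3 + (p - 3) by omega, pow_add, pow_succ', pow_two]
  first
    | rw [h1, zero_mul]
    | (rw [← mul_assoc, h1, zero_mul])

variable [Fintype F] (h2 : (2 : F) ≠ 0)
include h2

/-- An isometry moving one vector to another of equal value, fixing a third. -/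
lemma exists_move {a w w' : Fin 4 → F} (ha : f a a ≠ 0) (hwa : f w a = 0) (hw'a : f w' a = 0)
    (he : f w w = f w' w') (hw : f w w ≠ 0) :
    ∃ B ∈ isoF f, B.val.det = 1 ∧ B.val *ᵥ a = a ∧ B.val *ᵥ w = w' := by
  by_cases hd : f (w - w') (w - w') = 0
  · have hd' : f (w + w') (w + w') ≠ 0 := by
      intro h0
      rw [sym_quad_add hf] at h0
      simp only [sym_sub_left hf, sym_sub_right hf, hf.symm w' w] at hd
      exact hw ((mul_eq_zero.mp ((mul_eq_zero.mp (show 2 * (2 * f w w) = 0 by linear_combination h0 + hd + 2 * he))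
        |>.resolve_left h2)).resolve_left h2)
    have hw' : f w' w' ≠ 0 := he ▸ hw
    refine ⟨rG hf w' * rG hf (w + w'), mul_mem (rG_iso hf _) (rG_iso hf _), ?_, ?_, ?_⟩
    · rw [Units.val_mul, det_mul, det_rG hf hw', det_rG hf hd']; ring
    · rw [Transvec.mul_mulVec, rG_apply hf hd', show f a (w + w') = 0 by
        rw [hf.bilinear.add_right, hf.symm, hwa, hf.symm, hw'a, add_zero], mul_zero, zero_smul, sub_zero,
        rG_apply hf hw', hf.symm a w', hw'a, mul_zero, zero_smul, sub_zero]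
    · have e : 2 / f (w + w') (w + w') * f w (w + w') = 1 := by
        rw [div_mul_eq_mul_div, div_eq_one_iff_eq hd', sym_quad_add hf, hf.bilinear.add_right]
        linear_combination he
      rw [Transvec.mul_mulVec, rG_apply hf hd', e, one_smul, show w - (w + w') = -w' by abel, mulVec_neg,
        rG_apply hf hw', div_mul_cancel₀ _ hw', two_smul]
      abel
  · obtain ⟨W, hW, hdW, hp⟩ := exists_perp hf h2 [a, w'] (by simp [hf.symm a w', hw'a])
      (by simp [ha, ← he, hw])
    simp only [List.length_cons, List.length_nil] at hdW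
    obtain ⟨y, hy, hyq⟩ := SpO.exists_aniso hf h2 hW (by omega)
    obtain ⟨hya, hyw⟩ : f y a = 0 ∧ f y w' = 0 := by simpa using (hp y).mp hy
    refine ⟨rG hf y * rG hf (w - w'), mul_mem (rG_iso hf _) (rG_iso hf _), ?_, ?_, ?_⟩
    · rw [Units.val_mul, det_mul, det_rG hf hyq, det_rG hf hd]; ring
    · rw [Transvec.mul_mulVec, rG_apply hf hd, show f a (w - w') = 0 by
        rw [sym_sub_right hf, hf.symm, hwa, hf.symm, hw'a, sub_zero], mul_zero, zero_smul, sub_zero,
        rG_apply hf hyq, hf.symm a y, hya, mul_zero, zero_smul, sub_zero]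
    · have e : 2 / f (w - w') (w - w') * f w (w - w') = 1 := by
        rw [div_mul_eq_mul_div, div_eq_one_iff_eq hd]
        simp only [sym_sub_left hf, sym_sub_right hf, hf.symm w' w]
        linear_combination he
      rw [Transvec.mul_mulVec, rG_apply hf hd, e, one_smul, sub_sub_cancel, rG_apply hf hyq, hf.symm w' y, hyw,
        mul_zero, zero_smul, sub_zero]

omit h2 in
/-- A nilpotent map has a kernel vector modulo a proper invariant subspace. -/
lemma exists_ker_mod {N : Matrix (Fin 4) (Fin 4) F} (hN : IsNilpotent N) {S W : Submodule F (Fin 4 → F)}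
    (hW : ∀ x ∈ W, N *ᵥ x ∈ W) {x : Fin 4 → F} (hx : x ∈ W) (hxS : x ∉ S) :
    ∃ z ∈ W, z ∉ S ∧ N *ᵥ z ∈ S := by
  obtain ⟨n, hn⟩ := hN
  by_contra hno
  push Not at hno
  have : ∀ j, (N ^ j) *ᵥ x ∈ W ∧ (N ^ j) *ᵥ x ∉ S := by
    intro j
    induction j with
    | zero => simpa using ⟨hx, hxS⟩
    | succ j ih => rw [pow_succ', ← mulVec_mulVec]; exact ⟨hW _ ih.1, hno _ ih.1 ih.2⟩
  exact (this n).2 (by rw [hn, zero_mulVec]; exact S.zero_mem)

variable (hn : NoLine f) (p : ℕ) [Fact p.Prime] [CharP F p]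
include hn p

/-- An element of order `p` fixes a singular vector. -/
lemma exists_fixed_singular {A : GL (Fin 4) F} (hA : A ∈ isoF f) (hAp : A ^ p = 1) (h1 : A ≠ 1) :
    ∃ e, e ≠ 0 ∧ f e e = 0 ∧ A.val *ᵥ e = e := by
  classical
  have hN : IsNilpotent (A.val - 1) := ⟨p, by
    rw [sub_pow_char_of_commute p (Commute.one_right _), one_pow, ← Units.val_pow_eq_pow_val, hAp, Units.val_one,
      sub_self]⟩
  suffices h : ∀ (n : ℕ) (W : Submodule F (Fin 4 → F)), Module.finrank F W ≤ n → NdSub f W →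
      (∀ x ∈ W, A.val *ᵥ x ∈ W) → (∀ x ∈ W, A.val *ᵥ x = x) ∨ ∃ e, e ≠ 0 ∧ f e e = 0 ∧ A.val *ᵥ e = e by
    rcases h 4 ⊤ (by rw [finrank_top, Module.finrank_fin_fun]) (nd_top hf) (fun _ _ => trivial) with h | h
    · exact absurd (Transvec.gl_ext fun x => by rw [h x trivial, Units.val_one, one_mulVec]) h1
    · exact h
  intro n
  induction n with
  | zero =>
    intro W hd _ _
    left
    intro x hx
    have : W = ⊥ := Submodule.finrank_eq_zero.mp (by omega)
    rw [this, Submodule.mem_bot] at hx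
    rw [hx, mulVec_zero]
  | succ n ih =>
    intro W hd hnd hW
    by_cases hW0 : W = ⊥
    · left; intro x hx; rw [hW0, Submodule.mem_bot] at hx; rw [hx, mulVec_zero]
    obtain ⟨x, hx, hx0⟩ := Submodule.exists_mem_ne_zero_of_ne_bot hW0
    obtain ⟨z, hzW, hz0, hNz⟩ := exists_ker_mod hf hN (S := ⊥)
      (fun y hy => by rw [sub_mulVec, one_mulVec]; exact W.sub_mem (hW y hy) hy) hx (by simpa using hx0)
    rw [Submodule.mem_bot] at hNz hz0
    rw [sub_mulVec, one_mulVec, sub_eq_zero] at hNz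
    by_cases hq : f z z = 0
    · exact Or.inr ⟨z, hz0, hq, hNz⟩
    refine (ih (perpIn f W z) ?_ (nd_perpIn hf hnd hzW hq) fun y hy => ?_).imp_left fun h y hy => ?_
    · have hlt : perpIn f W z < W := lt_of_le_of_ne (fun y hy => ((mem_perpIn hf).mp hy).1)
        fun h => hq ((mem_perpIn hf).mp (h ▸ hzW)).2
      have := Submodule.finrank_lt_finrank_of_lt hlt
      omega
    · obtain ⟨hyW, hyz⟩ := (mem_perpIn hf).mp hy
      exact (mem_perpIn hf).mpr ⟨hW y hyW, by rw [← hNz, hA, hyz]⟩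
    · obtain ⟨c, hc⟩ : ∃ c, c = f y z / f z z := ⟨_, rfl⟩
      have hm : y - c • z ∈ perpIn f W z := (mem_perpIn hf).mpr ⟨W.sub_mem hy (W.smul_mem _ hzW), by
        rw [sym_sub_left hf, hf.bilinear.smul_left, hc, div_mul_cancel₀ _ hq, sub_self]⟩
      have := h _ hm
      rw [mulVec_sub, mulVec_smul, hNz] at this
      linear_combination (norm := abel) this

/-- The elements of order `p` are Eichler elements. -/
theorem exists_eU {A : GL (Fin 4) F} (hA : A ∈ isoF f) (hAp : A ^ p = 1) (h1 : A ≠ 1) :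
    ∃ e w, e ≠ 0 ∧ f e e = 0 ∧ f e w = 0 ∧ f w w ≠ 0 ∧ A = eU hf h2 e w := by
  classical
  obtain ⟨e, he, hee, hAe⟩ := exists_fixed_singular hf h2 hn p hA hAp h1
  obtain ⟨e', he', hee', he'e⟩ := exists_partner_sym hf h2 he hee
  have hN : IsNilpotent (A.val - 1) := ⟨p, by
    rw [sub_pow_char_of_commute p (Commute.one_right _), one_pow, ← Units.val_pow_eq_pow_val, hAp, Units.val_one,
      sub_self]⟩
  have hpn : ∀ x, f x e = 0 → f x e' = 0 → f x x = 0 → x = 0 := fun x h h' h'' =>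
    eq_zero_of_pairW_singular hf hn hee hee' h h' h''
  obtain ⟨E, hE⟩ : ∃ E, E = perpIn f ⊤ e := ⟨_, rfl⟩
  have hmE : ∀ x, x ∈ E ↔ f x e = 0 := fun x => by rw [hE, mem_perpIn hf]; simp
  have hinv : ∀ x ∈ E, (A.val - 1) *ᵥ x ∈ E := fun x hx => by
    rw [sub_mulVec, one_mulVec]
    refine E.sub_mem ((hmE _).mpr ?_) hx
    rw [← hAe, hA, (hmE x).mp hx]
  obtain ⟨x₀, hx₀, hq₀⟩ := SpO.exists_aniso hf h2 (nd_pairW hf hee he' hee')
    (by have := finrank_pairW hf e e'; omega)
  obtain ⟨hx₀e, hx₀e'⟩ := (mem_pairW hf).mp hx₀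
  obtain ⟨z₁, hz₁E, hz₁s, hNz⟩ := exists_ker_mod hf hN (S := Submodule.span F {e}) hinv ((hmE x₀).mpr hx₀e)
    fun h => by
      obtain ⟨c, rfl⟩ := Submodule.mem_span_singleton.mp h
      rw [sym_quad_smul hf, hee, mul_zero] at hq₀
      exact hq₀ rfl
  -- the vector of the plane
  obtain ⟨z, hz⟩ : ∃ z, z = z₁ - f z₁ e' • e := ⟨_, rfl⟩
  have hze : f z e = 0 := by rw [hz, sym_sub_left hf, hf.bilinear.smul_left, hee, (hmE _).mp hz₁E]; ring
  have hze' : f z e' = 0 := by rw [hz, sym_sub_left hf, hf.bilinear.smul_left, hee']; ring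
  have hz0 : z ≠ 0 := fun h => hz₁s (Submodule.mem_span_singleton.mpr ⟨f z₁ e', (sub_eq_zero.mp (hz ▸ h)).symm⟩)
  have hzq : f z z ≠ 0 := fun h => hz0 (hpn z hze hze' h)
  obtain ⟨a, ha⟩ : ∃ a : F, A.val *ᵥ z = z + a • e := by
    obtain ⟨c, hc⟩ := Submodule.mem_span_singleton.mp hNz
    refine ⟨c, ?_⟩
    rw [sub_mulVec, one_mulVec] at hc
    rw [hz, mulVec_sub, mulVec_smul, hAe, hc]
    abel
  -- its partner
  obtain ⟨z', hz', hz'q⟩ := SpO.exists_aniso hf h2
    (nd_perpIn hf (nd_pairW hf hee he' hee') ((mem_pairW hf).mpr ⟨hze, hze'⟩) hzq)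
    (by have := finrank_pairW hf e e'; have := finrank_perpIn hf (pairW f e e') z; omega)
  obtain ⟨hz'W, hz'z⟩ := (mem_perpIn hf).mp hz'
  obtain ⟨hz'e, hz'e'⟩ := (mem_pairW hf).mp hz'W
  have hdec : ∀ u, u = f u e' • e + f u e • e' + (f u z / f z z) • z + (f u z' / f z' z') • z' := by
    intro u
    obtain ⟨r, hr⟩ : ∃ r, r = u - (f u e' • e + f u e • e' + (f u z / f z z) • z + (f u z' / f z' z') • z') :=
      ⟨_, rfl⟩
    have r1 : f r e = 0 := by
      rw [hr, sym_sub_left hf]
      simp only [hf.bilinear.add_left, hf.bilinear.smul_left, hee, he'e, hze, hz'e]; ring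
    have r2 : f r e' = 0 := by
      rw [hr, sym_sub_left hf]
      simp only [hf.bilinear.add_left, hf.bilinear.smul_left, he', hee', hze', hz'e']; ring
    have r3 : f r z = 0 := by
      rw [hr, sym_sub_left hf]
      simp only [hf.bilinear.add_left, hf.bilinear.smul_left, hf.symm e z, hze, hf.symm e' z, hze', hz'z]
      field_simp; ring
    have r4 : f r z' = 0 := by
      rw [hr, sym_sub_left hf]
      simp only [hf.bilinear.add_left, hf.bilinear.smul_left, hf.symm e z', hz'e, hf.symm e' z', hz'e',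
        hf.symm z z', hz'z]
      field_simp; ring
    have hr0 : r = 0 := by
      refine hpn r r1 r2 ?_
      by_contra hq
      -- three orthogonal anisotropic vectors in the plane
      obtain ⟨W, hW, hd, hp'⟩ := exists_perp hf h2 [z, z', r]
        (by simp [hf.symm z z', hz'z, hf.symm z r, r3, hf.symm z' r, r4]) (by simp [hzq, hz'q, hq])
      simp only [List.length_cons, List.length_nil] at hd
      obtain ⟨y, hy, hyq⟩ := SpO.exists_aniso hf h2 hW (by omega)
      have hew : ∀ v, (∀ x ∈ [z, z', r], f v x = 0) → ∃ c : F, v = c • y := fun v hv => by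
        have hF : Frame f ![z, z', r, y] := ⟨fun i j hij => by
          obtain ⟨y1, y2, y3⟩ : f y z = 0 ∧ f y z' = 0 ∧ f y r = 0 := by simpa using (hp' y).mp hy
          fin_cases i <;> fin_cases j <;>
            first
              | exact absurd rfl hij
              | simp [hf.symm z z', hz'z, hf.symm z r, r3, hf.symm z' r, r4, y1, y2, y3, hf.symm z y, hf.symm z' y,
                  hf.symm r y],
          fun i => by fin_cases i <;> assumption⟩
        obtain ⟨v1, v2, v3⟩ : f v z = 0 ∧ f v z' = 0 ∧ f v r = 0 := by simpa using hv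
        refine ⟨f v y / f y y, ?_⟩
        conv_lhs => rw [OO.eq_sum_of_orth hf _ hF.orth hF.aniso v]
        simp [Fin.sum_univ_four, v1, v2, v3]
      obtain ⟨c₁, hc₁⟩ := hew e (by simp [hf.symm e z, hze, hf.symm e z', hz'e, hf.symm e r, r1])
      obtain ⟨c₂, hc₂⟩ := hew e' (by simp [hf.symm e' z, hze', hf.symm e' z', hz'e', hf.symm e' r, r2])
      have h' := hee'
      rw [hc₁, hc₂, hf.bilinear.smul_left, hf.bilinear.smul_right] at h'
      have h'' := hee
      rw [hc₁, sym_quad_smul hf, mul_eq_zero] at h''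
      rcases h'' with h'' | h''
      · rw [mul_self_eq_zero.mp h'', zero_mul] at h'; exact zero_ne_one h'
      · exact hyq h''
    exact sub_eq_zero.mp (hr ▸ hr0)
  obtain ⟨β, hβ⟩ : ∃ β : F, A.val *ᵥ z' = z' + β • e := by
    have h1' : f (A.val *ᵥ z') e = 0 := by rw [← hAe, hA, hz'e]
    have h3 : f (A.val *ᵥ z') z = 0 := by
      have h := hA z' z
      rw [ha, hf.bilinear.add_right, hf.bilinear.smul_right, h1', mul_zero, add_zero, hz'z] at h
      exact h
    obtain ⟨μ, hμ⟩ : ∃ μ, μ = f (A.val *ᵥ z') z' / f z' z' := ⟨_, rfl⟩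
    obtain ⟨β, hβ⟩ : ∃ β, β = f (A.val *ᵥ z') e' := ⟨_, rfl⟩
    have e1 : A.val *ᵥ z' = β • e + μ • z' := by
      conv_lhs => rw [hdec (A.val *ᵥ z'), h1', h3, ← hμ, ← hβ]
      simp
    have hμ1 : μ = 1 := by
      obtain ⟨n, hn'⟩ := hN
      have : ∀ j, ∃ b : F, ((A.val - 1) ^ j) *ᵥ z' = (μ - 1) ^ j • z' + b • e := fun j => by
        induction j with
        | zero => exact ⟨0, by simp⟩
        | succ j ih =>
          obtain ⟨b, hb⟩ := ih
          refine ⟨(μ - 1) ^ j * β, ?_⟩
          rw [pow_succ', ← mulVec_mulVec, hb, mulVec_add, mulVec_smul, mulVec_smul, sub_mulVec, one_mulVec,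
            sub_mulVec, one_mulVec, e1, hAe, sub_self, smul_zero, add_zero, pow_succ]
          module
      obtain ⟨b, hb⟩ := this n
      rw [hn', zero_mulVec] at hb
      have h := congrArg (fun v => f v z') hb
      simp only [sym_zero_left hf, hf.bilinear.add_left, hf.bilinear.smul_left, hf.symm e z', hz'e, mul_zero,
        add_zero] at h
      exact sub_eq_zero.mp (pow_eq_zero_iff'.mp ((mul_eq_zero.mp h.symm).resolve_right hz'q)).1
    exact ⟨β, by rw [e1, hμ1, one_smul, add_comm]⟩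
  obtain ⟨w, hw⟩ : ∃ w, w = (-a / f z z) • z + (-β / f z' z') • z' := ⟨_, rfl⟩
  have hew : f e w = 0 := by
    rw [hw, hf.bilinear.add_right, hf.bilinear.smul_right, hf.bilinear.smul_right, hf.symm e z, hze, hf.symm e z',
      hz'e]; ring
  have hwe' : f w e' = 0 := by
    rw [hw, hf.bilinear.add_left, hf.bilinear.smul_left, hf.bilinear.smul_left, hze', hz'e']; ring
  obtain ⟨B, hB⟩ : ∃ B, B = eU hf h2 e w := ⟨_, rfl⟩
  have hBi : B ∈ isoF f := hB ▸ eU_iso hf h2 _ _
  have hBv : ∀ x, B.val *ᵥ x = eA f e w *ᵥ x := fun x => by rw [hB, eU_val hf h2 hee hew]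
  have hzw : f z w = -a := by
    rw [hw, hf.bilinear.add_right, hf.bilinear.smul_right, hf.bilinear.smul_right, hf.symm z z', hz'z]
    field_simp; ring
  have hz'w : f z' w = -β := by
    rw [hw, hf.bilinear.add_right, hf.bilinear.smul_right, hf.bilinear.smul_right, hz'z]
    field_simp; ring
  have k1 : B.val *ᵥ e = e := by rw [hBv, eA_mulVec hf, hee, hew]; simp
  have k2 : B.val *ᵥ z = A.val *ᵥ z := by rw [hBv, eA_mulVec hf, hze, hzw, ha]; module
  have k3 : B.val *ᵥ z' = A.val *ᵥ z' := by rw [hBv, eA_mulVec hf, hz'e, hz'w, hβ]; module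
  have k4 : B.val *ᵥ e' = A.val *ᵥ e' := by
    obtain ⟨d, hd⟩ : ∃ d, d = A.val *ᵥ e' - B.val *ᵥ e' := ⟨_, rfl⟩
    have hperp : ∀ x, B.val *ᵥ x = A.val *ᵥ x → f d (A.val *ᵥ x) = 0 := fun x hx => by
      rw [hd, sym_sub_left hf, hA, ← hx, hBi, sub_self]
    have d1 : f d e = 0 := by
      have := hperp e (by rw [k1, hAe])
      rwa [hAe] at this
    have d2 : f d z = 0 := by
      have := hperp z k2
      rwa [ha, hf.bilinear.add_right, hf.bilinear.smul_right, d1, mul_zero, add_zero] at this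
    have d3 : f d z' = 0 := by
      have := hperp z' k3
      rwa [hβ, hf.bilinear.add_right, hf.bilinear.smul_right, d1, mul_zero, add_zero] at this
    have hd' : d = f d e' • e := by
      conv_lhs => rw [hdec d, d1, d2, d3]
      simp
    have hAd : A.val *ᵥ e' = B.val *ᵥ e' + f d e' • e := by rw [← hd', hd]; abel
    have h := hA e' e'
    rw [he', hAd, sym_quad_add hf, hBi, he', sym_quad_smul hf, hee, hf.bilinear.smul_right] at h
    have hBe : f (B.val *ᵥ e') e = 1 := by
      have := hBi e' e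
      rwa [k1, he'e] at this
    rw [hBe] at h
    have h0 : f d e' = 0 := (mul_eq_zero.mp (show (2 : F) * f d e' = 0 by linear_combination h)).resolve_left h2
    rw [hAd, h0, zero_smul, add_zero]
  have hAB : A = B := Transvec.gl_ext fun x => by
    rw [hdec x]
    simp only [mulVec_add, mulVec_smul, k1, k2, k3, k4, hAe]
  refine ⟨e, w, he, hee, hew, fun h => h1 ?_, hAB.trans hB⟩
  rw [hAB, hB, hpn w (by rw [hf.symm, hew]) hwe' h]
  exact Units.ext (by rw [eU_val hf h2 hee (sym_zero_right hf e), eA_zero hf, Units.val_one])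

/-- Commuting Eichler elements share their singular vector. -/
theorem eU_line {e w e' w' : Fin 4 → F} (he : e ≠ 0) (hee : f e e = 0) (hew : f e w = 0) (hw : f w w ≠ 0)
    (he0 : e' ≠ 0) (hee' : f e' e' = 0) (hew' : f e' w' = 0) (hw' : f w' w' ≠ 0)
    (h : eU hf h2 e w * eU hf h2 e' w' = eU hf h2 e' w' * eU hf h2 e w) :
    ∃ c : F, c ≠ 0 ∧ e' = c • e := by
  obtain ⟨B, hB⟩ : ∃ B, B = eU hf h2 e' w' := ⟨_, rfl⟩
  obtain ⟨A, hAd⟩ : ∃ A, A = eU hf h2 e w := ⟨_, rfl⟩
  rw [← hB, ← hAd] at h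
  obtain ⟨y, hy⟩ : ∃ y, f y e ≠ 0 := (hf.nondegenerate e he).1
  have hsq : ∀ x, (A.val - 1) *ᵥ ((A.val - 1) *ᵥ x) = (-(f x e * f w w)) • e := fun x => by
    rw [hAd, eU_val hf h2 hee hew]
    simpa [mul_comm] using eA_sub_one_sq hf hee hew x
  obtain ⟨c, hc⟩ : ∃ c : F, B.val *ᵥ e = c • e := by
    have hcm : ∀ x, (A.val - 1) *ᵥ (B.val *ᵥ x) = B.val *ᵥ ((A.val - 1) *ᵥ x) := fun x => by
      rw [sub_mulVec, sub_mulVec, one_mulVec, one_mulVec, mulVec_sub, ← Transvec.mul_mulVec, ← Transvec.mul_mulVec, h]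
    have h1 := hsq (B.val *ᵥ y)
    rw [hcm, hcm, hsq, mulVec_smul] at h1
    have h3 := congrArg ((-(f y e * f w w))⁻¹ • ·) h1
    simp only [smul_smul, inv_mul_cancel₀ (neg_ne_zero.mpr (mul_ne_zero hy hw)), one_smul] at h3
    exact ⟨_, h3⟩
  have hBN : IsNilpotent (B.val - 1) := ⟨3, by
    rw [hB, eU_val hf h2 hee' hew', pow_succ', pow_two]
    first
      | exact eA_sub_one_cube hf hee' hew'
      | (rw [← mul_assoc]; exact eA_sub_one_cube hf hee' hew')⟩
  have hc1 : c = 1 := by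
    obtain ⟨n, hn'⟩ := hBN
    have : ∀ j, ((B.val - 1) ^ j) *ᵥ e = (c - 1) ^ j • e := fun j => by
      induction j with
      | zero => simp
      | succ j ih => rw [pow_succ', ← mulVec_mulVec, ih, mulVec_smul, sub_mulVec, one_mulVec, hc, pow_succ]; module
    have h1 := this n
    rw [hn', zero_mulVec] at h1
    exact sub_eq_zero.mp (pow_eq_zero_iff'.mp ((smul_eq_zero.mp h1.symm).resolve_right he)).1
  rw [hc1, one_smul, hB, eU_val hf h2 hee' hew'] at hc
  obtain ⟨h1, -⟩ := eA_fixed hf he0 hee' hew' hw' hc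
  obtain ⟨d, hd⟩ := Submodule.mem_span_singleton.mp (hn e e' he hee hee' h1)
  exact ⟨d, fun h0 => he0 (by rw [← hd, h0, zero_smul]), hd.symm⟩

end CfsgLib.Classical22.OFour
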