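/-
The setting of a group containing the stabiliser of a tensor power of four-dimensional spaces, root subspaces,
and a finite dihedral lemma.
-/
import Cfsg.Agent.Lib.Classical22.OrthFour.Sig
import Cfsg.Agent.Lib.Classical22.OrthFour.Unip
import Cfsg.Agent.Lib.Classical22.OrthPower.Three.Final
import Cfsg.Agent.Lib.Classical22.TensorWreathMax.NoEven

set_option autoImplicit false
set_option linter.unusedSectionVars false
set_option linter.unusedSimpArgs false

namespace CfsgLib.Classical22.OFour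

open Matrix CfsgLib.Transvec CfsgLib.Classical22.TensorMax CfsgLib.Classical22.TensorMax.SympO
open CfsgLib.Classical22.TensorMax.SpO (sym_outer sym_zero_left)
open CfsgLib.Classical22.TensorMax.OO (eA eA_sub_one_sq)
open CfsgLib.Classical22.TWMax (Idx pv emb emb_one emb_mul emb_smul emb_mulVec_pv slotEl slotEl_val slotEl_mul
  slotEl_data slotEl_injective TWData IsTW twData_one_unique slotW pv_mem_slotW slotW_le gim gim_mul
  gim_inv_gim)
open CfsgLib.Classical22.OPow (PIso isoF mem_isoF rG eU eU_val isTW_mul isTW_inv emb_sub slotEl_commute)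
open scoped MatrixGroups

/-- The two facts about the involution of a dihedral group. -/
theorem exists_central {G : Type*} [Group G] [Finite G] {H : Subgroup G} {t T : G} (ht : t ∈ H) (hT : T ∈ H)
    (ht2 : t * t = 1) (hT2 : T * T = 1) (hne : ∀ k ∈ H, k * t * k⁻¹ ≠ T) :
    ∃ c ∈ H, c * c = 1 ∧ c ≠ 1 ∧ c * t = t * c ∧ c * T = T * c ∧
      ((∃ k ∈ H, k * t * k⁻¹ = t * c) ∧ (∃ k ∈ H, k * T * k⁻¹ = T * c) ∨
        (∃ k ∈ H, k * T * k⁻¹ = t * c) ∧ (∃ k ∈ H, k * t * k⁻¹ = T * c)) := by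
  obtain ⟨R, hR⟩ : ∃ R, R = t * T := ⟨_, rfl⟩
  have hRH : R ∈ H := hR ▸ H.mul_mem ht hT
  have hti : t⁻¹ = t := inv_eq_of_mul_eq_one_right ht2
  have hTi : T⁻¹ = T := inv_eq_of_mul_eq_one_right hT2
  have hfl : ∀ n : ℕ, t * R ^ n = (R ^ n)⁻¹ * t := fun n => by
    rw [hR, ← OPow.Three.pow_conj_left ht2 hT2 n, mul_assoc _ t t, ht2, mul_one]
  have hT' : T = t * R := by rw [hR, ← mul_assoc, ht2, one_mul]
  have hfT : ∀ n : ℕ, T * R ^ n = (R ^ n)⁻¹ * T := fun n => by
    rw [hT', mul_assoc, show R * R ^ n = R ^ n * R from ((Commute.self_pow R n)).eq, ← mul_assoc, hfl, mul_assoc]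
  obtain ⟨n, hn⟩ : ∃ n, n = orderOf R := ⟨_, rfl⟩
  have hn0 : 0 < n := hn ▸ orderOf_pos _
  have hpow : R ^ n = 1 := hn ▸ pow_orderOf_eq_one _
  -- conjugation by powers
  have cj : ∀ (x : G) (j : ℕ), x * R ^ j = (R ^ j)⁻¹ * x → (R ^ j)⁻¹ * x * (R ^ j)⁻¹⁻¹ = x * (R ^ j * R ^ j) :=
    fun x j h => by rw [inv_inv, ← h, mul_assoc]
  rcases Nat.even_or_odd n with ⟨m, hm⟩ | ⟨m, hm⟩
  · obtain ⟨c, hc⟩ : ∃ c, c = R ^ m := ⟨_, rfl⟩
    have hc2 : c * c = 1 := by rw [hc, ← pow_add, ← hm, hpow]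
    have hci : c⁻¹ = c := inv_eq_of_mul_eq_one_right hc2
    refine ⟨c, hc ▸ H.pow_mem hRH m, hc2, fun h => ?_, ?_, ?_, ?_⟩
    · exact pow_ne_one_of_lt_orderOf (x := R) (by omega) (by omega) (hc ▸ h)
    · rw [hc, hfl, ← hc, hci]
    · rw [hc, hfT, ← hc, hci]
    rcases Nat.even_or_odd m with ⟨r, hr⟩ | ⟨r, hr⟩
    · left
      have hjr : R ^ r * R ^ r = c := by rw [hc, hr, pow_add]
      exact ⟨⟨_, H.inv_mem (H.pow_mem hRH r), (cj t r (hfl r)).trans (by rw [hjr])⟩,
        ⟨_, H.inv_mem (H.pow_mem hRH r), (cj T r (hfT r)).trans (by rw [hjr])⟩⟩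
    · right
      have hjr : R ^ r * R ^ r * R = c := by rw [hc, hr, two_mul, pow_succ, pow_add]
      refine ⟨⟨_, H.inv_mem (H.pow_mem hRH r), (cj T r (hfT r)).trans ?_⟩,
        ⟨_, H.inv_mem (H.pow_mem hRH (r + 1)), (cj t (r + 1) (hfl (r + 1))).trans ?_⟩⟩
      · rw [hT', ← hjr]; group
      · rw [hT', ← hjr]; group
  · exfalso
    refine hne _ (H.inv_mem (H.pow_mem hRH (m + 1))) ?_
    rw [cj t (m + 1) (hfl (m + 1)), ← pow_add, show m + 1 + (m + 1) = n + 1 by omega, pow_succ, hpow, one_mul, hT']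

variable {F : Type*} [Field F] {t : ℕ} {f : (Fin 4 → F) → (Fin 4 → F) → F}

/-- A group of isometries above the stabiliser of the tensor power. -/
structure Ctx4 [Fintype F] (f : (Fin 4 → F) → (Fin 4 → F) → F) (M : Subgroup (GL (Idx (t + 2) 4) F)) : Prop where
  sym : Cfsg.Geo.IsSymmetricForm f
  two : (2 : F) ≠ 0
  noline : NoLine f
  iso : ∀ g ∈ M, PIso f g
  slot : ∀ s, ∀ A ∈ isoF f, A.val.det = 1 → slotEl s A ∈ M
  flag : ∀ g ∈ M, ∀ (s : Fin (t + 2)) (e : Fin 4 → F), e ≠ 0 → f e e = 0 →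
    gim g (slotW s e) = slotW s e → IsTW g
  move : ∀ (i l : Fin (t + 2)) (z e : Fin 4 → F), z ≠ 0 → f z z = 0 → e ≠ 0 → f e e = 0 →
    ∃ n ∈ M, IsTW n ∧ gim n (slotW i z) = slotW l e

section Slots
variable {T : ℕ}

lemma slot_one (s : Fin (T + 1)) : slotEl s (1 : GL (Fin 4) F) = 1 :=
  Units.ext (by simp [slotEl_val, emb_one])

lemma slot_pow (s : Fin (T + 1)) (B : GL (Fin 4) F) (n : ℕ) : slotEl s B ^ n = slotEl s (B ^ n) := by
  induction n with
  | zero => rw [pow_zero, pow_zero, slot_one]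
  | succ n ih => rw [pow_succ, pow_succ, ih, slotEl_mul]

/-- A non-scalar slot element determines its slot and matrix. -/
lemma slotEl_eq {s j : Fin (T + 1)} {A B : GL (Fin 4) F} (hA : ∀ c : F, A.val ≠ c • 1)
    (h : slotEl s A = slotEl j B) : s = j ∧ A = B := by
  by_cases hsj : s = j
  · subst hsj; exact ⟨rfl, slotEl_injective (by norm_num) s h⟩
  · exfalso
    have h1 := (slotEl_data s A).mul (slotEl_data j B).inv
    rw [h, mul_inv_cancel] at h1
    obtain ⟨c, hc⟩ := (twData_one_unique (by norm_num) h1).2 s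
    refine hA c (Matrix.ext_iff_mulVec.mpr fun x => ?_)
    have := hc x
    simp [Ne.symm hsj, hsj, Equiv.Perm.one_symm] at this
    simpa [Matrix.smul_mulVec] using this

lemma slotEl_inv' (s : Fin (T + 1)) (A : GL (Fin 4) F) : (slotEl s A)⁻¹ = slotEl s A⁻¹ :=
  inv_eq_of_mul_eq_one_right (by rw [slotEl_mul, mul_inv_cancel, slot_one])

lemma slotEl_tw (s : Fin (T + 1)) (A : GL (Fin 4) F) : IsTW (slotEl s A) := ⟨_, _, slotEl_data s A⟩

lemma slotEl_conj (s : Fin (T + 1)) (A B : GL (Fin 4) F) :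
    slotEl s A * slotEl s B * (slotEl s A)⁻¹ = slotEl s (A * B * A⁻¹) := by
  rw [slotEl_inv', slotEl_mul, slotEl_mul]

lemma slotEl_comm_iff (s : Fin (T + 1)) {A B : GL (Fin 4) F} :
    slotEl s A * slotEl s B = slotEl s B * slotEl s A ↔ A * B = B * A := by
  rw [slotEl_mul, slotEl_mul]
  exact ⟨fun h => slotEl_injective (by norm_num) s h, fun h => by rw [h]⟩

/-- The subspace of a slot as a range. -/
lemma range_emb_outer (hf : Cfsg.Geo.IsSymmetricForm f) (s : Fin (T + 1)) {e : Fin 4 → F} (he : e ≠ 0) :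
    LinearMap.range (Matrix.mulVecLin (emb (F := F) s (outer f e e))) = slotW s e := by
  classical
  refine le_antisymm ?_ (slotW_le fun xs hxs => ?_)
  · rintro _ ⟨v, rfl⟩
    rw [Matrix.mulVecLin_apply]
    refine OPow.pv_induction (G := Set.univ) (fun y => ⟨y, trivial, 0, trivial, 0, trivial, by simp⟩)
      (P := fun z => emb s (outer f e e) *ᵥ z ∈ slotW s e) (by simp) (fun v w hv hw => by
        rw [mulVec_add]; exact add_mem hv hw) (fun c v hv => by
        rw [mulVec_smul]; exact Submodule.smul_mem _ _ hv) (fun xs _ => ?_) v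
    rw [emb_mulVec_pv, sym_outer hf, OPow.pv_smul]
    refine Submodule.smul_mem _ _ ?_
    simpa using pv_mem_slotW s (Function.update xs s e)
  · obtain ⟨x, hx⟩ := (hf.nondegenerate e he).1
    refine ⟨(f x e)⁻¹ • pv (Function.update xs s x), ?_⟩
    rw [map_smul, Matrix.mulVecLin_apply, emb_mulVec_pv, Function.update_self, Function.update_idem, sym_outer hf,
      OPow.pv_smul, smul_smul, inv_mul_cancel₀ hx, one_smul, ← hxs, Function.update_eq_self]

/-- The square of a root element minus one. -/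
lemma root_sq (hf : Cfsg.Geo.IsSymmetricForm f) (h2 : (2 : F) ≠ 0) (s : Fin (T + 1)) {e w : Fin 4 → F}
    (hee : f e e = 0) (hew : f e w = 0) :
    ((slotEl s (eU hf h2 e w)).val - 1) * ((slotEl s (eU hf h2 e w)).val - 1) =
      (-f w w) • emb s (outer f e e) := by
  rw [slotEl_val, eU_val hf h2 hee hew, ← emb_one (F := F) (m := 4) s, ← emb_sub, ← emb_mul, ← emb_smul]
  congr 1
  refine Matrix.ext_iff_mulVec.mpr fun x => ?_
  rw [← mulVec_mulVec, eA_sub_one_sq hf hee hew, smul_mulVec, sym_outer hf, smul_smul]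
  congr 1
  ring

lemma range_smul_mulVecLin {ι : Type} [Fintype ι] [DecidableEq ι] {c : F} (hc : c ≠ 0) (X : Matrix ι ι F) :
    LinearMap.range (Matrix.mulVecLin (c • X)) = LinearMap.range (Matrix.mulVecLin X) := by
  ext v
  constructor
  · rintro ⟨w, rfl⟩; exact ⟨c • w, by simp [mulVec_smul, smul_mulVec]⟩
  · rintro ⟨w, rfl⟩; exact ⟨c⁻¹ • w, by simp [mulVec_smul, smul_mulVec, smul_smul, hc]⟩

lemma range_conj {ι : Type} [Fintype ι] [DecidableEq ι] (g : GL ι F) (X : Matrix ι ι F) :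
    LinearMap.range (Matrix.mulVecLin (g.val * X * g⁻¹.val)) = gim g (LinearMap.range (Matrix.mulVecLin X)) := by
  ext v
  rw [TWMax.mem_gim]
  constructor
  · rintro ⟨w, rfl⟩
    exact ⟨_, ⟨g⁻¹.val *ᵥ w, rfl⟩, by simp [← mulVec_mulVec]⟩
  · rintro ⟨_, ⟨w, rfl⟩, rfl⟩
    exact ⟨g.val *ᵥ w, by rw [Matrix.mulVecLin_apply, Matrix.mulVecLin_apply, ← mulVec_mulVec, ← mulVec_mulVec, Transvec.inv_mulVec_cancel]⟩

end Slots

variable [Fintype F] {M : Subgroup (GL (Idx (t + 2) 4) F)}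

namespace Ctx4
variable (C : Ctx4 f M)
include C

lemma eU_mem (s : Fin (t + 2)) {e w : Fin 4 → F} (hee : f e e = 0) (hew : f e w = 0) (hw : f w w ≠ 0) :
    slotEl s (eU C.sym C.two e w) ∈ M := by
  refine C.slot s _ (OPow.eU_iso C.sym C.two e w) ?_
  have hb : f (w + (f w w / 2) • e) (w + (f w w / 2) • e) ≠ 0 := by
    rw [SpO.sym_quad_add C.sym, SpO.sym_quad_smul C.sym, C.sym.bilinear.smul_right, hee, C.sym.symm w e, hew]
    simpa using hw
  rw [eU_eq_rG C.sym C.two hee hew hw, Units.val_mul, det_mul, det_rG C.sym hw, det_rG C.sym hb]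
  ring

/-- An element conjugating a root element to a root element is a tensor wreath element. -/
theorem root_conj {g : GL (Idx (t + 2) 4) F} (hg : g ∈ M) {l j : Fin (t + 2)} {e w e' w' : Fin 4 → F}
    (he : e ≠ 0) (hee : f e e = 0) (hew : f e w = 0) (hw : f w w ≠ 0) (he' : e' ≠ 0) (hee' : f e' e' = 0)
    (hew' : f e' w' = 0) (hw' : f w' w' ≠ 0)
    (h : g * slotEl l (eU C.sym C.two e w) * g⁻¹ = slotEl j (eU C.sym C.two e' w')) : IsTW g := by
  have hf := C.sym
  have h1 : g.val * ((-f w w) • emb l (outer f e e)) * g⁻¹.val = (-f w' w') • emb j (outer f e' e') := by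
    rw [← root_sq hf C.two l hee hew, ← root_sq hf C.two j hee' hew', ← h]
    have e1 : (g * slotEl l (eU hf C.two e w) * g⁻¹).val - 1 =
        g.val * ((slotEl l (eU hf C.two e w)).val - 1) * g⁻¹.val := by
      rw [Units.val_mul, Units.val_mul, mul_sub, sub_mul, mul_one, Units.mul_inv]
    rw [e1]
    simp only [mul_assoc, Units.inv_mul_cancel_left]
  have h3 := congrArg (fun X => LinearMap.range (Matrix.mulVecLin X)) h1
  rw [range_conj, range_smul_mulVecLin (neg_ne_zero.mpr hw), range_smul_mulVecLin (neg_ne_zero.mpr hw'),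
    range_emb_outer hf l he, range_emb_outer hf j he'] at h3
  obtain ⟨n, hn, hnt, hnm⟩ := C.move j l e' e he' hee' he hee
  have := isTW_mul (isTW_inv hnt) (C.flag _ (M.mul_mem hn hg) l e he hee (by rw [gim_mul, h3, hnm]))
  rwa [inv_mul_cancel_left] at this

/-- An element of order `p` of one slot is a root element. -/
theorem root_conj' {g : GL (Idx (t + 2) 4) F} (hg : g ∈ M) {l j : Fin (t + 2)} {e w : Fin 4 → F}
    (he : e ≠ 0) (hee : f e e = 0) (hew : f e w = 0) (hw : f w w ≠ 0) {A : GL (Fin 4) F} (hA : A ∈ isoF f)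
    (h : g * slotEl l (eU C.sym C.two e w) * g⁻¹ = slotEl j A) : IsTW g := by
  obtain ⟨p, hpF⟩ := CharP.exists F
  haveI : Fact p.Prime := ⟨CharP.char_is_prime F p⟩
  have hne : slotEl l (eU C.sym C.two e w) ≠ 1 := fun h0 =>
    eU_ne_one C.sym C.two he hee hew hw (slotEl_injective (by norm_num) l (h0.trans (slot_one l).symm))
  have hAp : A ^ p = 1 := by
    refine slotEl_injective (by norm_num) j ?_
    rw [← slot_pow, ← h, conj_pow, slot_pow, eU_pow_char C.sym C.two p hee hew, slot_one,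
      mul_one, mul_inv_cancel, slot_one]
  have hA1 : A ≠ 1 := fun h0 => hne (by
    rw [h0, slot_one, mul_inv_eq_one, mul_eq_left] at h
    exact h)
  obtain ⟨e', w', he', hee', hew', hw', rfl⟩ := exists_eU C.sym C.two C.noline p hA hAp hA1
  exact C.root_conj hg he hee hew hw he' hee' hew' hw' h

end Ctx4

end CfsgLib.Classical22.OFour
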