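/-
Bounds on the signature of monomial involutions.
-/
import Cfsg.Agent.Lib.Classical22.OrthFour.Basic

set_option autoImplicit false
set_option linter.unusedSectionVars false
set_option linter.unusedSimpArgs false

namespace CfsgLib.Classical22.OFour

open Matrix CfsgLib.Transvec CfsgLib.Classical22.TensorMax CfsgLib.Classical22.TensorMax.SympO
open CfsgLib.Classical22.TWMax (Idx pv tGL twData_tGL TWData single_eq_pv twData_one_unique)
open scoped MatrixGroups

variable {F : Type*} [Field F]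

/-- A zero principal block bounds the signature of an involution. -/
theorem sig_le_of_zero {ι : Type} [Fintype ι] [DecidableEq ι] (h2 : (2 : F) ≠ 0) {D : GL ι F} (hD : D * D = 1)
    (S : Finset ι) (hS : ∀ z ∈ S, ∀ x ∈ S, D.val z x = 0) :
    |sig D| + 2 * (S.card : ℤ) ≤ (Fintype.card ι : ℤ) := by
  classical
  obtain ⟨Kp, hKp⟩ : ∃ K, K = LinearMap.ker (Matrix.mulVecLin D.val - LinearMap.id) := ⟨_, rfl⟩
  obtain ⟨Km, hKm⟩ : ∃ K, K = LinearMap.ker (Matrix.mulVecLin D.val + LinearMap.id) := ⟨_, rfl⟩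
  obtain ⟨U, hU⟩ : ∃ U : Submodule F (ι → F), ∀ v, v ∈ U ↔ ∀ a, a ∉ S → v a = 0 :=
    ⟨⨅ a, ⨅ (_ : a ∉ S), LinearMap.ker (LinearMap.proj a), fun v => by simp⟩
  have hUd : S.card ≤ Module.finrank F U := by
    obtain ⟨L, hL⟩ : ∃ L : ({a // a ∈ S} → F) →ₗ[F] U, ∀ c a, (L c).1 a = if h : a ∈ S then c ⟨a, h⟩ else 0 :=
      ⟨{ toFun := fun c => ⟨fun a => if h : a ∈ S then c ⟨a, h⟩ else 0, (hU _).mpr fun a ha => dif_neg ha⟩
         map_add' := fun c d => Subtype.ext (funext fun a => by by_cases h : a ∈ S <;> simp [h])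
         map_smul' := fun r c => Subtype.ext (funext fun a => by by_cases h : a ∈ S <;> simp [h]) }, fun c a => rfl⟩
    have hinj : Function.Injective L := fun c d h => funext fun a => by
      have := congrFun (congrArg Subtype.val h) a.1
      rwa [hL, hL, dif_pos a.2, dif_pos a.2] at this
    have := LinearMap.finrank_le_finrank_of_injective hinj
    rwa [Module.finrank_pi, Fintype.card_coe] at this
  have hz : ∀ (c : F), c ≠ 0 → ∀ v ∈ U, D.val *ᵥ v = c • v → v = 0 := fun c hc v hv hDv => funext fun a => by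
    by_cases ha : a ∈ S
    · have h := congrFun hDv a
      rw [Pi.smul_apply, smul_eq_mul, Matrix.mulVec, dotProduct, Finset.sum_eq_zero fun x _ => ?_] at h
      · exact (mul_eq_zero.mp h.symm).resolve_left hc
      · by_cases hx : x ∈ S
        · rw [hS a ha x hx, zero_mul]
        · rw [(hU v).mp hv x hx, mul_zero]
    · exact (hU v).mp hv a ha
  have hmp : ∀ v, v ∈ Kp ↔ D.val *ᵥ v = (1 : F) • v := fun v => by rw [hKp]; simp [sub_eq_zero]
  have hmm : ∀ v, v ∈ Km ↔ D.val *ᵥ v = (-1 : F) • v := fun v => by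
    rw [hKm]; simp [← eq_neg_iff_add_eq_zero]
  have key : ∀ (K : Submodule F (ι → F)) (c : F), c ≠ 0 → (∀ v, v ∈ K ↔ D.val *ᵥ v = c • v) →
      Module.finrank F U + Module.finrank F K ≤ Fintype.card ι := fun K c hc hK => by
    have hi : U ⊓ K = ⊥ := (Submodule.eq_bot_iff _).mpr fun v hv =>
      hz c hc v (Submodule.mem_inf.mp hv).1 ((hK v).mp (Submodule.mem_inf.mp hv).2)
    have := Submodule.finrank_sup_add_finrank_inf_eq U K
    rw [hi, finrank_bot, add_zero] at this
    rw [← this, ← Module.finrank_pi (R := F) (ι := ι)]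
    exact Submodule.finrank_le _
  have h1 := key Kp 1 one_ne_zero hmp
  have h3 := key Km (-1) (neg_ne_zero.mpr one_ne_zero) hmm
  have hsum : Module.finrank F Kp + Module.finrank F Km = Fintype.card ι := by
    have hi : Kp ⊓ Km = ⊥ := (Submodule.eq_bot_iff _).mpr fun v hv => by
      obtain ⟨ha, hb⟩ := Submodule.mem_inf.mp hv
      rw [hmp] at ha; rw [hmm] at hb
      have h0 : (2 : F) • v = 0 := by linear_combination (norm := module) hb - ha
      exact (smul_eq_zero.mp h0).resolve_left h2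
    have htop : Kp ⊔ Km = ⊤ := eq_top_iff.mpr fun v _ => by
      have hDD : D.val *ᵥ (D.val *ᵥ v) = v := by rw [← Transvec.mul_mulVec, hD, Units.val_one, one_mulVec]
      refine Submodule.mem_sup.mpr ⟨(2 : F)⁻¹ • (v + D.val *ᵥ v), (hmp _).mpr ?_, (2 : F)⁻¹ • (v - D.val *ᵥ v),
        (hmm _).mpr ?_, ?_⟩
      · rw [mulVec_smul, mulVec_add, hDD]; module
      · rw [mulVec_smul, mulVec_sub, hDD]; module
      · rw [← smul_add, show v + D.val *ᵥ v + (v - D.val *ᵥ v) = (2 : F) • v by module, inv_smul_smul₀ h2]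
    have := Submodule.finrank_sup_add_finrank_inf_eq Kp Km
    rw [hi, htop, finrank_bot, add_zero, finrank_top, Module.finrank_pi] at this
    omega
  have hsig : sig D = 2 * (Module.finrank F Kp : ℤ) - Fintype.card ι := by rw [hKp]; rfl
  rw [hsig]
  rcases abs_cases (2 * (Module.finrank F Kp : ℤ) - Fintype.card ι) with ⟨h, -⟩ | ⟨h, -⟩ <;> omega

variable {T : ℕ}

/-- Coordinates restricted in two slots. -/
lemma card_pairs {l m : Fin T} (hlm : l ≠ m) (P : Fin 4 → Fin 4 → Bool) :
    (Finset.univ.filter fun x : Idx T 4 => P (x l) (x m) = true).card * 16 =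
      Fintype.card (Idx T 4) * (Finset.univ.filter fun p : Fin 4 × Fin 4 => P p.1 p.2 = true).card := by
  classical
  obtain ⟨S, hS⟩ : ∃ S, S = Finset.univ.filter fun x : Idx T 4 => P (x l) (x m) = true := ⟨_, rfl⟩
  obtain ⟨K, hK⟩ : ∃ K, K = Finset.univ.filter fun p : Fin 4 × Fin 4 => P p.1 p.2 = true := ⟨_, rfl⟩
  rw [← hS, ← hK, show S.card * 16 = (S ×ˢ (Finset.univ : Finset (Fin 4 × Fin 4))).card by
    simp [Finset.card_product], show Fintype.card (Idx T 4) * K.card =
    ((Finset.univ : Finset (Idx T 4)) ×ˢ K).card by simp [Finset.card_product]]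
  refine Finset.card_nbij' (fun p => (Function.update (Function.update p.1 l p.2.1) m p.2.2, (p.1 l, p.1 m)))
    (fun p => (Function.update (Function.update p.1 l p.2.1) m p.2.2, (p.1 l, p.1 m))) ?_ ?_ ?_ ?_
  · intro p hp
    simp [hS, hK] at hp ⊢
    exact hp
  · intro p hp
    simp [hS, hK] at hp ⊢
    rw [Function.update_of_ne hlm, Function.update_self]
    exact hp
  all_goals
    rintro ⟨x, a, b⟩ -
    refine Prod.ext (funext fun i => ?_) (Prod.ext ?_ ?_)
    · by_cases him : i = m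
      · subst him; simp
      · by_cases hil : i = l
        · subst hil; simp [him]
        · simp [him, hil]
    · simp [hlm]
    · simp

section Invol
variable {y : GL (Idx T 4) F} {σ : Equiv.Perm (Fin T)} {gs : Fin T → GL (Fin 4) F} (hy : TWData y σ gs)
  (hy2 : y * y = 1)
include hy hy2

lemma invol_struct : (∀ i, σ (σ i) = i) ∧
    ∀ i, ∃ c : F, c ≠ 0 ∧ (gs i).val * (gs (σ i)).val = c • 1 := by
  have h1 := hy.mul hy
  rw [hy2] at h1
  obtain ⟨hσ, hc⟩ := twData_one_unique (by norm_num) h1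
  refine ⟨fun i => by have := congrArg (fun π : Equiv.Perm (Fin T) => π i) hσ; simpa using this, fun i => ?_⟩
  obtain ⟨c, hc⟩ := hc i
  refine ⟨c, fun h0 => ?_, Matrix.ext_iff_mulVec.mpr fun x => by
    rw [← Units.val_mul, hc, smul_mulVec, one_mulVec]⟩
  have := hc (Pi.single 0 1)
  rw [h0, zero_smul] at this
  exact Transvec.mulVec_ne_zero (gs i * gs (σ i)) (by simp) this

/-- Changing the bases of the slots. -/
lemma exists_change (Ps : Fin T → GL (Fin 4) F) : ∃ D : GL (Idx T 4) F, D * D = 1 ∧ sig D = sig y ∧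
    ∀ z x, D.val z x = ∏ i, (((Ps i)⁻¹ * gs i * Ps (σ i) : GL (Fin 4) F).val (z i) (x (σ i))) := by
  refine ⟨(tGL Ps)⁻¹ * y * tGL Ps, ?_, ?_, fun z x => ?_⟩
  · rw [show (tGL Ps)⁻¹ * y * tGL Ps * ((tGL Ps)⁻¹ * y * tGL Ps) = (tGL Ps)⁻¹ * (y * y) * tGL Ps by group, hy2,
      mul_one, inv_mul_cancel]
  · conv_rhs => rw [show y = tGL Ps * ((tGL Ps)⁻¹ * y * tGL Ps) * (tGL Ps)⁻¹ by group, sig_conj]
  · have hd := ((twData_tGL Ps).inv.mul hy).mul (twData_tGL Ps)
    have h := congrFun (hd fun i => Pi.single (x i) 1) z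
    rw [← single_eq_pv, Matrix.mulVec_single_one] at h
    simp only [Matrix.col_apply, pv] at h
    rw [h]
    refine Finset.prod_congr rfl fun i _ => ?_
    simp [Matrix.mulVec_single_one]

variable [Fintype F] (h2 : (2 : F) ≠ 0)
include h2

/-- Moving a slot bounds the signature. -/
theorem sig_perm_le {m : Fin T} (hm : σ m ≠ m) :
    4 * |sig y| ≤ (Fintype.card (Idx T 4) : ℤ) ∧
      ∀ q, σ q ≠ q → q ≠ m → σ q ≠ m → 4 * |sig y| < (Fintype.card (Idx T 4) : ℤ) := by
  classical
  obtain ⟨hσ, hc⟩ := invol_struct hy hy2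
  obtain ⟨l, hl⟩ : ∃ l, l = σ m := ⟨_, rfl⟩
  have hlm : l ≠ m := hl ▸ hm
  obtain ⟨S₁, hS₁⟩ : ∃ S : Finset (Idx T 4), S = Finset.univ.filter fun x => decide (x m < x l) = true := ⟨_, rfl⟩
  have hcard : S₁.card * 16 = Fintype.card (Idx T 4) * 6 := by
    rw [hS₁, card_pairs hlm (fun a b => decide (b < a))]
    congr 1
  -- the support of the matrix after the change of bases
  have hsupp : ∀ (Ps : Fin T → GL (Fin 4) F) (a : Fin T), σ a ≠ a → Ps (σ a) = 1 → Ps a = gs a → ∀ (z x : Idx T 4),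
      (∏ i, (((Ps i)⁻¹ * gs i * Ps (σ i) : GL (Fin 4) F).val (z i) (x (σ i)))) ≠ 0 →
        z a = x (σ a) ∧ z (σ a) = x a := by
    intro Ps a ha h1 hb z x hne
    rw [Finset.prod_ne_zero_iff] at hne
    constructor
    · have := hne a (Finset.mem_univ _)
      rw [h1, hb, inv_mul_cancel, one_mul] at this
      by_contra hza
      rw [Units.val_one, Matrix.one_apply_ne hza] at this
      exact this rfl
    · have := hne (σ a) (Finset.mem_univ _)
      obtain ⟨c, -, hcc⟩ := hc (σ a)
      rw [hσ] at hcc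
      rw [hσ, h1, hb, inv_one, one_mul, Units.val_mul, hcc] at this
      by_contra hza
      rw [Matrix.smul_apply, Matrix.one_apply_ne hza, smul_zero] at this
      exact this rfl
  constructor
  · obtain ⟨D, hD, hsD, hDv⟩ := exists_change hy hy2 (Function.update (fun _ => 1) m (gs m))
    have hb := sig_le_of_zero h2 hD S₁ fun z hz x hx => by
      by_contra h0
      rw [hDv] at h0
      obtain ⟨e1, e3⟩ := hsupp _ m hm (Function.update_of_ne hm _ _) (Function.update_self _ _ _) z x h0
      rw [hS₁] at hz hx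
      simp [← hl] at hz hx e1 e3
      rw [e1, e3] at hz
      exact absurd hz hx.asymm
    rw [hsD] at hb
    have : (S₁.card : ℤ) * 16 = (Fintype.card (Idx T 4) : ℤ) * 6 := by exact_mod_cast hcard
    omega
  · intro q hq hqm hqm'
    obtain ⟨p, hp⟩ : ∃ p, p = σ q := ⟨_, rfl⟩
    have hpq : p ≠ q := hp ▸ hq
    have hpm : p ≠ m := hp ▸ hqm'
    have hql : q ≠ l := fun h => hqm' (by rw [h, hl, hσ])
    have hpl : p ≠ l := fun h => hqm (σ.injective (hp.symm.trans (h.trans hl)))
    obtain ⟨S, hS⟩ : ∃ S : Finset (Idx T 4),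
        S = S₁ ∪ Finset.univ.filter fun x => x m = x l ∧ x q < x p := ⟨_, rfl⟩
    obtain ⟨D, hD, hsD, hDv⟩ := exists_change hy hy2
      (Function.update (Function.update (fun _ => 1) m (gs m)) q (gs q))
    have hb := sig_le_of_zero h2 hD S fun z hz x hx => by
      by_contra h0
      rw [hDv] at h0
      obtain ⟨e1, e3⟩ := hsupp _ m hm (by rw [← hl, Function.update_of_ne hql.symm, Function.update_of_ne hlm])
        (by rw [Function.update_of_ne hqm.symm, Function.update_self]) z x h0
      obtain ⟨e4, e5⟩ := hsupp _ q hq (by rw [← hp, Function.update_of_ne hpq, Function.update_of_ne hpm])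
        (Function.update_self _ _ _) z x h0
      rw [hS, hS₁] at hz hx
      simp [← hl, ← hp] at hz hx e1 e3 e4 e5
      rw [e1, e3, e4, e5] at hz
      omega
    have hlt : S₁.card < S.card := by
      refine Finset.card_lt_card ⟨hS ▸ Finset.subset_union_left, fun h => ?_⟩
      obtain ⟨x, hx⟩ : ∃ x : Idx T 4, x = Function.update (fun _ => 0) p 1 := ⟨_, rfl⟩
      have hxS : x ∈ S := by
        rw [hS]; simp [hx, hpm.symm, hpl.symm, hpq.symm]
      have := h hxS
      rw [hS₁] at this
      simp [hx, hpm.symm, hpl.symm] at this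
    rw [hsD] at hb
    have : (S₁.card : ℤ) * 16 = (Fintype.card (Idx T 4) : ℤ) * 6 := by exact_mod_cast hcard
    have : (S₁.card : ℤ) < (S.card : ℤ) := by exact_mod_cast hlt
    omega

/-- A fixed slot with non-square scalar square gives signature zero. -/
theorem sig_eq_zero_of_nonsq {l : Fin T} (hl : σ l = l) {ν : F} (hν : ¬ IsSquare ν)
    (hA : (gs l).val * (gs l).val = ν • 1) : sig y = 0 := by
  classical
  obtain ⟨A, hAd⟩ : ∃ A, A = (gs l).val := ⟨_, rfl⟩
  rw [← hAd] at hA
  have hAA : ∀ v, A *ᵥ (A *ᵥ v) = ν • v := fun v => by rw [mulVec_mulVec, hA, smul_mulVec, one_mulVec]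
  have hneig : ∀ v : Fin 4 → F, v ≠ 0 → A *ᵥ v ∉ Submodule.span F {v} := fun v hv h => by
    obtain ⟨c, hc⟩ := Submodule.mem_span_singleton.mp h
    refine hν ⟨c, ?_⟩
    have h1 := hAA v
    rw [← hc, mulVec_smul, ← hc, smul_smul] at h1
    have h3 : (c * c - ν) • v = 0 := by rw [sub_smul, h1, sub_self]
    exact (sub_eq_zero.mp ((smul_eq_zero.mp h3).resolve_right hv)).symm
  obtain ⟨x, hx⟩ : ∃ x : Fin 4 → F, x ≠ 0 := ⟨Pi.single 0 1, by simp⟩
  obtain ⟨y', hy'⟩ : ∃ v : Fin 4 → F, v ∉ Submodule.span F (Set.range ![x, A *ᵥ x]) :=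
    TWMax.exists_notMem_span (by norm_num) _
  obtain ⟨P, hP⟩ : ∃ P : Matrix (Fin 4) (Fin 4) F, ∀ c, P *ᵥ c =
      c 0 • x + c 1 • (A *ᵥ x) + c 2 • y' + c 3 • (A *ᵥ y') :=
    ⟨(Matrix.of ![x, A *ᵥ x, y', A *ᵥ y'])ᵀ, fun c => funext fun i => by
      simp [Matrix.mulVec, dotProduct, Fin.sum_univ_four, mul_comm]⟩
  have hinj : Function.Injective P.mulVec := fun c d hcd => by
    obtain ⟨e, he⟩ : ∃ e, e = c - d := ⟨_, rfl⟩
    have h0 : P *ᵥ e = 0 := by rw [he, mulVec_sub, show P *ᵥ c = P *ᵥ d from hcd, sub_self]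
    rw [hP] at h0
    have hmem : e 2 • y' + e 3 • (A *ᵥ y') ∈ Submodule.span F (Set.range ![x, A *ᵥ x]) := by
      rw [show e 2 • y' + e 3 • (A *ᵥ y') = -(e 0 • x + e 1 • (A *ᵥ x)) by linear_combination (norm := module) h0]
      exact Submodule.neg_mem _ (Submodule.add_mem _ (Submodule.smul_mem _ _ (Submodule.subset_span ⟨0, rfl⟩))
        (Submodule.smul_mem _ _ (Submodule.subset_span ⟨1, rfl⟩)))
    have hinv : ∀ w ∈ Submodule.span F (Set.range ![x, A *ᵥ x]), A *ᵥ w ∈ Submodule.span F (Set.range ![x, A *ᵥ x]) := by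
      intro w hw
      induction hw using Submodule.span_induction with
      | mem v hv =>
        obtain ⟨i, rfl⟩ := hv
        fin_cases i
        · exact Submodule.subset_span ⟨1, rfl⟩
        · have hx' : x ∈ Submodule.span F (Set.range ![x, A *ᵥ x]) := Submodule.subset_span ⟨0, rfl⟩
          simpa [hAA] using Submodule.smul_mem _ ν hx'
      | zero => simp
      | add a b _ _ ha hb => rw [mulVec_add]; exact add_mem ha hb
      | smul r a _ ha => rw [mulVec_smul]; exact Submodule.smul_mem _ _ ha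
    have hd : (e 2 * e 2 - ν * (e 3 * e 3)) • y' ∈ Submodule.span F (Set.range ![x, A *ᵥ x]) := by
      have := Submodule.sub_mem _ (Submodule.smul_mem _ (e 2) hmem) (Submodule.smul_mem _ (e 3) (hinv _ hmem))
      rw [mulVec_add, mulVec_smul, mulVec_smul, hAA] at this
      convert this using 1
      module
    have hd0 : e 2 * e 2 - ν * (e 3 * e 3) = 0 := by
      by_contra hne
      exact hy' (by simpa [smul_smul, inv_mul_cancel₀ hne] using Submodule.smul_mem _ (e 2 * e 2 - ν * (e 3 * e 3))⁻¹ hd)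
    have h3 : e 3 = 0 := by
      by_contra h
      exact hν ⟨e 2 / e 3, by field_simp; linear_combination -hd0⟩
    have h2' : e 2 = 0 := by rw [h3] at hd0; simpa using hd0
    rw [h2', h3, zero_smul, zero_smul, add_zero, add_zero] at h0
    have h1 : e 1 = 0 := by
      by_contra h
      refine hneig x hx (Submodule.mem_span_singleton.mpr ⟨-(e 0) / e 1, ?_⟩)
      rw [div_eq_inv_mul, ← smul_smul, neg_smul, show -(e 0 • x) = e 1 • (A *ᵥ x) by
        linear_combination (norm := module) -h0, inv_smul_smul₀ h]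
    have h00 : e 0 = 0 := by
      rw [h1, zero_smul, add_zero] at h0
      exact (smul_eq_zero.mp h0).resolve_right hx
    rw [← sub_eq_zero, ← he]
    funext i; fin_cases i <;> assumption
  obtain ⟨U, hU⟩ := Matrix.mulVec_injective_iff_isUnit.mp hinj
  obtain ⟨D, hD, hsD, hDv⟩ := exists_change hy hy2 (Function.update (fun _ => 1) l U)
  have hPe : ∀ b : Fin 4, (b = 0 ∨ b = 2) → ∃ d, (d = 1 ∨ d = 3) ∧
      ((U⁻¹ * gs l * U : GL (Fin 4) F).val *ᵥ Pi.single b 1) = Pi.single d 1 := by
    intro b hb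
    refine ⟨if b = 0 then 1 else 3, by split_ifs <;> simp, ?_⟩
    refine Transvec.mulVec_injective U ?_
    simp only
    rw [Transvec.mul_mulVec, Transvec.mul_mulVec, Transvec.mulVec_inv_cancel, ← hAd, hU, hP, hP]
    rcases hb with rfl | rfl <;> simp
  obtain ⟨m, hm⟩ : ∃ m : Fin T, True := ⟨l, trivial⟩
  obtain ⟨S, hS⟩ : ∃ S : Finset (Idx T 4), S = Finset.univ.filter fun x => x l = 0 ∨ x l = 2 := ⟨_, rfl⟩
  have hb := sig_le_of_zero h2 hD S fun z hz x hx => by
    by_contra h0
    rw [hDv] at h0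
    replace h0 := Finset.prod_ne_zero_iff.mp h0
    have h := h0 l (Finset.mem_univ _)
    simp only [hl, Function.update_self] at h
    rw [hS] at hz hx
    simp only [Finset.mem_filter, Finset.mem_univ, true_and] at hz hx
    obtain ⟨d, hd, hdv⟩ := hPe (x l) hx
    rw [Matrix.mulVec_single_one] at hdv
    have h' := congrFun hdv (z l)
    rw [Matrix.col_apply, Pi.single_eq_of_ne (fun e => by rcases hz with h | h <;> rcases hd with h' | h' <;>
      rw [h, h'] at e <;> simp at e)] at h'
    exact h h'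
  have hc : 2 * S.card = Fintype.card (Idx T 4) := by
    have e : S = Finset.univ.filter fun x : Idx T 4 => ¬ (x l = 1 ∨ x l = 3) := by
      rw [hS]; ext x; simp; generalize x l = a; fin_cases a <;> simp
    have e2 : S.card = (Finset.univ.filter fun x : Idx T 4 => x l = 1 ∨ x l = 3).card := by
      refine Finset.card_nbij' (fun x => Function.update x l (x l + 1)) (fun x => Function.update x l (x l - 1))
        ?_ ?_ ?_ ?_
      · intro x hx; simp [hS] at hx ⊢; rcases hx with h | h <;> simp [h]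
      · intro x hx; simp [hS] at hx ⊢; rcases hx with h | h <;> simp [h]
      · intro x _; simp
      · intro x _; simp
    have := Finset.card_filter_add_card_filter_not (s := (Finset.univ : Finset (Idx T 4)))
      (fun x => x l = 1 ∨ x l = 3)
    rw [← e, ← e2, Finset.card_univ] at this
    omega
  rw [hsD] at hb
  have : 2 * (S.card : ℤ) = (Fintype.card (Idx T 4) : ℤ) := by exact_mod_cast hc
  have := abs_nonneg (sig y)
  exact abs_eq_zero.mp (by omega)

end Invol

end CfsgLib.Classical22.OFour
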