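/-
Normal forms of tensor wreath involutions fixing every slot.
-/
import Cfsg.Agent.Lib.Classical22.OrthFour.SigBound

set_option autoImplicit false
set_option linter.unusedSectionVars false
set_option linter.unusedSimpArgs false

namespace CfsgLib.Classical22.OFour

open Matrix CfsgLib.Transvec CfsgLib.Classical22.TensorMax CfsgLib.Classical22.TensorMax.SympO
open CfsgLib.Classical22.TensorMax.SpO (sym_quad_smul sym_zero_left)
open CfsgLib.Classical22.TWMax (Idx pv TWData IsTW slotEl slotEl_data slotEl_mul twData_one_unique ext_pv)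
open CfsgLib.Classical22.OPow (PIso isoF mem_isoF rG rG_iso rG_mul_self slotEl_commute)
open scoped MatrixGroups

variable {F : Type*} [Field F] [Fintype F] {f : (Fin 4 → F) → (Fin 4 → F) → F}

/-- An involutive similitude is an isometry. -/
lemma isoF_of_invol (hf : Cfsg.Geo.IsSymmetricForm f) (h2 : (2 : F) ≠ 0) (hn : NoLine f) {A : GL (Fin 4) F} {μ : F}
    (hA : ∀ x y, f (A.val *ᵥ x) (A.val *ᵥ y) = μ * f x y) (h1 : A * A = 1) : A ∈ isoF f := by
  have hAA : ∀ x, A.val *ᵥ (A.val *ᵥ x) = x := fun x => by rw [← Transvec.mul_mulVec, h1, Units.val_one, one_mulVec]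
  obtain ⟨x₀, y₀, hxy⟩ : ∃ x y, f x y ≠ 0 := by
    obtain ⟨⟨x, hx⟩, -⟩ := hf.nondegenerate (Pi.single 0 1) (by simp)
    exact ⟨x, _, hx⟩
  have hμ : μ * μ = 1 := by
    have h := hA (A.val *ᵥ x₀) (A.val *ᵥ y₀)
    rw [hAA, hAA, hA, ← mul_assoc] at h
    exact mul_right_cancel₀ hxy (by rw [one_mul]; exact h.symm)
  rcases mul_self_eq_one_iff.mp hμ with rfl | rfl
  · exact fun x y => by rw [hA, one_mul]
  exfalso
  obtain ⟨L₁, hL₁⟩ : ∃ L : Submodule F (Fin 4 → F), L = LinearMap.range (Matrix.mulVecLin (1 + A.val)) := ⟨_, rfl⟩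
  obtain ⟨L₂, hL₂⟩ : ∃ L : Submodule F (Fin 4 → F), L = LinearMap.range (Matrix.mulVecLin (1 - A.val)) := ⟨_, rfl⟩
  have key : ∀ (ε : F) (L : Submodule F (Fin 4 → F)), ε * ε = 1 → (∀ v ∈ L, A.val *ᵥ v = ε • v) →
      Module.finrank F L ≤ 1 := by
    intro ε L hε hL
    have hs : ∀ v ∈ L, ∀ w ∈ L, f v w = 0 := fun v hv w hw => by
      have h := hA v w
      rw [hL v hv, hL w hw, hf.bilinear.smul_left, hf.bilinear.smul_right, ← mul_assoc, hε] at h
      exact (mul_eq_zero.mp (show 2 * f v w = 0 by linear_combination h)).resolve_left h2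
    by_cases hL0 : L = ⊥
    · rw [hL0, finrank_bot]; norm_num
    obtain ⟨v, hv, hv0⟩ := Submodule.exists_mem_ne_zero_of_ne_bot hL0
    have : L ≤ Submodule.span F {v} := fun w hw => hn v w hv0 (hs v hv v hv) (hs w hw w hw) (hs v hv w hw)
    exact (Submodule.finrank_mono this).trans (by rw [finrank_span_singleton hv0])
  have h3 := key 1 L₁ (one_mul 1) fun v hv => by
    obtain ⟨w, rfl⟩ := hL₁ ▸ hv
    rw [Matrix.mulVecLin_apply, add_mulVec, one_mulVec, mulVec_add, hAA, one_smul, add_comm]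
  have h4 := key (-1) L₂ (by norm_num) fun v hv => by
    obtain ⟨w, rfl⟩ := hL₂ ▸ hv
    rw [Matrix.mulVecLin_apply, sub_mulVec, one_mulVec, mulVec_sub, hAA, neg_one_smul, neg_sub]
  have htop : L₁ ⊔ L₂ = ⊤ := eq_top_iff.mpr fun v _ => by
    refine Submodule.mem_sup.mpr ⟨Matrix.mulVecLin (1 + A.val) ((2 : F)⁻¹ • v), ?_,
      Matrix.mulVecLin (1 - A.val) ((2 : F)⁻¹ • v), ?_, ?_⟩
    · rw [hL₁]; exact LinearMap.mem_range_self _ _
    · rw [hL₂]; exact LinearMap.mem_range_self _ _
    rw [Matrix.mulVecLin_apply, Matrix.mulVecLin_apply, ← add_mulVec,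
      show (1 + A.val + (1 - A.val)) = (2 : F) • (1 : Matrix (Fin 4) (Fin 4) F) by module, smul_mulVec, one_mulVec,
      smul_inv_smul₀ h2]
  have h5 := Submodule.finrank_add_le_finrank_add_finrank L₁ L₂
  rw [htop, finrank_top, Module.finrank_fin_fun] at h5
  omega

lemma exists_any_frame (hf : Cfsg.Geo.IsSymmetricForm f) (h2 : (2 : F) ≠ 0) : ∃ u, Frame f u :=
  (exists_frame hf h2 [] (by simp) (by simp)).imp fun _ h => h.1

/-- Multiplying a unit by a scalar. -/
lemma exists_smul_gl (A : GL (Fin 4) F) {c : F} (hc : c ≠ 0) : ∃ B : GL (Fin 4) F, B.val = c • A.val :=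
  ⟨⟨c • A.val, c⁻¹ • A⁻¹.val, by simp [smul_smul, hc], by simp [smul_smul, hc]⟩, rfl⟩

variable {t : ℕ} {M : Subgroup (GL (Idx (t + 2) 4) F)}

namespace Ctx4
variable (C : Ctx4 f M)
include C

/-- Slots of an involution with square scalar squares have frames. -/
theorem split {y : GL (Idx (t + 2) 4) F} {gs : Fin (t + 2) → GL (Fin 4) F} (hy : y ∈ M) (hd : TWData y 1 gs)
    (hy2 : y * y = 1) (hsq : ∀ l, ∃ a : F, (gs l).val * (gs l).val = (a * a) • 1)
    (Bs : Fin (t + 2) → List (GL (Fin 4) F)) (hB : ∀ l, ∀ B ∈ Bs l, B ∈ isoF f ∧ B * B = 1)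
    (hBc : ∀ l, ∀ B ∈ Bs l, ∀ B' ∈ Bs l, B * B' = B' * B) (hBg : ∀ l, ∀ B ∈ Bs l, B * gs l = gs l * B) :
    ∃ (gs' : Fin (t + 2) → GL (Fin 4) F) (us : Fin (t + 2) → Fin 4 → Fin 4 → F) (ss : Fin (t + 2) → Fin 4 → ℤ),
      TWData y 1 gs' ∧ (∀ l, Frame f (us l)) ∧ (∀ l, Eig (gs' l) (us l) (ss l)) ∧
      ∀ l, ∀ B ∈ Bs l, ∃ s, Eig B (us l) s := by
  classical
  have hf := C.sym
  obtain ⟨-, hc⟩ := invol_struct hd hy2
  choose a ha using hsq
  have ha0 : ∀ l, a l ≠ 0 := fun l h0 => by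
    obtain ⟨c, hc0, hcl⟩ := hc l
    rw [Equiv.Perm.one_apply, ha, h0, mul_zero, zero_smul] at hcl
    exact hc0 ((smul_eq_zero.mp hcl.symm).resolve_right one_ne_zero)
  choose A hA using fun l => exists_smul_gl (gs l) (inv_ne_zero (ha0 l))
  have hA2 : ∀ l, A l * A l = 1 := fun l => Units.ext (by
    rw [Units.val_mul, hA, smul_mul_smul_comm, ha, smul_smul, Units.val_one,
      show (a l)⁻¹ * (a l)⁻¹ * (a l * a l) = 1 by have := ha0 l; field_simp, one_smul])
  have hAi : ∀ l, A l ∈ isoF f := fun l => by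
    obtain ⟨μ, -, hμ⟩ := OPow.sim_of_tw hf C.two (by norm_num) hd (C.iso y hy) l
    refine isoF_of_invol hf C.two C.noline (μ := (a l)⁻¹ * (a l)⁻¹ * μ) (fun x z => ?_) (hA2 l)
    rw [hA, smul_mulVec, smul_mulVec, hf.bilinear.smul_left, hf.bilinear.smul_right, hμ]
    ring
  have hAc : ∀ l, ∀ B ∈ Bs l, B * A l = A l * B := fun l B hB' => Units.ext (by
    rw [Units.val_mul, Units.val_mul, hA, Matrix.mul_smul, Matrix.smul_mul, ← Units.val_mul, hBg l B hB',
      Units.val_mul])
  have hfr : ∀ l, ∃ u, Frame f u ∧ ∀ B ∈ A l :: Bs l, ∃ s, Eig B u s := fun l => by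
    refine exists_frame hf C.two (A l :: Bs l) (fun B hB' => ?_) (fun B hB' B' hB'' => ?_)
    · rcases List.mem_cons.mp hB' with rfl | h
      exacts [⟨hAi l, hA2 l⟩, hB l B h]
    · rcases List.mem_cons.mp hB' with rfl | h <;> rcases List.mem_cons.mp hB'' with rfl | h'
      exacts [rfl, (hAc l B' h').symm, hAc l B h, hBc l B h B' h']
  choose us hus hues using hfr
  choose ss hss using fun l => hues l (A l) List.mem_cons_self
  obtain ⟨P, hP⟩ : ∃ P, P = ∏ l, a l := ⟨_, rfl⟩
  have hy' : ∀ xs, y.val *ᵥ pv xs = P • pv fun l => (A l).val *ᵥ xs l := fun xs => by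
    rw [hd xs, hP, show (fun i => (gs i).val *ᵥ xs ((1 : Equiv.Perm (Fin (t + 2))) i)) =
      fun l => a l • ((A l).val *ᵥ xs l) from funext fun l => by
        rw [hA, smul_mulVec, smul_smul, mul_inv_cancel₀ (ha0 l), one_smul, Equiv.Perm.one_apply]]
    funext z
    simp [pv, Finset.prod_mul_distrib]
  obtain ⟨B, hBd⟩ : ∃ B : GL (Idx (t + 2) 4) F, B = TWMax.tGL A := ⟨_, rfl⟩
  have hPP : P * P = 1 := by
    obtain ⟨x, hx⟩ : ∃ x : Fin 4 → F, x ≠ 0 := ⟨Pi.single 0 1, by simp⟩
    have h := congrArg (fun g : GL (Idx (t + 2) 4) F => g.val *ᵥ pv fun _ => x) hy2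
    simp only [Transvec.mul_mulVec, hy', mulVec_smul, Units.val_one, one_mulVec, smul_smul] at h
    have e : (fun l => (A l).val *ᵥ ((A l).val *ᵥ x)) = fun _ => x := funext fun l => by
      rw [← Transvec.mul_mulVec, hA2, Units.val_one, one_mulVec]
    rw [e] at h
    have h' : (P * P - 1) • pv (fun _ : Fin (t + 2) => x) = 0 := by rw [sub_smul, h, one_smul, sub_self]
    exact sub_eq_zero.mp ((smul_eq_zero.mp h').resolve_right (TWMax.pv_ne_zero fun _ => hx))
  rcases mul_self_eq_one_iff.mp hPP with h | h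
  · refine ⟨A, us, ss, fun xs => by rw [hy', h, one_smul]; simp, hus, hss, fun l B hB' =>
      hues l B (List.mem_cons_of_mem _ hB')⟩
  · refine ⟨Function.update A 0 (-A 0), us, Function.update ss 0 (-ss 0), fun xs => ?_, hus, fun l => ?_, fun l B hB' =>
      hues l B (List.mem_cons_of_mem _ hB')⟩
    · rw [hy', h, neg_one_smul]
      funext z
      simp only [pv, Pi.neg_apply, Fin.prod_univ_succ, Function.update_self, Equiv.Perm.one_apply,
        Function.update_of_ne (Fin.succ_ne_zero _), Units.val_neg, neg_mulVec, Pi.neg_apply]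
      ring
    · by_cases hl : l = 0
      · subst hl; rw [Function.update_self, Function.update_self]; exact (hss 0).neg
      · rw [Function.update_of_ne hl, Function.update_of_ne hl]; exact hss l

/-- An involution fixing all slots of non-zero signature has frames. -/
theorem split_of_sig {y : GL (Idx (t + 2) 4) F} {gs : Fin (t + 2) → GL (Fin 4) F} (hy : y ∈ M) (hd : TWData y 1 gs)
    (hy2 : y * y = 1) (hs : sig y ≠ 0) (Bs : Fin (t + 2) → List (GL (Fin 4) F))
    (hB : ∀ l, ∀ B ∈ Bs l, B ∈ isoF f ∧ B * B = 1)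
    (hBc : ∀ l, ∀ B ∈ Bs l, ∀ B' ∈ Bs l, B * B' = B' * B) (hBg : ∀ l, ∀ B ∈ Bs l, B * gs l = gs l * B) :
    ∃ (gs' : Fin (t + 2) → GL (Fin 4) F) (us : Fin (t + 2) → Fin 4 → Fin 4 → F) (ss : Fin (t + 2) → Fin 4 → ℤ),
      TWData y 1 gs' ∧ (∀ l, Frame f (us l)) ∧ (∀ l, Eig (gs' l) (us l) (ss l)) ∧
      ∀ l, ∀ B ∈ Bs l, ∃ s, Eig B (us l) s := by
  refine C.split hy hd hy2 (fun l => ?_) Bs hB hBc hBg
  obtain ⟨-, hc⟩ := invol_struct hd hy2
  obtain ⟨c, -, hcl⟩ := hc l
  rw [Equiv.Perm.one_apply] at hcl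
  by_contra hno
  refine hs (sig_eq_zero_of_nonsq hd hy2 C.two rfl (ν := c) (fun ⟨a, ha⟩ => hno ⟨a, ha ▸ hcl⟩) hcl)

/-- The signature of an element of one slot. -/
theorem sig_slot (s : Fin (t + 2)) {A : GL (Fin 4) F} {u : Fin 4 → Fin 4 → F} {e : Fin 4 → ℤ} (hu : Frame f u)
    (he : Eig A u e) : sig (slotEl s A) = (∑ i, e i) * 4 ^ (t + 1) := by
  classical
  obtain ⟨v, hv⟩ := exists_any_frame C.sym C.two
  rw [sig_frames C.sym C.two (slotEl_data s A) (Function.update (fun _ => v) s u)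
    (Function.update (fun _ => 1) s e) (fun l => ?_) (fun l => ?_), Finset.prod_eq_mul_prod_sdiff_singleton_of_mem (Finset.mem_univ s),
    Function.update_self, Finset.prod_congr rfl (g := fun _ => (4 : ℤ)) fun l hl => by
      rw [Function.update_of_ne (by simpa using hl)]; simp, Finset.prod_const,
    Finset.card_sdiff_of_subset (by simp), Finset.card_univ, Fintype.card_fin, Finset.card_singleton]
  · norm_num
  · by_cases hl : l = s
    · subst hl; rw [Function.update_self]; exact hu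
    · rw [Function.update_of_ne hl]; exact hv
  · by_cases hl : l = s
    · subst hl; rw [Function.update_self, Function.update_self, Function.update_self]; exact he
    · rw [Function.update_of_ne hl, Function.update_of_ne hl, Function.update_of_ne hl]; exact Eig.one v

/-- The signature of an element of two slots. -/
theorem sig_two {s j : Fin (t + 2)} (hsj : s ≠ j) {A B : GL (Fin 4) F} {u w : Fin 4 → Fin 4 → F} {e e' : Fin 4 → ℤ}
    (hu : Frame f u) (he : Eig A u e) (hw : Frame f w) (he' : Eig B w e') :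
    sig (slotEl s A * slotEl j B) = (∑ i, e i) * (∑ i, e' i) * 4 ^ t := by
  classical
  obtain ⟨v, hv⟩ := exists_any_frame C.sym C.two
  have hd := (slotEl_data s A).mul (slotEl_data j B)
  rw [mul_one] at hd
  rw [sig_frames C.sym C.two hd (Function.update (Function.update (fun _ => v) s u) j w)
    (Function.update (Function.update (fun _ => 1) s e) j e') (fun l => ?_) (fun l => ?_),
    ← Finset.mul_prod_erase _ _ (Finset.mem_univ s),
    ← Finset.mul_prod_erase (Finset.univ.erase s) _ (Finset.mem_erase.mpr ⟨hsj.symm, Finset.mem_univ j⟩),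
    Finset.prod_congr rfl (g := fun _ => (4 : ℤ)) fun l hl => by
      rw [Function.update_of_ne (Finset.ne_of_mem_erase hl),
        Function.update_of_ne (Finset.ne_of_mem_erase (Finset.mem_of_mem_erase hl))]; simp,
    Finset.prod_const, Finset.card_erase_of_mem (Finset.mem_erase.mpr ⟨hsj.symm, Finset.mem_univ j⟩),
    Finset.card_erase_of_mem (Finset.mem_univ s), Finset.card_univ, Fintype.card_fin, Function.update_self,
    Function.update_of_ne hsj, Function.update_self]
  · simp [mul_assoc]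
  · by_cases hl : l = j
    · subst hl; simpa using hw
    · by_cases hl' : l = s
      · subst hl'; simpa [hl] using hu
      · simpa [hl, hl'] using hv
  · by_cases hl : l = j
    · subst hl; simpa [hsj.symm] using he'
    · by_cases hl' : l = s
      · subst hl'; simpa [hl] using he
      · simpa [hl, hl'] using Eig.one v

end Ctx4

end CfsgLib.Classical22.OFour
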