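/-
The stabiliser of a slot subspace at an anisotropic vector lies in the tensor wreath group.
-/
import Cfsg.Agent.Lib.Classical22.OrthFour.Split
import Cfsg.Agent.Lib.Solvable.Generation

set_option autoImplicit false
set_option linter.unusedSectionVars false
set_option linter.unusedSimpArgs false

namespace CfsgLib.Classical22.OFour

open Matrix CfsgLib.Transvec CfsgLib.Classical22.TensorMax CfsgLib.Classical22.TensorMax.SympO
open CfsgLib.Classical22.TensorMax.SpO (sym_zero_left sym_sub_left sym_sub_right sym_quad_smul exists_value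
  exists_aniso perpIn mem_perpIn nd_perpIn finrank_perpIn kr kr_apply exists_singular_sym)
open CfsgLib.Classical22.TensorMax.OO (eA eA_mulVec eA_mul eA_zero exists_partner_sym pairW mem_pairW nd_pairW
  finrank_pairW eq_zero_of_pairW_singular eq_sum_of_orth)
open CfsgLib.Classical22.TWMax (Idx pv flatG fv flatG_apply ext_fv slotG slotG_slotEl TWData IsTW slotEl slotEl_mul
  slotEl_data slotW pv_mem_slotW slotW_le gim mem_gim slot_eq_of_slotW_eq slot_vec glReindex_mulVec slotE)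
open CfsgLib.Classical22.OPow (PIso isoF mem_isoF rG rG_iso eU eU_val eU_iso slotEl_commute isTW_mul isTW_inv)
open scoped MatrixGroups

variable {F : Type*} [Field F] [Fintype F] {f : (Fin 4 → F) → (Fin 4 → F) → F} {t : ℕ}
  {M : Subgroup (GL (Idx (t + 2) 4) F)}

/-- An element of order `p` fixing two orthogonal anisotropic vectors is trivial. -/
lemma fix_two (hf : Cfsg.Geo.IsSymmetricForm f) (h2 : (2 : F) ≠ 0) (hn : NoLine f) (p : ℕ) [Fact p.Prime] [CharP F p]
    {u : Fin 4 → Fin 4 → F} (hu : Frame f u) {A : GL (Fin 4) F} (hA : A ∈ isoF f) (hp : A ^ p = 1)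
    (h0 : A.val *ᵥ u 0 = u 0) (h1 : A.val *ᵥ u 1 = u 1) : A = 1 := by
  by_contra hne
  obtain ⟨e, w, he, hee, hew, hw, rfl⟩ := exists_eU hf h2 hn p hA hp hne
  rw [eU_val hf h2 hee hew] at h0 h1
  obtain ⟨a0, a1⟩ := eA_fixed hf he hee hew hw h0
  obtain ⟨b0, b1⟩ := eA_fixed hf he hee hew hw h1
  have de := eq_sum_of_orth hf u hu.orth hu.aniso e
  have dw := eq_sum_of_orth hf u hu.orth hu.aniso w
  simp only [Fin.sum_univ_four, hf.symm e (u 0), a0, hf.symm e (u 1), b0, hf.symm w (u 0), a1, hf.symm w (u 1), b1,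
    zero_div, zero_smul, zero_add] at de dw
  obtain ⟨a, ha⟩ : ∃ a, a = f e (u 2) / f (u 2) (u 2) := ⟨_, rfl⟩
  obtain ⟨b, hb⟩ : ∃ b, b = f e (u 3) / f (u 3) (u 3) := ⟨_, rfl⟩
  obtain ⟨c, hc⟩ : ∃ c, c = f w (u 2) / f (u 2) (u 2) := ⟨_, rfl⟩
  obtain ⟨d, hd⟩ : ∃ d, d = f w (u 3) / f (u 3) (u 3) := ⟨_, rfl⟩
  rw [← ha, ← hb] at de; rw [← hc, ← hd] at dw
  have e1 := hee; have e2 := hew
  rw [de] at e1; rw [de, dw] at e2
  simp only [hf.bilinear.add_left, hf.bilinear.add_right, hf.bilinear.smul_left, hf.bilinear.smul_right,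
    hu.orth 2 3 (by decide), hu.orth 3 2 (by decide), mul_zero, zero_add, add_zero] at e1 e2
  have ha0 : a ≠ 0 := fun h => he (by
    rw [h] at e1
    have hb0 : b = 0 := by simpa [hu.aniso 3] using e1
    rw [de, h, hb0]; simp)
  have hz : a * f (u 2) (u 2) * (a * d - b * c) = 0 := by linear_combination d * e1 - b * e2
  have hz' := (mul_eq_zero.mp hz).resolve_left (mul_ne_zero ha0 (hu.aniso 2))
  refine hw ?_
  rw [show w = (c / a) • e by
    rw [de, dw, smul_add, smul_smul, smul_smul, div_mul_cancel₀ _ ha0]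
    congr 2
    field_simp
    linear_combination hz', sym_quad_smul hf, hee, mul_zero]

lemma Eig.fix {A : GL (Fin 4) F} {u : Fin 4 → Fin 4 → F} {s : Fin 4 → ℤ} (h : Eig A u s) {i : Fin 4} (hi : s i = 1) :
    A.val *ᵥ u i = u i := by rw [h.act, hi, Int.cast_one, one_smul]

namespace Ctx4
variable (C : Ctx4 f M)
include C

/-- The root subgroup of a slot, as a subgroup. -/
def rootSub (C : Ctx4 f M) (j : Fin (t + 2)) {e e' : Fin 4 → F} (hee : f e e = 0) (hee' : f e e' = 1) :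
    Subgroup (GL (Idx (t + 2) 4) F) where
  carrier := {x | ∃ w ∈ pairW f e e', x = slotEl j (eU C.sym C.two e w)}
  one_mem' := ⟨0, zero_mem _, by
    rw [show eU C.sym C.two e 0 = 1 from Units.ext (by
      rw [eU_val C.sym C.two hee (SpO.sym_zero_right C.sym e), eA_zero C.sym, Units.val_one]), slot_one]⟩
  mul_mem' := by
    rintro _ _ ⟨w, hw, rfl⟩ ⟨w', hw', rfl⟩
    have h1 : f e w = 0 := by rw [C.sym.symm]; exact ((mem_pairW C.sym).mp hw).1
    have h3 : f e w' = 0 := by rw [C.sym.symm]; exact ((mem_pairW C.sym).mp hw').1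
    refine ⟨w + w', add_mem hw hw', ?_⟩
    rw [slotEl_mul]
    congr 1
    refine Units.ext ?_
    rw [Units.val_mul, eU_val C.sym C.two hee h1, eU_val C.sym C.two hee h3, eA_mul C.sym C.two hee h1 h3,
      eU_val C.sym C.two hee (by rw [C.sym.bilinear.add_right, h1, h3, add_zero])]
  inv_mem' := by
    rintro _ ⟨w, hw, rfl⟩
    have h1 : f e w = 0 := by rw [C.sym.symm]; exact ((mem_pairW C.sym).mp hw).1
    refine ⟨-w, neg_mem hw, inv_eq_of_mul_eq_one_right ?_⟩
    have h3 : f e (-w) = 0 := by rw [OO.sym_neg_right C.sym, h1, neg_zero]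
    rw [slotEl_mul, show eU C.sym C.two e w * eU C.sym C.two e (-w) = 1 from Units.ext (by
      rw [Units.val_mul, eU_val C.sym C.two hee h1, eU_val C.sym C.two hee h3, OO.eA_mul_neg C.sym C.two hee h1,
        Units.val_one]), slot_one]

/-- The elements fixing the slot subspace pointwise. -/
def fixL (C : Ctx4 f M) (s : Fin (t + 2)) (v : Fin 4 → F) : Subgroup (GL (Idx (t + 2) 4) F) where
  carrier := {g | g ∈ M ∧ ∀ x ∈ slotW s v, g.val *ᵥ x = x}
  one_mem' := ⟨M.one_mem, fun x _ => by rw [Units.val_one, one_mulVec]⟩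
  mul_mem' := fun ⟨hg, hgx⟩ ⟨hh, hhx⟩ => ⟨M.mul_mem hg hh, fun x hx => by
    rw [Transvec.mul_mulVec, hhx x hx, hgx x hx]⟩
  inv_mem' := fun {g} ⟨hg, hgx⟩ => ⟨M.inv_mem hg, fun x hx => by
    conv_lhs => rw [← hgx x hx]
    rw [Transvec.inv_mulVec_cancel]⟩

lemma slot_mem_fixL {s : Fin (t + 2)} {v : Fin 4 → F} {A : GL (Fin 4) F} (hM : slotEl s A ∈ M)
    (hv : A.val *ᵥ v = v) : slotEl s A ∈ C.fixL s v := by
  refine ⟨hM, fun x hx => ?_⟩
  have : slotW s v ≤ LinearMap.ker (Matrix.mulVecLin (slotEl s A).val - LinearMap.id) := slotW_le fun xs hxs => by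
    rw [LinearMap.mem_ker, LinearMap.sub_apply, Matrix.mulVecLin_apply, LinearMap.id_apply, sub_eq_zero,
      TWMax.slotEl_apply, hxs, hv, ← hxs, Function.update_eq_self]
  simpa [sub_eq_zero] using this hx

/-- The tensor wreath elements fixing the slot subspace pointwise. -/
lemma fixL_tw {s : Fin (t + 2)} {v : Fin 4 → F} (hv : f v v ≠ 0) {g : GL (Idx (t + 2) 4) F} (hg : g ∈ C.fixL s v)
    (htw : IsTW g) : ∃ A ∈ isoF f, A.val *ᵥ v = v ∧ g = slotEl s A := by
  classical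
  have hf := C.sym
  have hv0 : v ≠ 0 := fun h => hv (by rw [h, sym_zero_left hf])
  obtain ⟨σ, gs, hd⟩ := htw
  obtain ⟨i, hi⟩ := σ.surjective s
  have hgim : gim g (slotW s v) = slotW s v := by
    ext x
    rw [mem_gim]
    exact ⟨fun ⟨w, hw, e⟩ => by rwa [← e, hg.2 w hw], fun hx => ⟨x, hx, hg.2 x hx⟩⟩
  have his : i = s := by
    have h := hd.gim_slotW i hv0
    rw [hi, hgim] at h
    exact slot_eq_of_slotW_eq (by norm_num) (Transvec.mulVec_ne_zero _ hv0) hv0 h.symm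
  rw [his] at hi
  obtain ⟨A, π, hA, hπ, hsl⟩ := hd.slot hi
  obtain ⟨φ, -, hφ⟩ := exists_functional (E := (⊥ : Submodule F (Fin 4 → F))) (u := v) (by simpa using hv0)
  have hfix : ∀ zs : Fin (t + 1) → Fin 4 → F, pt ((flatG (t + 1) 4 A).val *ᵥ fv zs) ((gs s).val *ᵥ v) = pt (fv zs) v := by
    intro zs
    have hm := pv_mem_slotW s (Fin.insertNth (α := fun _ => Fin 4 → F) s v zs)
    rw [Fin.insertNth_apply_same] at hm
    have h := hg.2 _ hm
    have h' := congrArg (fun z => z ∘ (slotE s).symm) h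
    rw [← glReindex_mulVec, show Cfsg.Geo.glReindex (slotE s) g = slotG s g from rfl, hsl, slot_vec, kr_apply] at h'
    simpa using h'
  obtain ⟨c, hc⟩ : ∃ c : F, c = φ ⬝ᵥ ((gs s).val *ᵥ v) := ⟨_, rfl⟩
  have hcz : ∀ zs, c • ((flatG (t + 1) 4 A).val *ᵥ fv zs) = fv zs := fun zs => by
    have h := congrArg (sl φ) (hfix zs)
    rwa [sl_pt, sl_pt, hφ, one_smul, ← hc] at h
  have hc0 : c ≠ 0 := fun h0 => by
    have h := hcz fun _ => v
    rw [h0, zero_smul] at h
    exact TWMax.pv_ne_zero (fun _ => hv0) ((TWMax.flatE (t + 1) 4).symm.surjective.injective_comp_right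
      (a₂ := 0) h.symm)
  obtain ⟨B, hB⟩ := exists_smul_gl (gs s) (inv_ne_zero hc0)
  have hgB : g = slotEl s B := by
    refine (slotG s).injective ?_
    rw [hsl, slotG_slotEl]
    refine TWMax.slot_ext fun zs u => ?_
    rw [kr_apply, kr_apply, Units.val_one, one_mulVec, hB, smul_mulVec, pt_smul_right]
    conv_rhs => rw [← hcz zs, pt_smul_left, smul_smul, inv_mul_cancel₀ hc0, one_smul]
  have hBv : B.val *ᵥ v = v := by
    have h := hg.2 _ (pv_mem_slotW s (fun _ : Fin (t + 2) => v))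
    rw [hgB, TWMax.slotEl_apply] at h
    by_contra hne
    obtain ⟨ψ, hψ, hψ1⟩ := exists_functional (E := Submodule.span F {v}) (u := B.val *ᵥ v) (fun hm => by
      obtain ⟨a, ha⟩ := Submodule.mem_span_singleton.mp hm
      rw [← ha, OPow.pv_smul, ← sub_eq_zero] at h
      rw [show Function.update (fun _ : Fin (t + 2) => v) s v = fun _ => v from Function.update_eq_self _ _] at h
      have h' : (a - 1) • pv (fun _ : Fin (t + 2) => v) = 0 := by rw [sub_smul, one_smul]; exact h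
      exact hne (by rw [← ha, sub_eq_zero.mp ((smul_eq_zero.mp h').resolve_right (TWMax.pv_ne_zero fun _ => hv0)),
        one_smul]))
    have h' := congrArg (fun z => sl ψ (z ∘ (slotE s).symm)) h
    simp only [slot_vec, sl_pt, Function.update_self, hψ1, one_smul, hψ v (Submodule.mem_span_singleton_self v),
      zero_smul] at h'
    refine TWMax.pv_ne_zero (xs := fun _ : Fin (t + 1) => v) (fun _ => hv0)
      ((TWMax.flatE (t + 1) 4).symm.surjective.injective_comp_right (a₂ := 0) ?_)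
    simpa [Fin.succAbove_ne, TWMax.fv] using h'
  obtain ⟨μ, -, hμ⟩ := OPow.sim_of_tw hf C.two (by norm_num) (slotEl_data s B) (hgB ▸ C.iso g hg.1) s
  simp only [Function.update_self] at hμ
  have hμ1 : μ = 1 := mul_right_cancel₀ hv (by rw [one_mul, ← hμ, hBv])
  exact ⟨B, fun x y => by rw [hμ, hμ1, one_mul], hBv, hgB⟩

variable {s j : Fin (t + 2)} {v : Fin 4 → F} (hsj : j ≠ s) (hv : f v v ≠ 0)
include hsj hv

/-- The centraliser of a suitable slot involution in the pointwise stabiliser. -/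
theorem fixL_cent {H₀ : GL (Fin 4) F} (p : ℕ) [Fact p.Prime] [CharP F p]
    (hH : ∀ A ∈ isoF f, A.val *ᵥ v = v → A * H₀ = H₀ * A → A ^ p = 1 → A = 1)
    {g : GL (Idx (t + 2) 4) F} (hg : g ∈ C.fixL s v) (hc : g * slotEl s H₀ = slotEl s H₀ * g) : IsTW g := by
  classical
  have hf := C.sym
  obtain ⟨e, he, hee⟩ := exists_singular_sym hf C.two (by norm_num : 3 ≤ 4)
  obtain ⟨e', he', hee', -⟩ := exists_partner_sym hf C.two he hee
  obtain ⟨E, hEd⟩ : ∃ E, E = C.rootSub j hee hee' := ⟨_, rfl⟩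
  obtain ⟨K, hK⟩ : ∃ K : Subgroup (GL (Idx (t + 2) 4) F),
      ∀ k, k ∈ K ↔ k ∈ C.fixL s v ∧ k * slotEl s H₀ = slotEl s H₀ * k :=
    ⟨C.fixL s v ⊓ Subgroup.centralizer {slotEl s H₀}, fun k => by
      rw [Subgroup.mem_inf, Subgroup.mem_centralizer_singleton_iff]⟩
  obtain ⟨R, hR⟩ : ∃ R : Subgroup (GL (Idx (t + 2) 4) F), ∀ k, k ∈ R ↔ k ∈ K ∧ IsTW k :=
    ⟨K ⊓ OPow.twGroup F (t + 2) 4, fun k => by rw [Subgroup.mem_inf, OPow.mem_twGroup]⟩
  have hRp : ¬ p ∣ Nat.card R := fun hd => by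
    obtain ⟨⟨k, hk⟩, hko⟩ := exists_prime_orderOf_dvd_card' p hd
    obtain ⟨hkK, hkt⟩ := (hR k).mp hk
    obtain ⟨A, hA, hAv, rfl⟩ := C.fixL_tw hv ((hK k).mp hkK).1 hkt
    have hA1 : A = 1 := hH A hA hAv ((slotEl_comm_iff s).mp ((hK _).mp hkK).2) (by
      refine TWMax.slotEl_injective (by norm_num) s ?_
      have h := pow_orderOf_eq_one (⟨slotEl s A, hk⟩ : R)
      rw [hko] at h
      rw [← slot_pow, slot_one]
      exact congrArg Subtype.val h)
    have h1 : orderOf (⟨slotEl s A, hk⟩ : R) = 1 := by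
      rw [orderOf_eq_one_iff]; exact Subtype.ext (by simp [hA1, slot_one])
    exact (Fact.out : p.Prime).one_lt.ne' (hko ▸ h1)
  -- facts about the root subgroup
  have hEw : ∀ x ∈ E, x ≠ 1 → ∃ w, f e w = 0 ∧ f w w ≠ 0 ∧ x = slotEl j (eU hf C.two e w) := fun x hx h1 => by
    obtain ⟨w, hw, rfl⟩ := hEd ▸ hx
    obtain ⟨hwe, hwe'⟩ := (mem_pairW hf).mp hw
    refine ⟨w, by rw [hf.symm, hwe], fun h0 => h1 ?_, rfl⟩
    rw [eq_zero_of_pairW_singular hf C.noline hee hee' hwe hwe' h0]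
    have h := (C.rootSub j hee hee').one_mem
    rw [show eU hf C.two e 0 = 1 from Units.ext (by
      rw [eU_val hf C.two hee (SpO.sym_zero_right hf e), eA_zero hf, Units.val_one]), slot_one]
  have hEM : ∀ x ∈ E, x ∈ M := fun x hx => by
    by_cases h1 : x = 1
    · rw [h1]; exact M.one_mem
    obtain ⟨w, hew, hw, rfl⟩ := hEw x hx h1
    exact C.eU_mem j hee hew hw
  have hcomm : ∀ x ∈ E, ∀ A : GL (Fin 4) F, x * slotEl s A = slotEl s A * x := fun x hx A => by
    obtain ⟨w, -, rfl⟩ := hEd ▸ hx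
    exact slotEl_commute hsj _ _
  have hnorm : ∀ x ∈ E, ∀ k ∈ K, x * k * x⁻¹ ∈ K := fun x hx k hk => by
    obtain ⟨⟨hkM, hkf⟩, hkc⟩ := (hK k).mp hk
    refine (hK _).mpr ⟨⟨M.mul_mem (M.mul_mem (hEM x hx) hkM) (M.inv_mem (hEM x hx)), fun z hz => ?_⟩, ?_⟩
    · obtain ⟨w, hw, hxw⟩ := hEd ▸ hx
      have hmap : ∀ B : GL (Fin 4) F, ∀ z ∈ slotW s v, (slotEl j B).val *ᵥ z ∈ slotW s v := fun B z hz => by
        have : slotW s v ≤ (slotW s v).comap (Matrix.mulVecLin (slotEl j B).val) := slotW_le fun xs hxs => by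
          rw [Submodule.mem_comap, Matrix.mulVecLin_apply, TWMax.slotEl_apply]
          have := pv_mem_slotW s (Function.update xs j (B.val *ᵥ xs j))
          rwa [Function.update_of_ne hsj.symm, hxs] at this
        exact this hz
      have hxz : x⁻¹.val *ᵥ z ∈ slotW s v := by
        rw [hxw, slotEl_inv']
        exact hmap _ z hz
      rw [Transvec.mul_mulVec, Transvec.mul_mulVec, hkf _ hxz, Transvec.mulVec_inv_cancel]
    · have h := hcomm x hx H₀
      have h' : x⁻¹ * slotEl s H₀ = slotEl s H₀ * x⁻¹ := hcomm x⁻¹ (E.inv_mem hx) H₀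
      rw [mul_assoc, h', ← mul_assoc, mul_assoc x k, hkc, ← mul_assoc, h, mul_assoc, mul_assoc, mul_assoc]
  have hcent : ∀ x ∈ E, x ≠ 1 → ∀ k ∈ K, x * k = k * x → k ∈ R := fun x hx h1 k hk hxk => by
    obtain ⟨w, hew, hw, rfl⟩ := hEw x hx h1
    refine (hR k).mpr ⟨hk, C.root_conj (l := j) (j := j) ((hK k).mp hk).1.1 he hee hew hw he hee hew hw ?_⟩
    rw [← hxk, mul_inv_cancel_right]
  have hRx : ∀ x ∈ E, ∀ r ∈ R, x * r = r * x := fun x hx r hr => by
    obtain ⟨A, -, -, rfl⟩ := C.fixL_tw hv ((hK r).mp ((hR r).mp hr).1).1 ((hR r).mp hr).2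
    exact hcomm x hx A
  obtain ⟨w₀, hw₀, hw₀q⟩ := exists_aniso hf C.two (nd_pairW hf hee he' hee')
    (by have := finrank_pairW hf e e'; omega)
  have hw₀e : f e w₀ = 0 := by rw [hf.symm]; exact ((mem_pairW hf).mp hw₀).1
  have hx₀ : slotEl j (eU hf C.two e w₀) ∈ E := hEd ▸ ⟨w₀, hw₀, rfl⟩
  have hx₀1 : slotEl j (eU hf C.two e w₀) ≠ 1 := fun h => eU_ne_one hf C.two he hee hw₀e hw₀q
    (TWMax.slotEl_injective (by norm_num) j (h.trans (slot_one j).symm))
  have hKp : ¬ p ∣ Nat.card K := OPow.Three.card_coprime_of_fix (R := R)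
    (by rw [slot_pow, eU_pow_char hf C.two p hee hw₀e, slot_one]) (fun k hk => ((hR k).mp hk).1)
    (hnorm _ hx₀) (hRx _ hx₀) (hcent _ hx₀ hx₀1) hRp
  have hexp : ∀ x : E, x ^ p = 1 := fun x => by
    have hx := x.2
    simp only [hEd] at hx
    obtain ⟨w, hw, hxw⟩ := hx
    refine Subtype.ext ?_
    rw [SubgroupClass.coe_pow, hxw, slot_pow,
      eU_pow_char hf C.two p hee (by rw [hf.symm]; exact ((mem_pairW hf).mp hw).1), slot_one]
    rfl
  have hnc : ¬ IsCyclic E := fun hcy => by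
    obtain ⟨γ, hγ⟩ := hcy.exists_generator
    have h1 : Nat.card E ≤ p := by
      rw [← orderOf_eq_card_of_forall_mem_zpowers hγ]
      exact Nat.le_of_dvd (Fact.out : p.Prime).pos (orderOf_dvd_of_pow_eq_one (hexp γ))
    obtain ⟨Φ, hΦ⟩ : ∃ Φ : pairW f e e' → E, ∀ w, (Φ w).1 = slotEl j (eU hf C.two e w.1) :=
      ⟨fun w => ⟨_, hEd ▸ ⟨w.1, w.2, rfl⟩⟩, fun w => rfl⟩
    have hinj : Function.Injective Φ := fun w w' h => by
      have h0 := TWMax.slotEl_injective (by norm_num) j ((hΦ w).symm.trans ((congrArg Subtype.val h).trans (hΦ w')))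
      by_contra hne
      have hd : w.1 - w'.1 ∈ pairW f e e' := sub_mem w.2 w'.2
      obtain ⟨hde, hde'⟩ := (mem_pairW hf).mp hd
      have hwe : ∀ z : pairW f e e', f e z.1 = 0 := fun z => by rw [hf.symm]; exact ((mem_pairW hf).mp z.2).1
      have hdd : f (w.1 - w'.1) (w.1 - w'.1) ≠ 0 := fun h' => hne (Subtype.ext (sub_eq_zero.mp
        (eq_zero_of_pairW_singular hf C.noline hee hee' hde hde' h')))
      refine eU_ne_one hf C.two he hee (by rw [hf.symm]; exact hde) hdd ?_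
      rw [mul_eq_left (a := eU hf C.two e w'.1) |>.symm]
      refine Units.ext ?_
      rw [Units.val_mul, eU_val hf C.two hee (hwe w'), eU_val hf C.two hee (by rw [hf.symm]; exact hde),
        eA_mul hf C.two hee (hwe w') (by rw [hf.symm]; exact hde), add_sub_cancel, ← eU_val hf C.two hee (hwe w), h0,
        eU_val hf C.two hee (hwe w')]
    have h3 : p * p ≤ Nat.card (pairW f e e') := by
      haveI := Fintype.ofFinite (pairW f e e')
      rw [Nat.card_eq_fintype_card, Module.card_eq_pow_finrank (K := F)]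
      obtain ⟨n, -, hq⟩ := FiniteField.card F p
      have hp' : p ≤ Fintype.card F := by rw [hq]; exact Nat.le_self_pow n.pos.ne' p
      have hd2 : 2 ≤ Module.finrank F (pairW f e e') := by have := finrank_pairW hf e e'; omega
      exact le_trans (by rw [← pow_two]; exact Nat.pow_le_pow_left hp' 2)
        (Nat.pow_le_pow_right Fintype.card_pos hd2)
    have := Nat.card_le_card_of_injective _ hinj
    have := (Fact.out : p.Prime).two_le
    nlinarith
  have hcop : (Nat.card E).Coprime (Nat.card K) := by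
    have hE : IsPGroup p E := fun x => ⟨1, by rw [pow_one]; exact hexp x⟩
    obtain ⟨n, hn⟩ := IsPGroup.iff_card.mp hE
    rw [hn]
    exact Nat.Coprime.pow_left _ ((Fact.out : p.Prime).coprime_iff_not_dvd.mpr hKp)
  have hgen := CfsgLib.Solvable.iSup_centralizer_eq (A := E) (K := K) (fun x hx y hy => by
      obtain ⟨w, hw, rfl⟩ := hEd ▸ hx
      obtain ⟨w', hw', rfl⟩ := hEd ▸ hy
      rw [slotEl_mul, slotEl_mul]
      congr 1
      refine Units.ext ?_
      have h1 : f e w = 0 := by rw [hf.symm]; exact ((mem_pairW hf).mp hw).1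
      have h3 : f e w' = 0 := by rw [hf.symm]; exact ((mem_pairW hf).mp hw').1
      rw [Units.val_mul, Units.val_mul, eU_val hf C.two hee h1, eU_val hf C.two hee h3,
        eA_mul hf C.two hee h1 h3, eA_mul hf C.two hee h3 h1, add_comm]) hnc
    (fun x hx => Subgroup.mem_normalizer_iff.mpr fun k => ⟨fun hk => hnorm x hx k hk, fun hk => by
      have := hnorm x⁻¹ (E.inv_mem hx) _ hk
      rwa [inv_inv, ← mul_assoc, ← mul_assoc, inv_mul_cancel, one_mul, inv_mul_cancel_right] at this⟩) hcop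
  have hKR : K ≤ R := by
    rw [← hgen]
    refine iSup₂_le fun a ha k hk => ?_
    exact hcent a ha.1 ha.2 k hk.1 ((Subgroup.mem_centralizer_singleton_iff.mp hk.2).symm)
  exact ((hR g).mp (hKR ((hK g).mpr ⟨hg, hc⟩))).2

/-- An element of the pointwise stabiliser conjugating a suitable involution into a slot element. -/
theorem fixL_fus {H₀ X : GL (Fin 4) F} (p : ℕ) [Fact p.Prime] [CharP F p]
    (hH : ∀ A ∈ isoF f, A.val *ᵥ v = v → A * H₀ = H₀ * A → A ^ p = 1 → A = 1)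
    {g : GL (Idx (t + 2) 4) F} (hg : g ∈ C.fixL s v) (hgc : g * slotEl s H₀ * g⁻¹ = slotEl s X) : IsTW g := by
  classical
  have hf := C.sym
  obtain ⟨e, he, hee⟩ := exists_singular_sym hf C.two (by norm_num : 3 ≤ 4)
  obtain ⟨e', he', hee', -⟩ := exists_partner_sym hf C.two he hee
  obtain ⟨w, hw, hwq⟩ := exists_aniso hf C.two (nd_pairW hf hee he' hee')
    (by have := finrank_pairW hf e e'; omega)
  have hew : f e w = 0 := by rw [hf.symm]; exact ((mem_pairW hf).mp hw).1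
  obtain ⟨x, hx⟩ : ∃ x, x = slotEl j (eU hf C.two e w) := ⟨_, rfl⟩
  have hxM : x ∈ M := hx ▸ C.eU_mem j hee hew hwq
  have hxA : ∀ A, x * slotEl s A = slotEl s A * x := fun A => hx ▸ slotEl_commute hsj _ _
  have hxp : x ^ p = 1 := by rw [hx, slot_pow, eU_pow_char hf C.two p hee hew, slot_one]
  have hxi : x⁻¹ = slotEl j (eU hf C.two e w)⁻¹ := by rw [hx, slotEl_inv']
  obtain ⟨S, hS⟩ : ∃ S : Set (GL (Idx (t + 2) 4) F), ∀ k, k ∈ S ↔ k ∈ C.fixL s v ∧
      k * slotEl s H₀ * k⁻¹ = slotEl s X := ⟨{k | k ∈ C.fixL s v ∧ _}, fun k => Iff.rfl⟩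
  have hxS : ∀ k ∈ S, x * k * x⁻¹ ∈ S := fun k hk => by
    obtain ⟨⟨hkM, hkf⟩, hkc⟩ := (hS k).mp hk
    refine (hS _).mpr ⟨⟨M.mul_mem (M.mul_mem hxM hkM) (M.inv_mem hxM), fun z hz => ?_⟩, ?_⟩
    · have hxz : x⁻¹.val *ᵥ z ∈ slotW s v := by
        have : slotW s v ≤ (slotW s v).comap (Matrix.mulVecLin (x⁻¹).val) := slotW_le fun xs hxs => by
          rw [Submodule.mem_comap, Matrix.mulVecLin_apply, hxi, TWMax.slotEl_apply]
          have := pv_mem_slotW s (Function.update xs j ((eU hf C.two e w)⁻¹.val *ᵥ xs j))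
          rwa [Function.update_of_ne hsj.symm, hxs] at this
        exact this hz
      rw [Transvec.mul_mulVec, Transvec.mul_mulVec, hkf _ hxz, Transvec.mulVec_inv_cancel]
    · have h1 := hxA H₀
      have h3 := hxA X
      calc x * k * x⁻¹ * slotEl s H₀ * (x * k * x⁻¹)⁻¹ = x * k * (x⁻¹ * (slotEl s H₀ * x)) * k⁻¹ * x⁻¹ := by group
        _ = x * (k * slotEl s H₀ * k⁻¹) * x⁻¹ := by rw [← h1, inv_mul_cancel_left]; group
        _ = slotEl s X := by rw [hkc, h3, mul_inv_cancel_right]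
  haveI : Fintype S := Fintype.ofFinite _
  obtain ⟨τ, hτ⟩ : ∃ τ : Equiv.Perm S, ∀ k, (τ k).1 = x * k.1 * x⁻¹ :=
    ⟨Equiv.ofBijective (fun k : S => (⟨x * k.1 * x⁻¹, hxS _ k.2⟩ : S)) (Finite.injective_iff_bijective.mp
      fun a b h => Subtype.ext (mul_left_cancel (mul_right_cancel (congrArg Subtype.val h)))), fun k => rfl⟩
  have hpow : ∀ (i : ℕ) k, ((τ ^ i) k).1 = x ^ i * k.1 * (x ^ i)⁻¹ := fun i => by
    induction i with
    | zero => intro k; simp
    | succ i ih => intro k; rw [pow_succ' τ, Equiv.Perm.mul_apply, hτ, ih, pow_succ']; group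
  obtain ⟨K, hK⟩ : ∃ K : Subgroup (GL (Idx (t + 2) 4) F),
      ∀ k, k ∈ K ↔ k ∈ C.fixL s v ∧ k * slotEl s H₀ = slotEl s H₀ * k :=
    ⟨C.fixL s v ⊓ Subgroup.centralizer {slotEl s H₀}, fun k => by
      rw [Subgroup.mem_inf, Subgroup.mem_centralizer_singleton_iff]⟩
  have hKp : ¬ p ∣ Nat.card K := fun hd => by
    obtain ⟨⟨k, hk⟩, hko⟩ := exists_prime_orderOf_dvd_card' p hd
    obtain ⟨hkL, hkc⟩ := (hK k).mp hk
    obtain ⟨A, hA, hAv, rfl⟩ := C.fixL_tw hv hkL (C.fixL_cent hsj hv p hH hkL hkc)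
    have hA1 : A = 1 := hH A hA hAv ((slotEl_comm_iff s).mp hkc) (by
      refine TWMax.slotEl_injective (by norm_num) s ?_
      have h := pow_orderOf_eq_one (⟨slotEl s A, hk⟩ : K)
      rw [hko] at h
      rw [← slot_pow, slot_one]
      exact congrArg Subtype.val h)
    have h1 : orderOf (⟨slotEl s A, hk⟩ : K) = 1 := by
      rw [orderOf_eq_one_iff]; exact Subtype.ext (by simp [hA1, slot_one])
    exact (Fact.out : p.Prime).one_lt.ne' (hko ▸ h1)
  have hcard : Nat.card S = Nat.card K := by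
    refine Nat.card_congr ⟨fun k => ⟨g⁻¹ * k.1, (hK _).mpr ?_⟩, fun k => ⟨g * k.1, (hS _).mpr ?_⟩,
      fun k => Subtype.ext (by simp), fun k => Subtype.ext (by simp)⟩
    · obtain ⟨hkL, hkc⟩ := (hS _).mp k.2
      refine ⟨(C.fixL s v).mul_mem ((C.fixL s v).inv_mem hg) hkL, ?_⟩
      have h1 : k.1 * slotEl s H₀ = slotEl s X * k.1 := by rw [← hkc, inv_mul_cancel_right]
      rw [mul_assoc, h1, ← hgc]; group
    · obtain ⟨hkL, hkc⟩ := (hK _).mp k.2
      refine ⟨(C.fixL s v).mul_mem hg hkL, ?_⟩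
      rw [← hgc, mul_assoc g k.1, hkc]; group
  obtain ⟨k₀, hk₀⟩ := Equiv.Perm.exists_fixed_point_of_prime (p := p) (n := 1)
    (by rw [← Nat.card_eq_fintype_card, hcard]; exact hKp) (σ := τ)
    (by refine Equiv.ext fun k => Subtype.ext ?_; rw [hpow, pow_one, hxp]; simp)
  obtain ⟨hk₀L, hk₀c⟩ := (hS _).mp k₀.2
  have hk₀x : x * k₀.1 * x⁻¹ = k₀.1 := (hτ k₀).symm.trans (congrArg Subtype.val hk₀)
  have htw : IsTW k₀.1 := by
    refine C.root_conj hk₀L.1 he hee hew hwq he hee hew hwq (l := j) (j := j) ?_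
    rw [← hx, ← mul_inv_eq_iff_eq_mul.mp hk₀x, mul_inv_cancel_right]
  have hgK : g⁻¹ * k₀.1 ∈ K := by
    refine (hK _).mpr ⟨(C.fixL s v).mul_mem ((C.fixL s v).inv_mem hg) hk₀L, ?_⟩
    have h1 : k₀.1 * slotEl s H₀ = slotEl s X * k₀.1 := by rw [← hk₀c, inv_mul_cancel_right]
    rw [mul_assoc, h1, ← hgc]; group
  obtain ⟨hgL, hgc'⟩ := (hK _).mp hgK
  have := isTW_mul htw (isTW_inv (C.fixL_cent hsj hv p hH hgL hgc'))
  rwa [_root_.mul_inv_rev, inv_inv, mul_inv_cancel_left] at this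

end Ctx4

end CfsgLib.Classical22.OFour
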