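/-
Elements commuting with a slot reflection or with two half turns of one slot.
-/
import Cfsg.Agent.Lib.Classical22.OrthFour.Stab

set_option autoImplicit false
set_option linter.unusedSectionVars false
set_option linter.unusedSimpArgs false

namespace CfsgLib.Classical22.OFour

open Matrix CfsgLib.Transvec CfsgLib.Classical22.TensorMax CfsgLib.Classical22.TensorMax.SympO
open CfsgLib.Classical22.TensorMax.SpO (sym_zero_left sym_sub_left sym_quad_smul sym_quad_add sym_outer exists_value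
  exists_aniso nd_perpIn finrank_perpIn mem_perpIn perpIn sym_neg_left)
open CfsgLib.Classical22.TensorMax.OO (eq_sum_of_orth sym_neg_right)
open CfsgLib.Classical22.TWMax (Idx pv TWData IsTW slotEl slotEl_mul slotEl_val emb emb_mul slotW gim gim_mul
  gim_inv_gim)
open CfsgLib.Classical22.OPow (PIso isoF mem_isoF rG rG_iso rG_mul_self rG_apply slotEl_commute isTW_mul)
open scoped MatrixGroups

variable {F : Type*} [Field F] [Fintype F] {f : (Fin 4 → F) → (Fin 4 → F) → F}

lemma char_odd (h2 : (2 : F) ≠ 0) (p : ℕ) [Fact p.Prime] [CharP F p] : Odd p :=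
  (Fact.out : p.Prime).odd_of_ne_two (by rintro rfl; exact h2 (by simpa using CharP.cast_eq_zero F 2))

lemma sum_four (e : Fin 4 → ℤ) (he : ∀ i, e i = 1 ∨ e i = -1) (h0 : e 0 = 1) (hs : ∑ i, e i = 0) :
    ∃ i, i ≠ 0 ∧ e i = 1 ∧ ∀ j, j ≠ 0 → j ≠ i → e j = -1 := by
  rw [Fin.sum_univ_four, h0] at hs
  rcases he 1 with a | a <;> rcases he 2 with b | b <;> rcases he 3 with c | c <;> rw [a, b, c] at hs <;>
    first
      | omega
      | (refine ⟨1, by decide, a, fun j hj hj' => ?_⟩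
         fin_cases j <;> first | exact absurd rfl hj | exact absurd rfl hj' | exact b | exact c)
      | (refine ⟨2, by decide, b, fun j hj hj' => ?_⟩
         fin_cases j <;> first | exact absurd rfl hj | exact absurd rfl hj' | exact a | exact c)
      | (refine ⟨3, by decide, c, fun j hj hj' => ?_⟩
         fin_cases j <;> first | exact absurd rfl hj | exact absurd rfl hj' | exact a | exact b)

/-- The centraliser of a half turn in the stabiliser of a vector has order prime to `p`. -/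
lemma half_cent (hf : Cfsg.Geo.IsSymmetricForm f) (h2 : (2 : F) ≠ 0) (hn : NoLine f) (p : ℕ) [Fact p.Prime]
    [CharP F p] {u : Fin 4 → Fin 4 → F} (hu : Frame f u) {H₀ : GL (Fin 4) F} {e : Fin 4 → ℤ} (hH : Eig H₀ u e)
    (h0 : e 0 = 1) (hs : ∑ i, e i = 0) :
    ∀ A ∈ isoF f, A.val *ᵥ u 0 = u 0 → A * H₀ = H₀ * A → A ^ p = 1 → A = 1 := by
  intro A hA hA0 hc hp
  obtain ⟨i, hi0, hi, hij⟩ := sum_four e hH.sgn h0 hs
  have hfix : H₀.val *ᵥ (A.val *ᵥ u i) = A.val *ᵥ u i := by
    rw [← Transvec.mul_mulVec, ← hc, Transvec.mul_mulVec, hH.fix hi]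
  have hz : ∀ j, j ≠ i → f (A.val *ᵥ u i) (u j) = 0 := fun j hj => by
    by_cases hj0 : j = 0
    · subst hj0; rw [← hA0, hA, hu.orth i 0 hi0]
    have h := hu.eig_iso hf hH (A.val *ᵥ u i) (u j)
    rw [hfix, hH.act, hij j hj0 hj, Int.cast_neg, Int.cast_one, neg_one_smul, sym_neg_right hf] at h
    exact (mul_eq_zero.mp (show (2 : F) * f (A.val *ᵥ u i) (u j) = 0 by linear_combination -h)).resolve_left h2
  obtain ⟨c, hc'⟩ : ∃ c : F, A.val *ᵥ u i = c • u i := by
    refine ⟨f (A.val *ᵥ u i) (u i) / f (u i) (u i), ?_⟩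
    conv_lhs => rw [eq_sum_of_orth hf u hu.orth hu.aniso (A.val *ᵥ u i)]
    rw [Finset.sum_eq_single i (fun j _ hj => by rw [hz j hj, zero_div, zero_smul]) (by simp)]
  have hc1 : c = 1 := by
    have hpow : ∀ n : ℕ, (A ^ n).val *ᵥ u i = c ^ n • u i := fun n => by
      induction n with
      | zero => simp
      | succ n ih => rw [pow_succ', Transvec.mul_mulVec, ih, mulVec_smul, hc', smul_smul, pow_succ]
    have h1 := hpow p
    rw [hp, Units.val_one, one_mulVec] at h1
    have hcp : c ^ p = 1 := by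
      have h3 : (c ^ p - 1) • u i = 0 := by rw [sub_smul, one_smul, ← h1, sub_self]
      exact sub_eq_zero.mp ((smul_eq_zero.mp h3).resolve_right (hu.ne_zero hf i))
    have hcc : c * c = 1 := by
      have h := hA (u i) (u i)
      rw [hc', sym_quad_smul hf] at h
      exact mul_right_cancel₀ (hu.aniso i) (by rw [one_mul]; exact h)
    obtain ⟨r, hr⟩ := char_odd h2 p
    rwa [hr, pow_succ, pow_mul, pow_two, hcc, one_pow, one_mul] at hcp
  rw [hc1, one_smul] at hc'
  refine fix_two hf h2 hn p (hu.perm hf (Equiv.swap 1 i)) hA hp ?_ ?_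
  · simp [Function.comp, Equiv.swap_apply_of_ne_of_ne (show (0 : Fin 4) ≠ 1 by decide) hi0.symm, hA0]
  · simp [Function.comp, hc']

/-- Half turns with the same fixed vector whose planes differ in type. -/
lemma exists_halves (hf : Cfsg.Geo.IsSymmetricForm f) (h2 : (2 : F) ≠ 0) {v : Fin 4 → F} (hv : f v v ≠ 0) (c : F)
    (hc : c ≠ 0) : ∃ u, Frame f u ∧ u 0 = v ∧ f (u 1) (u 1) = c := by
  obtain ⟨W, hW, hd, hp⟩ := exists_perp hf h2 [v] (by simp) (by simp [hv])
  simp only [List.length_cons, List.length_nil] at hd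
  obtain ⟨b, hb, hbv⟩ := exists_value hf h2 hW (by omega) c
  have hvb : f v b = 0 := by rw [hf.symm]; simpa using (hp b).mp hb
  obtain ⟨u, hu, h0, h1⟩ := exists_extend_two hf h2 hv (by rwa [hbv]) hvb
  exact ⟨u, hu, h0, by rw [h1, hbv]⟩

/-- A singular vector with an orthogonal anisotropic one, both orthogonal to a given anisotropic vector. -/
lemma exists_root_perp (hf : Cfsg.Geo.IsSymmetricForm f) (h2 : (2 : F) ≠ 0) {v : Fin 4 → F} (hv : f v v ≠ 0) :
    ∃ e w, e ≠ 0 ∧ f e e = 0 ∧ f e w = 0 ∧ f w w ≠ 0 ∧ f e v = 0 ∧ f w v = 0 := by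
  obtain ⟨W, hW, hd, hp⟩ := exists_perp hf h2 [v] (by simp) (by simp [hv])
  simp only [List.length_cons, List.length_nil] at hd
  obtain ⟨d, hdW, hdq⟩ := exists_aniso hf h2 hW (by omega)
  have hW' := nd_perpIn hf hW hdW hdq
  have hd' := finrank_perpIn hf W d
  obtain ⟨x, hx, hxv⟩ := exists_value hf h2 hW' (by omega) (-f d d)
  obtain ⟨hxW, hxd⟩ := (mem_perpIn hf).mp hx
  have hxq : f x x ≠ 0 := by rw [hxv]; exact neg_ne_zero.mpr hdq
  obtain ⟨w, hw, hwq⟩ := exists_aniso hf h2 (nd_perpIn hf hW' hx hxq)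
    (by have := finrank_perpIn hf (perpIn f W d) x; omega)
  obtain ⟨hw', hwx⟩ := (mem_perpIn hf).mp hw
  obtain ⟨hwW, hwd⟩ := (mem_perpIn hf).mp hw'
  have hdv : f d v = 0 := by simpa using (hp d).mp hdW
  have hxv' : f x v = 0 := by simpa using (hp x).mp hxW
  have hwv : f w v = 0 := by simpa using (hp w).mp hwW
  refine ⟨x + d, w, fun h => ?_, ?_, ?_, hwq, by rw [hf.bilinear.add_left, hxv', hdv, add_zero], hwv⟩
  · have h' := congrArg (fun z => f z d) h
    simp only [hf.bilinear.add_left, hxd, zero_add, sym_zero_left hf] at h'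
    exact hdq h'
  · rw [sym_quad_add hf, hxd, hxv]; ring
  · rw [hf.bilinear.add_left, hf.symm x w, hwx, hf.symm d w, hwd, add_zero]

lemma half_sgn {s : Fin 4 → ℤ} (hs : s = ![1, 1, -1, -1]) : s 0 = 1 ∧ ∑ i, s i = 0 := by
  subst hs; simp [Fin.sum_univ_four]

variable {t : ℕ} {M : Subgroup (GL (Idx (t + 2) 4) F)}

/-- Is the half turn negating an isotropic plane. -/
def IsoNeg (f : (Fin 4 → F) → (Fin 4 → F) → F) (X : GL (Fin 4) F) : Prop :=
  ∃ x, x ≠ 0 ∧ f x x = 0 ∧ X.val *ᵥ x = -x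

lemma isoNeg_iff (hf : Cfsg.Geo.IsSymmetricForm f) (h2 : (2 : F) ≠ 0) {u : Fin 4 → Fin 4 → F} (hu : Frame f u)
    {X : GL (Fin 4) F} {e : Fin 4 → ℤ} (hX : Eig X u e) {i j : Fin 4} (hij : i ≠ j) (hi : e i = -1) (hj : e j = -1)
    (hr : ∀ l, l ≠ i → l ≠ j → e l = 1) :
    IsoNeg f X ↔ IsSquare (-(f (u i) (u i) * f (u j) (u j))) := by
  constructor
  · rintro ⟨x, hx, hxx, hXx⟩
    have hz : ∀ l, l ≠ i → l ≠ j → f x (u l) = 0 := fun l hli hlj => by
      have h := hu.eig_iso hf hX x (u l)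
      rw [hXx, hX.act, hr l hli hlj, Int.cast_one, one_smul, sym_neg_left hf] at h
      exact (mul_eq_zero.mp (show (2 : F) * f x (u l) = 0 by linear_combination -h)).resolve_left h2
    have hx' : x = (f x (u i) / f (u i) (u i)) • u i + (f x (u j) / f (u j) (u j)) • u j := by
      conv_lhs => rw [eq_sum_of_orth hf u hu.orth hu.aniso x]
      exact Finset.sum_eq_add i j hij (fun l _ hl => by rw [hz l hl.1 hl.2, zero_div, zero_smul]) (by simp) (by simp)
    obtain ⟨a, ha⟩ : ∃ a, a = f x (u i) / f (u i) (u i) := ⟨_, rfl⟩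
    obtain ⟨b, hb⟩ : ∃ b, b = f x (u j) / f (u j) (u j) := ⟨_, rfl⟩
    rw [← ha, ← hb] at hx'
    rw [hx', sym_quad_add hf, sym_quad_smul hf, sym_quad_smul hf, hf.bilinear.smul_left, hf.bilinear.smul_right,
      hu.orth i j hij] at hxx
    have hb0 : b ≠ 0 := fun h0 => hx (by
      rw [h0] at hxx
      have ha0 : a = 0 := by simpa [hu.aniso i] using hxx
      rw [hx', ha0, h0]; simp)
    refine ⟨a * f (u i) (u i) / b, ?_⟩
    field_simp
    linear_combination -(f (u i) (u i)) * hxx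
  · rintro ⟨r, hr'⟩
    refine ⟨r • u i + f (u i) (u i) • u j, fun h => ?_, ?_, ?_⟩
    · have h' := congrArg (fun z => f z (u j)) h
      simp only [hf.bilinear.add_left, hf.bilinear.smul_left, hu.orth i j hij, mul_zero, zero_add, sym_zero_left hf]
        at h'
      exact mul_ne_zero (hu.aniso i) (hu.aniso j) h'
    · rw [sym_quad_add hf, sym_quad_smul hf, sym_quad_smul hf, hf.bilinear.smul_left, hf.bilinear.smul_right,
        hu.orth i j hij]
      linear_combination -(f (u i) (u i)) * hr'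
    · rw [mulVec_add, mulVec_smul, mulVec_smul, hX.act, hX.act, hi, hj]
      simp only [Int.cast_neg, Int.cast_one, neg_one_smul, smul_neg]
      abel

lemma isoNeg_conj (hf : Cfsg.Geo.IsSymmetricForm f) {A X : GL (Fin 4) F} {μ : F}
    (hA : ∀ x y, f (A.val *ᵥ x) (A.val *ᵥ y) = μ * f x y) (hμ : μ ≠ 0) :
    IsoNeg f (A * X * A⁻¹) ↔ IsoNeg f X := by
  constructor
  · rintro ⟨x, hx, hxx, hXx⟩
    refine ⟨A⁻¹.val *ᵥ x, Transvec.mulVec_ne_zero _ hx, ?_, ?_⟩
    · have h := hA (A⁻¹.val *ᵥ x) (A⁻¹.val *ᵥ x)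
      rw [Transvec.mulVec_inv_cancel, hxx] at h
      exact (mul_eq_zero.mp h.symm).resolve_left hμ
    · refine Transvec.mulVec_injective A ?_
      simp only
      rw [mulVec_neg, Transvec.mulVec_inv_cancel, ← hXx, Transvec.mul_mulVec, Transvec.mul_mulVec]
  · rintro ⟨x, hx, hxx, hXx⟩
    refine ⟨A.val *ᵥ x, Transvec.mulVec_ne_zero _ hx, by rw [hA, hxx, mul_zero], ?_⟩
    rw [Transvec.mul_mulVec, Transvec.mul_mulVec, Transvec.inv_mulVec_cancel, hXx, mulVec_neg]

/-- The half turn negating the last two vectors of a frame. -/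
noncomputable def half (hf : Cfsg.Geo.IsSymmetricForm f) (u : Fin 4 → Fin 4 → F) : GL (Fin 4) F :=
  rG hf (u 2) * rG hf (u 3)

lemma half_eig (hf : Cfsg.Geo.IsSymmetricForm f) {u : Fin 4 → Fin 4 → F} (hu : Frame f u) :
    Eig (half hf u) u ![1, 1, -1, -1] := by
  have h := (hu.eig_rG hf 2).mul (hu.eig_rG hf 3)
  rw [show ((fun l : Fin 4 => if l = 2 then (-1 : ℤ) else 1) * fun l : Fin 4 => if l = 3 then (-1 : ℤ) else 1) =
    ![1, 1, -1, -1] from funext fun i => by fin_cases i <;> simp] at h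
  exact h

/-- Two half turns whose product is not trivial. -/
lemma sign_sum_zero {u a : Fin 4 → ℤ} (hu : ∀ j, u j = 1 ∨ u j = -1) (ha : ∀ j, a j = 1 ∨ a j = -1) {i : Fin 4}
    (hui : u i = 1) (hai : a i = 1) (h0 : ∑ j, u j = 0) (h1 : ∑ j, (u * a) j = 0) (hn : ¬ ∀ j, a j = 1) :
    ∑ j, a j = 0 := by
  obtain ⟨b, rfl⟩ : ∃ b : Fin 4 → Bool, u = fun j => if b j then 1 else -1 :=
    ⟨fun j => decide (u j = 1), funext fun j => by rcases hu j with h | h <;> simp [h]⟩
  obtain ⟨c, rfl⟩ : ∃ c : Fin 4 → Bool, a = fun j => if c j then 1 else -1 :=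
    ⟨fun j => decide (a j = 1), funext fun j => by rcases ha j with h | h <;> simp [h]⟩
  have key : ∀ b0 b1 b2 b3 c0 c1 c2 c3 : Bool,
      ((b0 = true ∧ c0 = true) ∨ (b1 = true ∧ c1 = true) ∨ (b2 = true ∧ c2 = true) ∨ (b3 = true ∧ c3 = true)) →
      [b0, b1, b2, b3].count true = 2 → [b0 == c0, b1 == c1, b2 == c2, b3 == c3].count true = 2 →
      (c0 && c1 && c2 && c3) = false → [c0, c1, c2, c3].count true = 2 := by decide +kernel
  have hsum : ∀ p : Fin 4 → Bool, ∑ j, (if p j then (1 : ℤ) else -1) =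
      2 * ([p 0, p 1, p 2, p 3].count true : ℕ) - 4 := fun p => by
    rw [Fin.sum_univ_four]
    cases p 0 <;> cases p 1 <;> cases p 2 <;> cases p 3 <;> simp
  have e : (fun j => (if b j then (1 : ℤ) else -1) * if c j then (1 : ℤ) else -1) =
      fun j => if (b j == c j) then (1 : ℤ) else -1 := funext fun j => by cases b j <;> cases c j <;> simp
  simp only [Pi.mul_apply] at h1
  rw [e, hsum] at h1
  rw [hsum] at h0 ⊢
  have := key (b 0) (b 1) (b 2) (b 3) (c 0) (c 1) (c 2) (c 3) (by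
      have hb : b i = true := by simpa using hui
      have hc : c i = true := by simpa using hai
      fin_cases i <;> simp_all) (by omega) (by omega) (by
      by_contra h
      rw [Bool.not_eq_false] at h
      simp only [Bool.and_eq_true] at h
      exact hn fun j => by fin_cases j <;> simp_all)
  rw [this]; rfl

lemma half_iso (hf : Cfsg.Geo.IsSymmetricForm f) {u : Fin 4 → Fin 4 → F} (hu : Frame f u) :
    half hf u ∈ isoF f ∧ (half hf u).val.det = 1 ∧ half hf u * half hf u = 1 :=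
  ⟨mul_mem (rG_iso hf _) (rG_iso hf _), by
    rw [half, Units.val_mul, det_mul, det_rG hf (hu.aniso 2), det_rG hf (hu.aniso 3)]; ring,
    hu.eig_sq hf (half_eig hf hu)⟩

namespace Ctx4
variable (C : Ctx4 f M)
include C

lemma half_mem (s : Fin (t + 2)) {u : Fin 4 → Fin 4 → F} (hu : Frame f u) : slotEl s (half C.sym u) ∈ M :=
  C.slot s _ (half_iso C.sym hu).1 (half_iso C.sym hu).2.1

/-- The pointwise stabiliser of a slot subspace lies in the tensor wreath group. -/
theorem fixL_all {s : Fin (t + 2)} {v : Fin 4 → F} (hv : f v v ≠ 0) {g : GL (Idx (t + 2) 4) F}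
    (hg : g ∈ C.fixL s v) : IsTW g := by
  classical
  have hf := C.sym
  have h2 := C.two
  obtain ⟨p, hpF⟩ := CharP.exists F
  haveI : Fact p.Prime := ⟨CharP.char_is_prime F p⟩
  obtain ⟨j, hj⟩ : ∃ j : Fin (t + 2), j ≠ s := exists_ne s
  obtain ⟨ν, hν⟩ := FiniteField.exists_nonsquare (F := F)
    (fun h => h2 (by rw [← Nat.cast_two, ← h]; exact ringChar.Nat.cast_ringChar))
  have hν0 : ν ≠ 0 := fun h => hν (h ▸ IsSquare.zero)
  obtain ⟨u, hu, hu0, hu1⟩ := exists_halves hf h2 hv (-(f v v)) (neg_ne_zero.mpr hv)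
  obtain ⟨w, hw, hw0, hw1⟩ := exists_halves hf h2 hv (-(f v v * ν)) (neg_ne_zero.mpr (mul_ne_zero hv hν0))
  have hHu := half_cent hf h2 C.noline p hu (half_eig hf hu) (by simp) (by simp [Fin.sum_univ_four])
  have hHw := half_cent hf h2 C.noline p hw (half_eig hf hw) (by simp) (by simp [Fin.sum_univ_four])
  rw [hu0] at hHu; rw [hw0] at hHw
  have hUt : slotEl s (half hf u) ∈ C.fixL s v := C.slot_mem_fixL (C.half_mem s hu) (by
    rw [← hu0]; exact (half_eig hf hu).fix (by simp))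
  have hWt : slotEl s (half hf w) ∈ C.fixL s v := C.slot_mem_fixL (C.half_mem s hw) (by
    rw [← hw0]; exact (half_eig hf hw).fix (by simp))
  have hne : ∀ k ∈ C.fixL s v, k * slotEl s (half hf u) * k⁻¹ ≠ slotEl s (half hf w) := by
    intro k hk hkc
    obtain ⟨A, hA, hAv, rfl⟩ := C.fixL_tw hv hk (C.fixL_fus hj hv p hHu hk hkc)
    rw [slotEl_conj] at hkc
    have he := TWMax.slotEl_injective (by norm_num) s hkc
    have h := (isoNeg_conj (X := half hf u) hf (A := A) (μ := 1) (fun x y => by rw [hA, one_mul]) one_ne_zero)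
    rw [he, isoNeg_iff hf h2 hu (half_eig hf hu) (i := 2) (j := 3) (by decide) (by simp) (by simp)
      (fun l h1 h3 => by fin_cases l <;> simp_all), isoNeg_iff hf h2 hw (half_eig hf hw) (i := 2) (j := 3) (by decide)
      (by simp) (by simp) (fun l h1 h3 => by fin_cases l <;> simp_all)] at h
    have h01u : IsSquare (-(f (u 0) (u 0) * f (u 1) (u 1))) := by
      rw [hu0, hu1]; exact ⟨f v v, by ring⟩
    have h01w : ¬ IsSquare (-(f (w 0) (w 0) * f (w 1) (w 1))) := by
      rw [hw0, hw1]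
      rintro ⟨r, hr⟩
      exact hν ⟨r / f v v, by field_simp; linear_combination hr⟩
    exact Frame.planes hf h2 hu C.noline ⟨h01u, h.mp ((Frame.planes' hf h2 hw C.noline).resolve_left h01w)⟩
  have hTt : g * slotEl s (half hf w) * g⁻¹ ∈ C.fixL s v :=
    (C.fixL s v).mul_mem ((C.fixL s v).mul_mem hg hWt) ((C.fixL s v).inv_mem hg)
  obtain ⟨c, hcL, hc2, hc1, hct, hcT, hcl⟩ := exists_central hUt hTt
    (by rw [slotEl_mul, (half_iso hf hu).2.2, slot_one]) (by
      rw [show g * slotEl s (half hf w) * g⁻¹ * (g * slotEl s (half hf w) * g⁻¹) =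
        g * (slotEl s (half hf w) * slotEl s (half hf w)) * g⁻¹ by group, slotEl_mul, (half_iso hf hw).2.2, slot_one,
        mul_one, mul_inv_cancel])
    (fun k hk hkc => hne (g⁻¹ * k) ((C.fixL s v).mul_mem ((C.fixL s v).inv_mem hg) hk) (by
      rw [show g⁻¹ * k * slotEl s (half hf u) * (g⁻¹ * k)⁻¹ = g⁻¹ * (k * slotEl s (half hf u) * k⁻¹) * g by group,
        hkc]; group))
  obtain ⟨A, hA, hAv, rfl⟩ := C.fixL_tw hv hcL (C.fixL_cent hj hv p hHu hcL hct)
  have hAA : A * A = 1 := TWMax.slotEl_injective (by norm_num) s (by rw [← slotEl_mul, hc2, slot_one])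
  have hAc : A * half hf u = half hf u * A := (slotEl_comm_iff s).mp hct
  -- the product with the first half turn is a half turn fixing the vector
  obtain ⟨k, hk, w', hw', hw'0, e', he', he'0, hes', hkc⟩ : ∃ k ∈ C.fixL s v, ∃ w' : Fin 4 → Fin 4 → F,
      Frame f w' ∧ w' 0 = v ∧ ∃ (e' : Fin 4 → ℤ) (X : GL (Fin 4) F) (_ : Eig X w' e'), e' 0 = 1 ∧ ∑ i, e' i = 0 ∧
        k * slotEl s X * k⁻¹ = slotEl s (half hf u * A) := by
    have hconj : ∀ (k₁ : GL (Idx (t + 2) 4) F), g * slotEl s (half hf w) * g⁻¹ = g * slotEl s (half hf w) * g⁻¹ :=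
      fun _ => rfl
    rcases hcl with ⟨⟨k, hk, hkc⟩, -⟩ | ⟨⟨k, hk, hkc⟩, -⟩
    · exact ⟨k, hk, u, hu, hu0, _, half hf u, half_eig hf hu, by simp, by simp [Fin.sum_univ_four],
        by rw [hkc, slotEl_mul]⟩
    · refine ⟨k * g, (C.fixL s v).mul_mem hk hg, w, hw, hw0, _, half hf w, half_eig hf hw, by simp,
        by simp [Fin.sum_univ_four], ?_⟩
      rw [← slotEl_mul, ← hkc]; group
  obtain ⟨X, hX, he'0, hes', hkc⟩ : ∃ X : GL (Fin 4) F, Eig X w' e' ∧ e' 0 = 1 ∧ ∑ i, e' i = 0 ∧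
      k * slotEl s X * k⁻¹ = slotEl s (half hf u * A) := ⟨he', he'0, hes', hkc.1, hkc.2⟩
  have hHX := half_cent hf h2 C.noline p hw' hX he'0 hes'
  rw [hw'0] at hHX
  obtain ⟨K, hK, hKv, rfl⟩ := C.fixL_tw hv hk (C.fixL_fus hj hv p hHX hk hkc)
  rw [slotEl_conj] at hkc
  have hY := TWMax.slotEl_injective (by norm_num) s hkc
  obtain ⟨a, ha, has⟩ := exists_frame hf h2 [A, half hf u] (fun B hB => by
      rcases List.mem_cons.mp hB with rfl | hB
      · exact ⟨hA, hAA⟩
      · rw [List.mem_singleton.mp hB]; exact ⟨(half_iso hf hu).1, (half_iso hf hu).2.2⟩) (fun B hB B' hB' => by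
      simp only [List.mem_cons, List.mem_singleton, List.not_mem_nil, or_false] at hB hB'
      rcases hB with rfl | rfl <;> rcases hB' with rfl | rfl <;> first | rfl | exact hAc | exact hAc.symm)
  obtain ⟨sA, hsA⟩ := has A List.mem_cons_self
  obtain ⟨sU, hsU⟩ := has (half hf u) (List.mem_cons_of_mem _ List.mem_cons_self)
  -- all three have zero sum
  have hsum : ∀ {B : GL (Fin 4) F} {z : Fin 4 → Fin 4 → F} {r : Fin 4 → ℤ} {z' : Fin 4 → Fin 4 → F} {r' : Fin 4 → ℤ},
      Frame f z → Eig B z r → Frame f z' → Eig B z' r' → ∑ i, r i = ∑ i, r' i := by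
    intro B z r z' r' hz hr hz' hr'
    have h := (C.sig_slot s hz hr).symm.trans (C.sig_slot s hz' hr')
    exact mul_right_cancel₀ (pow_ne_zero _ (by norm_num)) h
  have hsU0 : ∑ i, sU i = 0 := (hsum ha hsU hu (half_eig hf hu)).trans (by simp [Fin.sum_univ_four])
  have hsUA : ∑ i, (sU * sA) i = 0 := by
    have h := (C.sig_slot s ha (hsU.mul hsA))
    rw [← hkc, ← slotEl_conj, sig_conj, C.sig_slot s hw' hX, hes', zero_mul] at h
    exact (mul_eq_zero.mp h.symm).resolve_right (pow_ne_zero _ (by norm_num))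
  -- a frame vector at v
  obtain ⟨b, hb, hbs⟩ := exists_frame hf h2 [A, half hf u, rG hf v] (fun B hB => by
      simp only [List.mem_cons, List.mem_singleton, List.not_mem_nil, or_false] at hB
      rcases hB with rfl | rfl | rfl
      exacts [⟨hA, hAA⟩, ⟨(half_iso hf hu).1, (half_iso hf hu).2.2⟩, ⟨rG_iso hf v, rG_mul_self hf v⟩])
    (fun B hB B' hB' => by
      have c1 : A * rG hf v = rG hf v * A := by
        have := OPow.rG_conj hf hA v
        rw [hAv] at this
        conv_rhs => rw [← this, inv_mul_cancel_right]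
      have c2 : half hf u * rG hf v = rG hf v * half hf u := by
        rw [← hu0]; exact hu.eig_comm hf (half_eig hf hu) (hu.eig_rG hf 0)
      simp only [List.mem_cons, List.mem_singleton, List.not_mem_nil, or_false] at hB hB'
      rcases hB with rfl | rfl | rfl <;> rcases hB' with rfl | rfl | rfl <;>
        first | rfl | exact hAc | exact hAc.symm | exact c1 | exact c1.symm | exact c2 | exact c2.symm)
  obtain ⟨rA, hrA⟩ := hbs A List.mem_cons_self
  obtain ⟨rU, hrU⟩ := hbs (half hf u) (List.mem_cons_of_mem _ List.mem_cons_self)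
  obtain ⟨rV, hrV⟩ := hbs (rG hf v) (List.mem_cons_of_mem _ (List.mem_cons_of_mem _ List.mem_cons_self))
  -- the vector v is a multiple of a frame vector
  obtain ⟨i, hi⟩ : ∃ i, f v (b i) ≠ 0 := by
    by_contra hno
    push Not at hno
    exact hv (by rw [eq_sum_of_orth hf b hb.orth hb.aniso v]; simp [hno, sym_zero_left hf])
  obtain ⟨c, hc0, hbi⟩ : ∃ c : F, c ≠ 0 ∧ b i = c • v := by
    have h := hrV.act i
    rw [rG_apply hf hv] at h
    have hne : 2 / f v v * f (b i) v ≠ 0 := mul_ne_zero (div_ne_zero h2 hv) (by rwa [hf.symm])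
    rcases hrV.sgn i with hr | hr
    · rw [hr, Int.cast_one, one_smul, sub_eq_self, smul_eq_zero] at h
      exact absurd (h.resolve_right fun h0 => hv (by rw [h0, sym_zero_left hf])) hne
    · rw [hr, Int.cast_neg, Int.cast_one, neg_one_smul] at h
      refine ⟨(2 : F)⁻¹ * (2 / f v v * f (b i) v), mul_ne_zero (inv_ne_zero h2) hne, ?_⟩
      rw [← smul_smul, show (2 / f v v * f (b i) v) • v = (2 : F) • b i by linear_combination (norm := module) -h,
        inv_smul_smul₀ h2]
  have hfixi : ∀ {B : GL (Fin 4) F} {r : Fin 4 → ℤ}, B.val *ᵥ v = v → Eig B b r → r i = 1 := fun {B r} hB hr => by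
    rcases hr.sgn i with h | h
    · exact h
    exfalso
    have h' := hr.act i
    rw [h, hbi, mulVec_smul, hB, Int.cast_neg, Int.cast_one, neg_one_smul] at h'
    have h3 : ((2 : F) * c) • v = 0 := by linear_combination (norm := module) h'
    exact mul_ne_zero h2 hc0 ((smul_eq_zero.mp h3).resolve_right fun h0 => hv (by rw [h0, sym_zero_left hf]))
  have hA0 : rA i = 1 := hfixi hAv hrA
  have hU0 : rU i = 1 := hfixi (by rw [← hu0]; exact (half_eig hf hu).fix (by simp)) hrU
  have hrU0 : ∑ j, rU j = 0 := (hsum hb hrU ha hsU).trans hsU0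
  have hrUA : ∑ j, (rU * rA) j = 0 := (hsum hb (hrU.mul hrA) ha (hsU.mul hsA)).trans hsUA
  have hnall : ¬ ∀ j, rA j = 1 := fun h => hc1 (by
    rw [hb.eig_ext hf hrA (B := 1) (by rw [show rA = 1 from funext h]; exact Eig.one b), slot_one])
  have hrA0 : ∑ j, rA j = 0 := sign_sum_zero hrU.sgn hrA.sgn hU0 hA0 hrU0 hrUA hnall
  have hHA := half_cent hf h2 C.noline p (hb.perm hf (Equiv.swap 0 i)) (hrA.perm (Equiv.swap 0 i))
    (by simpa [Function.comp] using hA0) (by rw [← hrA0]; exact Equiv.sum_comp (Equiv.swap 0 i) rA)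
  have hHA' : ∀ B ∈ isoF f, B.val *ᵥ v = v → B * A = A * B → B ^ p = 1 → B = 1 := fun B hB hBv => hHA B hB (by
    simp [Function.comp, hbi, mulVec_smul, hBv])
  have hTw : IsTW (g * slotEl s (half hf w) * g⁻¹) := C.fixL_cent hj hv p hHA' hTt hcT.symm
  obtain ⟨T, hT, hTv, hTe⟩ := C.fixL_tw hv hTt hTw
  exact C.fixL_fus hj hv p hHw hg hTe

/-- The stabiliser of a slot subspace at an anisotropic vector. -/
theorem stab_tw {s : Fin (t + 2)} {v : Fin 4 → F} (hv : f v v ≠ 0) {g : GL (Idx (t + 2) 4) F} (hg : g ∈ M)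
    (hgs : gim g (slotW s v) = slotW s v) : IsTW g := by
  have hf := C.sym
  obtain ⟨e, w, he, hee, hew, hw, hev, hwv⟩ := exists_root_perp hf C.two hv
  obtain ⟨u, hu⟩ : ∃ u, u = slotEl s (OPow.eU hf C.two e w) := ⟨_, rfl⟩
  have huL : u ∈ C.fixL s v := hu ▸ C.slot_mem_fixL (C.eU_mem s hee hew hw) (by
    rw [OPow.eU_val hf C.two hee hew, OO.eA_mulVec hf, hf.symm v e, hev, hf.symm v w, hwv]; simp)
  have hL : g * u * g⁻¹ ∈ C.fixL s v := by
    refine ⟨M.mul_mem (M.mul_mem hg huL.1) (M.inv_mem hg), fun x hx => ?_⟩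
    have hx' : g⁻¹.val *ᵥ x ∈ slotW s v := by
      rw [← gim_inv_gim g (slotW s v), hgs]
      exact TWMax.mem_gim.mpr ⟨x, hx, rfl⟩
    rw [Transvec.mul_mulVec, Transvec.mul_mulVec, huL.2 _ hx', Transvec.mulVec_inv_cancel]
  obtain ⟨A, hA, -, hAe⟩ := C.fixL_tw hv hL (C.fixL_all hv hL)
  exact C.root_conj' hg he hee hew hw hA (hu ▸ hAe)

/-- An element commuting with the projection to a slot vector. -/
theorem tw_of_comm_outer {s : Fin (t + 2)} {v : Fin 4 → F} (hv : f v v ≠ 0) {g : GL (Idx (t + 2) 4) F} (hg : g ∈ M)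
    (hc : g.val * emb s (outer f v v) = emb s (outer f v v) * g.val) : IsTW g := by
  refine C.stab_tw (s := s) hv hg ?_
  have hv0 : v ≠ 0 := fun h => hv (by rw [h, sym_zero_left C.sym])
  rw [← range_emb_outer C.sym s hv0, ← range_conj, hc, mul_assoc, Units.mul_inv, mul_one]

/-- An element commuting with a slot reflection. -/
theorem tw_of_comm_refl {s : Fin (t + 2)} {v : Fin 4 → F} (hv : f v v ≠ 0) {g : GL (Idx (t + 2) 4) F} (hg : g ∈ M)
    (hc : g * slotEl s (rG C.sym v) = slotEl s (rG C.sym v) * g) : IsTW g := by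
  refine C.tw_of_comm_outer (s := s) hv hg ?_
  have e : emb s (outer f v v) = (f v v / 2) • ((1 : Matrix _ _ F) - (slotEl s (rG C.sym v)).val) := by
    rw [slotEl_val, ← TWMax.emb_one (F := F) (m := 4) s, ← OPow.emb_sub, ← TWMax.emb_smul]
    congr 1
    refine Matrix.ext_iff_mulVec.mpr fun x => ?_
    rw [smul_mulVec, sub_mulVec, one_mulVec, rG_apply C.sym hv, sym_outer C.sym, sub_sub_cancel, smul_smul]
    congr 1
    have := C.two
    field_simp
  rw [e, Matrix.mul_smul, Matrix.smul_mul, mul_sub, sub_mul, mul_one, one_mul, ← Units.val_mul, hc, Units.val_mul]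

/-- An element commuting with two half turns of one slot sharing a vector. -/
theorem tw_of_comm_halves {s : Fin (t + 2)} {u : Fin 4 → Fin 4 → F} (hu : Frame f u) {g : GL (Idx (t + 2) 4) F}
    (hg : g ∈ M) (h1 : g * slotEl s (half C.sym u) = slotEl s (half C.sym u) * g)
    (h3 : g * slotEl s (half C.sym (u ∘ Equiv.swap 1 2)) = slotEl s (half C.sym (u ∘ Equiv.swap 1 2)) * g) :
    IsTW g := by
  have hf := C.sym
  refine C.tw_of_comm_outer (s := s) (hu.aniso 0) hg ?_
  obtain ⟨X, hX⟩ : ∃ X, X = half hf u := ⟨_, rfl⟩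
  obtain ⟨Y, hY⟩ : ∃ Y, Y = half hf (u ∘ Equiv.swap 1 2) := ⟨_, rfl⟩
  have hYe : Eig Y u ![1, -1, 1, -1] := by
    have h := (half_eig hf (hu.perm hf (Equiv.swap 1 2))).perm (Equiv.swap 1 2)
    rw [← hY, Function.comp_assoc, show (Equiv.swap (1 : Fin 4) 2 : Fin 4 → Fin 4) ∘ Equiv.swap 1 2 = id from
      funext fun i => Equiv.swap_apply_self 1 2 i, Function.comp_id] at h
    convert h using 1
    funext i; fin_cases i <;> simp [Equiv.swap_apply_def]
  have e : outer f (u 0) (u 0) = (f (u 0) (u 0) / 4) • ((1 + X.val) * (1 + Y.val)) := by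
    refine hu.ext hf fun i => ?_
    rw [sym_outer hf, smul_mulVec, ← mulVec_mulVec, add_mulVec 1 Y.val, one_mulVec, hYe.act, hX, mulVec_add,
      mulVec_smul, add_mulVec, one_mulVec, (half_eig hf hu).act]
    have h4 : (4 : F) ≠ 0 := by rw [show (4 : F) = 2 * 2 by norm_num]; exact mul_ne_zero C.two C.two
    fin_cases i
    · simp; match_scalars; field_simp; ring
    all_goals simp [hu.orth]
  have hgX : g.val * emb s X.val = emb s X.val * g.val := by
    rw [← slotEl_val, ← Units.val_mul, ← Units.val_mul, hX, h1]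
  have hgY : g.val * emb s Y.val = emb s Y.val * g.val := by
    rw [← slotEl_val, ← Units.val_mul, ← Units.val_mul, hY, h3]
  rw [e, TWMax.emb_smul, emb_mul, TWMax.emb_add, TWMax.emb_add, TWMax.emb_one, Matrix.mul_smul, Matrix.smul_mul]
  congr 1
  simp only [mul_add, add_mul, mul_one, one_mul, ← mul_assoc, hgX, hgY]
  rw [mul_assoc (emb s X.val) g.val, hgY, ← mul_assoc]

end Ctx4

end CfsgLib.Classical22.OFour
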