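/-
Elements related to slot reflections, when the group contains all slot reflections.
-/
import Cfsg.Agent.Lib.Classical22.OrthFour.Fix

set_option autoImplicit false
set_option linter.unusedSectionVars false
set_option linter.unusedSimpArgs false

namespace CfsgLib.Classical22.OFour

open Matrix CfsgLib.Transvec CfsgLib.Classical22.TensorMax CfsgLib.Classical22.TensorMax.SympO
open CfsgLib.Classical22.TensorMax.SpO (sym_zero_left sym_zero_right sym_quad_add sym_quad_smul)
open CfsgLib.Classical22.TWMax (Idx pv slotEl slotEl_val slotEl_mul slotEl_data TWData IsTW gim slotW)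
open CfsgLib.Classical22.OPow (PIso isoF rG rG_iso rG_apply rG_mul_self eU isTW_mul isTW_inv slotEl_commute)
open scoped MatrixGroups

variable {F : Type*} [Field F] {f : (Fin 4 → F) → (Fin 4 → F) → F} (hf : Cfsg.Geo.IsSymmetricForm f)
include hf

lemma rG_self {v : Fin 4 → F} (hv : f v v ≠ 0) : (rG hf v).val *ᵥ v = -v := by
  rw [rG_apply hf hv, div_mul_cancel₀ _ hv, two_smul]; abel

lemma rG_fix {v x : Fin 4 → F} (hv : f v v ≠ 0) (h : f x v = 0) : (rG hf v).val *ᵥ x = x := by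
  rw [rG_apply hf hv, h, mul_zero, zero_smul, sub_zero]

/-- The vectors negated by a reflection. -/
lemma rG_neg_vec (h2 : (2 : F) ≠ 0) {v y : Fin 4 → F} (hv : f v v ≠ 0) (h : (rG hf v).val *ᵥ y = -y) :
    ∃ c : F, y = c • v := by
  rw [rG_apply hf hv] at h
  refine ⟨(2 : F)⁻¹ * (2 / f v v * f y v), ?_⟩
  rw [← smul_smul, show (2 / f v v * f y v) • v = (2 : F) • y by linear_combination (norm := module) -h,
    inv_smul_smul₀ h2]

/-- Commuting reflections. -/
lemma rG_comm (h2 : (2 : F) ≠ 0) {v x : Fin 4 → F} (hv : f v v ≠ 0) (hx : f x x ≠ 0)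
    (h : rG hf v * rG hf x = rG hf x * rG hf v) : f x v = 0 ∨ rG hf x = rG hf v := by
  by_cases hxv : f x v = 0
  · exact Or.inl hxv
  right
  have h1 := congrArg (fun A : GL (Fin 4) F => A.val *ᵥ v) h
  simp only [Transvec.mul_mulVec, rG_self hf hv, mulVec_neg] at h1
  obtain ⟨c, hc⟩ := rG_neg_vec hf h2 hv h1
  rw [rG_apply hf hx] at hc
  have hk : 2 / f x x * f v x ≠ 0 := mul_ne_zero (div_ne_zero h2 hx) (by rwa [hf.symm])
  have hxv' : x = ((2 / f x x * f v x)⁻¹ * (1 - c)) • v := by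
    rw [← smul_smul, show (1 - c) • v = (2 / f x x * f v x) • x by linear_combination (norm := module) hc,
      inv_smul_smul₀ hk]
  have hne : (2 / f x x * f v x)⁻¹ * (1 - c) ≠ 0 := fun h0 => hx (by
    rw [hxv', h0, zero_smul, sym_zero_left hf])
  rw [hxv', OPow.rG_smul hf hne]

lemma rG_ne_smul (h2 : (2 : F) ≠ 0) {v : Fin 4 → F} (hv : f v v ≠ 0) [Fintype F] (c : F) :
    (rG hf v).val ≠ c • 1 := by
  intro h
  obtain ⟨u, hu, h0⟩ := exists_extend_one hf h2 hv
  have h1 : c • v = -v := by rw [← rG_self hf hv, h, smul_mulVec, one_mulVec]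
  have h3 : c • u 1 = u 1 := by
    conv_rhs => rw [← rG_fix hf hv (x := u 1) (h0 ▸ hu.orth 1 0 (by decide)), h, smul_mulVec, one_mulVec]
  have hv0 : v ≠ 0 := fun h => hv (by rw [h, sym_zero_left hf])
  have e1 : (c + 1) • v = 0 := by rw [add_smul, h1, one_smul, neg_add_cancel]
  have e2 : (c - 1) • u 1 = 0 := by rw [sub_smul, h3, one_smul, sub_self]
  have a1 := (smul_eq_zero.mp e1).resolve_right hv0
  have a2 := (smul_eq_zero.mp e2).resolve_right (hu.ne_zero hf 1)
  exact h2 (by linear_combination a1 - a2)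

lemma half_ne_smul [Fintype F] (h2 : (2 : F) ≠ 0) {u : Fin 4 → Fin 4 → F} (hu : Frame f u) (c : F) :
    (half hf u).val ≠ c • 1 := by
  intro h
  have e0 := (half_eig hf hu).act 0
  have e2 := (half_eig hf hu).act 2
  rw [h, smul_mulVec, one_mulVec] at e0 e2
  have a0 : (c - 1) • u 0 = 0 := by rw [sub_smul, e0]; simp
  have a2 : (c + 1) • u 2 = 0 := by rw [add_smul, e2]; simp
  have b0 := (smul_eq_zero.mp a0).resolve_right (hu.ne_zero hf 0)
  have b2 := (smul_eq_zero.mp a2).resolve_right (hu.ne_zero hf 2)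
  exact h2 (by linear_combination b2 - b0)

variable [Fintype F]

/-- The expansion in a frame. -/
lemma eq_sum_of_orth_four {u : Fin 4 → Fin 4 → F} (hu : Frame f u) (x : Fin 4 → F) :
    x = (f x (u 0) / f (u 0) (u 0)) • u 0 + (f x (u 1) / f (u 1) (u 1)) • u 1 + (f x (u 2) / f (u 2) (u 2)) • u 2 +
      (f x (u 3) / f (u 3) (u 3)) • u 3 := by
  conv_lhs => rw [OO.eq_sum_of_orth hf u hu.orth hu.aniso x]
  rw [Fin.sum_univ_four]

/-- Two orthogonal anisotropic vectors end a frame. -/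
lemma exists_frame_end (h2 : (2 : F) ≠ 0) {x y : Fin 4 → F} (hx : f x x ≠ 0) (hy : f y y ≠ 0) (hxy : f x y = 0) :
    ∃ w, Frame f w ∧ w 2 = x ∧ w 3 = y ∧ half hf w = rG hf x * rG hf y := by
  obtain ⟨u, hu, h0, h1⟩ := exists_extend_two hf h2 hx hy hxy
  refine ⟨u ∘ ![2, 3, 0, 1], ⟨fun i j hij => hu.orth _ _ ?_, fun i => hu.aniso _⟩, h0, h1, ?_⟩
  · revert hij; revert i j; decide
  · rw [half]; simp [h0, h1]

omit hf

variable {t : ℕ} {M : Subgroup (GL (Idx (t + 2) 4) F)}

/-- A signature as a sign product has few small factors. -/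
lemma sum_sign_cases {s : Fin 4 → ℤ} (hs : ∀ i, s i = 1 ∨ s i = -1) :
    (∑ i, s i = 4 ∧ s = 1) ∨ (∑ i, s i = -4 ∧ s = -1) ∨ ∑ i, s i = 0 ∨
      ∃ i ε, (ε = 1 ∨ ε = -1) ∧ ∑ j, s j = 2 * ε ∧ ∀ j, s j = if j = i then -ε else ε := by
  obtain ⟨b, rfl⟩ : ∃ b : Fin 4 → Bool, s = fun j => if b j then 1 else -1 :=
    ⟨fun j => decide (s j = 1), funext fun j => by rcases hs j with h | h <;> simp [h]⟩
  rw [Fin.sum_univ_four]
  have hext : ∀ c : ℤ, (if b 0 then (1 : ℤ) else -1) = c → (if b 1 then (1 : ℤ) else -1) = c →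
      (if b 2 then (1 : ℤ) else -1) = c → (if b 3 then (1 : ℤ) else -1) = c →
      (fun j => if b j then (1 : ℤ) else -1) = fun _ => c := fun c a0 a1 a2 a3 => funext fun j => by
    fin_cases j <;> assumption
  have one : ∀ (i : Fin 4) (ε : ℤ), (if b 0 then (1 : ℤ) else -1) = (if (0 : Fin 4) = i then -ε else ε) →
      (if b 1 then (1 : ℤ) else -1) = (if (1 : Fin 4) = i then -ε else ε) →
      (if b 2 then (1 : ℤ) else -1) = (if (2 : Fin 4) = i then -ε else ε) →
      (if b 3 then (1 : ℤ) else -1) = (if (3 : Fin 4) = i then -ε else ε) →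
      ∀ j, (if b j then (1 : ℤ) else -1) = if j = i then -ε else ε := fun i ε a0 a1 a2 a3 j => by
    fin_cases j <;> assumption
  cases h0 : b 0 <;> cases h1 : b 1 <;> cases h2 : b 2 <;> cases h3 : b 3 <;> simp only [if_true, Bool.false_eq_true,
    if_false]
  all_goals simp only [h0, h1, h2, h3, if_true, Bool.false_eq_true, if_false] at hext one
  · exact Or.inr (Or.inl ⟨by norm_num, hext (-1) rfl rfl rfl rfl⟩)
  · exact Or.inr (Or.inr (Or.inr ⟨3, -1, Or.inr rfl, by norm_num, one _ _ (by decide) (by decide) (by decide) (by decide)⟩))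
  · exact Or.inr (Or.inr (Or.inr ⟨2, -1, Or.inr rfl, by norm_num, one _ _ (by decide) (by decide) (by decide) (by decide)⟩))
  · exact Or.inr (Or.inr (Or.inl (by norm_num)))
  · exact Or.inr (Or.inr (Or.inr ⟨1, -1, Or.inr rfl, by norm_num, one _ _ (by decide) (by decide) (by decide) (by decide)⟩))
  · exact Or.inr (Or.inr (Or.inl (by norm_num)))
  · exact Or.inr (Or.inr (Or.inl (by norm_num)))
  · exact Or.inr (Or.inr (Or.inr ⟨0, 1, Or.inl rfl, by norm_num, one _ _ (by decide) (by decide) (by decide) (by decide)⟩))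
  · exact Or.inr (Or.inr (Or.inr ⟨0, -1, Or.inr rfl, by norm_num, one _ _ (by decide) (by decide) (by decide) (by decide)⟩))
  · exact Or.inr (Or.inr (Or.inl (by norm_num)))
  · exact Or.inr (Or.inr (Or.inl (by norm_num)))
  · exact Or.inr (Or.inr (Or.inr ⟨1, 1, Or.inl rfl, by norm_num, one _ _ (by decide) (by decide) (by decide) (by decide)⟩))
  · exact Or.inr (Or.inr (Or.inl (by norm_num)))
  · exact Or.inr (Or.inr (Or.inr ⟨2, 1, Or.inl rfl, by norm_num, one _ _ (by decide) (by decide) (by decide) (by decide)⟩))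
  · exact Or.inr (Or.inr (Or.inr ⟨3, 1, Or.inl rfl, by norm_num, one _ _ (by decide) (by decide) (by decide) (by decide)⟩))
  · exact Or.inl ⟨by norm_num, hext 1 rfl rfl rfl rfl⟩

lemma neg_slotEl (s : Fin (t + 2)) (A : GL (Fin 4) F) : -slotEl s A = slotEl s (-A) := by
  refine TWMax.ext_pv fun xs => ?_
  rw [Units.val_neg, neg_mulVec, TWMax.slotEl_apply, TWMax.slotEl_apply, Units.val_neg, neg_mulVec]
  funext z
  simp only [pv, Pi.neg_apply]
  rw [← Finset.mul_prod_erase _ _ (Finset.mem_univ s), ← Finset.mul_prod_erase _ _ (Finset.mem_univ s),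
    Function.update_self, Function.update_self, Pi.neg_apply, neg_mul,
    Finset.prod_congr rfl fun i hi => ?_]
  rw [Function.update_of_ne (Finset.ne_of_mem_erase hi), Function.update_of_ne (Finset.ne_of_mem_erase hi)]

/-- An element acting by a sign on all slots but one. -/
lemma eq_slotEl_of_const {y : GL (Idx (t + 2) 4) F} {gs : Fin (t + 2) → GL (Fin 4) F} (hd : TWData y 1 gs)
    (s : Fin (t + 2)) (h : ∀ l, l ≠ s → gs l = 1 ∨ gs l = -1) : y = slotEl s (gs s) ∨ y = slotEl s (-gs s) := by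
  classical
  obtain ⟨ε, hε, hprod⟩ : ∃ ε : Fin (t + 2) → F, (∀ l, l ≠ s → (gs l).val = ε l • 1) ∧
      ((∏ l ∈ Finset.univ.erase s, ε l) = 1 ∨ (∏ l ∈ Finset.univ.erase s, ε l) = -1) := by
    refine ⟨fun l => if gs l = 1 then 1 else -1, fun l hl => ?_, ?_⟩
    · rcases h l hl with hh | hh
      · simp [hh]
      · by_cases h1 : gs l = 1
        · simp [h1]
        · simp [hh, hh ▸ h1]
    · refine Finset.prod_induction _ (fun z : F => z = 1 ∨ z = -1) ?_ (Or.inl rfl) fun l _ => ?_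
      · rintro a b (rfl | rfl) (rfl | rfl) <;> simp
      · by_cases h1 : gs l = 1 <;> simp [h1]
  have key : ∀ xs, y.val *ᵥ pv xs = (∏ l ∈ Finset.univ.erase s, ε l) • ((slotEl s (gs s)).val *ᵥ pv xs) := fun xs => by
    rw [hd xs, TWMax.slotEl_apply]
    funext z
    simp only [pv, Pi.smul_apply, smul_eq_mul, Equiv.Perm.one_apply]
    rw [← Finset.mul_prod_erase _ _ (Finset.mem_univ s),
      ← Finset.mul_prod_erase _ (fun i => Function.update xs s ((gs s).val *ᵥ xs s) i (z i)) (Finset.mem_univ s),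
      Function.update_self, mul_left_comm, ← Finset.prod_mul_distrib]
    congr 1
    refine Finset.prod_congr rfl fun i hi => ?_
    rw [hε i (Finset.ne_of_mem_erase hi), smul_mulVec, one_mulVec, Pi.smul_apply, smul_eq_mul,
      Function.update_of_ne (Finset.ne_of_mem_erase hi)]
  rcases hprod with h1 | h1
  · exact Or.inl (TWMax.ext_pv fun xs => by rw [key, h1, one_smul])
  · refine Or.inr (TWMax.ext_pv fun xs => ?_)
    rw [key, h1, ← neg_slotEl, Units.val_neg, neg_mulVec, neg_one_smul]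

/-- The setting with all slot reflections. -/
structure MCtx (f : (Fin 4 → F) → (Fin 4 → F) → F) (M : Subgroup (GL (Idx (t + 2) 4) F)) : Prop where
  ctx : Ctx4 f M
  refl : ∀ (sym : Cfsg.Geo.IsSymmetricForm f) (s : Fin (t + 2)) v, f v v ≠ 0 → slotEl s (rG sym v) ∈ M

lemma card_idx : (Fintype.card (Idx (t + 2) 4) : ℤ) = 4 ^ (t + 2) := by simp

namespace Ctx4
variable (C : Ctx4 f M)
include C

/-- The signature of a slot reflection. -/
lemma sig_refl (s : Fin (t + 2)) {v : Fin 4 → F} (hv : f v v ≠ 0) :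
    sig (slotEl s (rG C.sym v)) = 2 * 4 ^ (t + 1) := by
  obtain ⟨u, hu, h0⟩ := exists_extend_one C.sym C.two hv
  rw [C.sig_slot s hu (A := rG C.sym v) (h0 ▸ hu.eig_rG C.sym 0)]
  simp [Fin.sum_univ_four]

/-- Tensor wreath involutions with the signature of a reflection are slot reflections. -/
theorem refl_of_sig {y : GL (Idx (t + 2) 4) F} (hy : y ∈ M) (htw : IsTW y) (hy2 : y * y = 1)
    (hs : sig y = 2 * 4 ^ (t + 1)) : ∃ (s : Fin (t + 2)) (v : Fin 4 → F), f v v ≠ 0 ∧ y = slotEl s (rG C.sym v) := by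
  classical
  have hf := C.sym
  obtain ⟨σ, gs, hd⟩ := htw
  have hpos : (0 : ℤ) < 4 ^ (t + 1) := by positivity
  have hσ : σ = 1 := Equiv.ext fun m => by
    by_contra hm
    have h := (sig_perm_le hd hy2 C.two hm).1
    rw [card_idx, hs, abs_of_pos (by positivity), pow_succ (4 : ℤ) (t + 1)] at h
    linarith
  subst hσ
  obtain ⟨gs', us, ss, hd', hus, hss, -⟩ :=
    C.split_of_sig hy hd hy2 (by rw [hs]; positivity) (fun _ => []) (by simp) (by simp) (by simp)
  have hsig := sig_frames hf C.two hd' us ss hus hss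
  rw [hs] at hsig
  obtain ⟨S, hS⟩ : ∃ S : Fin (t + 2) → ℤ, ∀ l, S l = ∑ i, ss l i := ⟨_, fun l => rfl⟩
  simp only [← hS] at hsig
  have hne : ∀ l, S l ≠ 0 := fun l h0 => by
    rw [Finset.prod_eq_zero (Finset.mem_univ l) h0] at hsig
    linarith
  have habs : ∏ l, |S l| = 2 * 4 ^ (t + 1) := by rw [← Finset.abs_prod, ← hsig, abs_of_pos (by positivity)]
  have hcase : ∀ l, (|S l| = 4 ∧ (gs' l = 1 ∨ gs' l = -1)) ∨
      (|S l| = 2 ∧ ∃ i, gs' l = rG hf (us l i) ∨ gs' l = -rG hf (us l i)) := fun l => by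
    rcases sum_sign_cases (hss l).sgn with ⟨e, e1⟩ | ⟨e, e1⟩ | e | ⟨i, ε, hε, e, e1⟩
    · exact Or.inl ⟨by rw [hS, e]; rfl, Or.inl ((hus l).eig_ext hf (hss l) (e1 ▸ Eig.one _))⟩
    · exact Or.inl ⟨by rw [hS, e]; rfl, Or.inr ((hus l).eig_ext hf (hss l) (e1 ▸ (Eig.one _).neg))⟩
    · exact absurd (hS l ▸ e) (hne l)
    · refine Or.inr ⟨by rw [hS, e]; rcases hε with rfl | rfl <;> rfl, i, ?_⟩
      rcases hε with rfl | rfl
      · exact Or.inl ((hus l).eig_ext hf (hss l) (by
          rw [show ss l = fun j => if j = i then -1 else 1 from funext e1]; exact (hus l).eig_rG hf i))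
      · exact Or.inr ((hus l).eig_ext hf (hss l) (by
          rw [show ss l = -(fun j => if j = i then -1 else 1) from funext fun j => by
            rw [e1, Pi.neg_apply]; split <;> simp]
          exact ((hus l).eig_rG hf i).neg))
  obtain ⟨s, hs2, i, hsi⟩ : ∃ s, |S s| = 2 ∧ ∃ i, gs' s = rG hf (us s i) ∨ gs' s = -rG hf (us s i) := by
    by_contra hno
    push Not at hno
    rw [Finset.prod_congr rfl (g := fun _ => (4 : ℤ)) fun l _ => ?_, Finset.prod_const, Finset.card_univ,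
      Fintype.card_fin, pow_succ (4 : ℤ) (t + 1)] at habs
    · linarith
    · rcases hcase l with h | ⟨h, i, hi⟩
      · exact h.1
      · exact absurd hi (by have := hno l h i; tauto)
  have hconst : ∀ l, l ≠ s → gs' l = 1 ∨ gs' l = -1 := fun l hl => by
    rcases hcase l with h | ⟨h, -⟩
    · exact h.2
    exfalso
    rw [← Finset.mul_prod_erase _ _ (Finset.mem_univ s),
      ← Finset.mul_prod_erase (Finset.univ.erase s) _ (Finset.mem_erase.mpr ⟨hl, Finset.mem_univ l⟩), hs2, h] at habs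
    have hle : ∏ j ∈ (Finset.univ.erase s).erase l, |S j| ≤ 4 ^ t := by
      refine le_trans (Finset.prod_le_prod (fun j _ => abs_nonneg _) (g := fun _ => (4 : ℤ)) fun j _ => ?_) ?_
      · rcases hcase j with h' | ⟨h', -⟩ <;> simp [h']
      · rw [Finset.prod_const, Finset.card_erase_of_mem (Finset.mem_erase.mpr ⟨hl, Finset.mem_univ l⟩),
          Finset.card_erase_of_mem (Finset.mem_univ s), Finset.card_univ, Fintype.card_fin]
        simp
    have : (0 : ℤ) < 4 ^ t := by positivity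
    rw [pow_succ] at habs
    linarith
  have hv := (hus s).aniso i
  have key : y = slotEl s (rG hf (us s i)) ∨ y = slotEl s (-rG hf (us s i)) := by
    rcases eq_slotEl_of_const hd' s hconst with h | h <;> rcases hsi with h' | h' <;> rw [h'] at h
    exacts [Or.inl h, Or.inr h, Or.inr h, Or.inl (by rwa [neg_neg] at h)]
  rcases key with h | h
  · exact ⟨s, _, hv, h⟩
  · exfalso
    rw [h, C.sig_slot s (hus s) ((hus s).eig_rG hf i).neg] at hs
    have e : ∑ j : Fin 4, (-fun j => if j = i then (-1 : ℤ) else 1) j = -2 := by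
      fin_cases i <;> simp [Fin.sum_univ_four]
    rw [e] at hs
    linarith

lemma slot_conj_eq {s : Fin (t + 2)} {A : GL (Fin 4) F} (hA : ∀ c : F, A.val ≠ c • 1) {k : GL (Idx (t + 2) 4) F}
    {σ : Equiv.Perm (Fin (t + 2))} {gs : Fin (t + 2) → GL (Fin 4) F} (hd : TWData k σ gs)
    {j : Fin (t + 2)} {B : GL (Fin 4) F} (hB : ∀ c : F, B.val ≠ c • 1)
    (h : k * slotEl s A * k⁻¹ = slotEl j B) : σ j = s ∧ gs j * A * (gs j)⁻¹ = B := by
  obtain ⟨i, hi⟩ := σ.surjective s
  rw [← hi, hd.conj_slotEl i] at h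
  obtain ⟨e1, e2⟩ := slotEl_eq hB h.symm
  subst e1
  exact ⟨hi, e2.symm⟩

end Ctx4

namespace MCtx
variable (C : MCtx f M)
include C

lemma refl_mem (s : Fin (t + 2)) {v : Fin 4 → F} (hv : f v v ≠ 0) : slotEl s (rG C.ctx.sym v) ∈ M :=
  C.refl C.ctx.sym s v hv

omit C in
lemma slot_refl_sq (hf : Cfsg.Geo.IsSymmetricForm f) (s : Fin (t + 2)) (v : Fin 4 → F) :
    slotEl s (rG hf v) * slotEl s (rG hf v) = 1 := by
  rw [slotEl_mul, rG_mul_self, slot_one]

/-- An element conjugating a slot reflection into the tensor wreath group. -/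
theorem tw_of_conj_refl {s : Fin (t + 2)} {v : Fin 4 → F} (hv : f v v ≠ 0) {g : GL (Idx (t + 2) 4) F} (hg : g ∈ M)
    (h : IsTW (g * slotEl s (rG C.ctx.sym v) * g⁻¹)) : IsTW g := by
  have hf := C.ctx.sym
  have h2 := C.ctx.two
  have key : ∀ x, f x x ≠ 0 → IsTW (g * slotEl s (rG hf x) * g⁻¹) → ∃ (a : Fin (t + 2)) (y : Fin 4 → F),
      f y y ≠ 0 ∧ g * slotEl s (rG hf x) * g⁻¹ = slotEl a (rG hf y) := fun x hx htw =>
    C.ctx.refl_of_sig (M.mul_mem (M.mul_mem hg (C.refl_mem s hx)) (M.inv_mem hg)) htw (by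
      rw [conj_mul, slot_refl_sq hf, mul_one, mul_inv_cancel]) (by rw [sig_conj, C.ctx.sig_refl s hx])
  obtain ⟨s', v', hv', hsv⟩ := key v hv h
  obtain ⟨e, w, he, hee, hew, hw, hev, hwv⟩ := exists_root_perp hf h2 hv
  obtain ⟨b, hb⟩ : ∃ b, b = w + (f w w / 2) • e := ⟨_, rfl⟩
  have hbb : f b b = f w w := by
    rw [hb, sym_quad_add hf, sym_quad_smul hf, hf.bilinear.smul_right, hee, hf.symm w e, hew]; ring
  have hbv : f b v = 0 := by
    rw [hb, hf.bilinear.add_left, hf.bilinear.smul_left, hwv, hev, mul_zero, add_zero]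
  have conj_perp : ∀ x, f x x ≠ 0 → f x v = 0 → IsTW (g * slotEl s (rG hf x) * g⁻¹) := fun x hx hxv => by
    refine C.ctx.tw_of_comm_refl (s := s') hv' (M.mul_mem (M.mul_mem hg (C.refl_mem s hx)) (M.inv_mem hg)) ?_
    rw [← hsv, conj_mul, conj_mul]
    congr 2
    rw [slotEl_mul, slotEl_mul]
    congr 1
    have := OPow.rG_conj hf (rG_iso hf x) v
    rw [rG_fix hf hx (by rwa [hf.symm])] at this
    conv_rhs => rw [← this, inv_mul_cancel_right]
  obtain ⟨a, x, hx, hax⟩ := key w hw (conj_perp w hw hwv)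
  obtain ⟨c, y, hy, hcy⟩ := key b (by rwa [hbb]) (conj_perp b (by rwa [hbb]) hbv)
  have hu : g * slotEl s (eU hf h2 e w) * g⁻¹ = slotEl a (rG hf x) * slotEl c (rG hf y) := by
    rw [← hax, ← hcy, conj_mul, slotEl_mul, hb, ← eU_eq_rG hf h2 hee hew hw]
  by_cases hac : a = c
  · subst hac
    rw [slotEl_mul] at hu
    exact C.ctx.root_conj' hg he hee hew hw (mul_mem (rG_iso hf x) (rG_iso hf y)) hu
  · exfalso
    obtain ⟨p, hpF⟩ := CharP.exists F
    haveI : Fact p.Prime := ⟨CharP.char_is_prime F p⟩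
    have hsq : slotEl s (eU hf h2 e w) * slotEl s (eU hf h2 e w) = 1 := by
      refine mul_left_cancel (a := g) (mul_right_cancel (b := g⁻¹) ?_)
      rw [← conj_mul, hu, show slotEl a (rG hf x) * slotEl c (rG hf y) * (slotEl a (rG hf x) * slotEl c (rG hf y)) =
        slotEl a (rG hf x) * (slotEl c (rG hf y) * slotEl a (rG hf x)) * slotEl c (rG hf y) by group,
        slotEl_commute (Ne.symm hac), ← mul_assoc, slot_refl_sq hf, one_mul, slot_refl_sq hf, mul_one, mul_inv_cancel]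
    rw [slotEl_mul, ← slot_one (F := F) s] at hsq
    have hsq' := TWMax.slotEl_injective (by norm_num) s hsq
    have hp1 : eU hf h2 e w ^ p = 1 := eU_pow_char hf h2 p hee hew
    refine eU_ne_one hf h2 he hee hew hw ?_
    obtain ⟨m, hm⟩ := char_odd h2 p
    rwa [hm, pow_succ, pow_mul, sq, hsq', one_pow, one_mul] at hp1

/-- The centraliser of a half turn. -/
theorem tw_of_comm_half {s : Fin (t + 2)} {u : Fin 4 → Fin 4 → F} (hu : Frame f u) {g : GL (Idx (t + 2) 4) F}
    (hg : g ∈ M) (hc : g * slotEl s (half C.ctx.sym u) = slotEl s (half C.ctx.sym u) * g) : IsTW g := by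
  classical
  have hf := C.ctx.sym
  have h2 := C.ctx.two
  have hH := half_eig hf hu
  obtain ⟨z, hz⟩ : ∃ z, z = slotEl s (half hf u) := ⟨_, rfl⟩
  rw [← hz] at hc
  obtain ⟨H, hHd⟩ : ∃ H : Subgroup (GL (Idx (t + 2) 4) F), H = M ⊓ Subgroup.centralizer {z} := ⟨_, rfl⟩
  have memH : ∀ x, x ∈ H ↔ x ∈ M ∧ x * z = z * x := fun x => by
    rw [hHd, Subgroup.mem_inf, Subgroup.mem_centralizer_singleton_iff]
  have h0 := hu.aniso 0
  have h2' := hu.aniso 2
  have ht0 : slotEl s (rG hf (u 0)) ∈ H := (memH _).mpr ⟨C.refl_mem s h0, by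
    rw [hz]; exact (slotEl_comm_iff s).mpr (hu.eig_comm hf (hu.eig_rG hf 0) hH)⟩
  have hS : slotEl s (rG hf (u 2)) ∈ H := (memH _).mpr ⟨C.refl_mem s h2', by
    rw [hz]; exact (slotEl_comm_iff s).mpr (hu.eig_comm hf (hu.eig_rG hf 2) hH)⟩
  have hgH : g ∈ H := (memH g).mpr ⟨hg, hc⟩
  have hgS : IsTW (g * slotEl s (rG hf (u 2)) * g⁻¹) → IsTW g := C.tw_of_conj_refl h2' hg
  obtain ⟨T, hT⟩ : ∃ T, T = g * slotEl s (rG hf (u 2)) * g⁻¹ := ⟨_, rfl⟩
  have hTH : T ∈ H := hT ▸ H.mul_mem (H.mul_mem hgH hS) (H.inv_mem hgH)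
  have hne : ∀ k ∈ H, k * slotEl s (rG hf (u 0)) * k⁻¹ ≠ T := by
    intro k hk hkc
    obtain ⟨k', hk'⟩ : ∃ k', k' = g⁻¹ * k := ⟨_, rfl⟩
    have hk'H : k' ∈ H := hk' ▸ H.mul_mem (H.inv_mem hgH) hk
    have e : k' * slotEl s (rG hf (u 0)) * k'⁻¹ = slotEl s (rG hf (u 2)) := by
      rw [hk', show g⁻¹ * k * slotEl s (rG hf (u 0)) * (g⁻¹ * k)⁻¹ = g⁻¹ * (k * slotEl s (rG hf (u 0)) * k⁻¹) * g by
        group, hkc, hT]
      group
    obtain ⟨σ, gs, hd⟩ := C.tw_of_conj_refl h0 ((memH _).mp hk'H).1 (e ▸ slotEl_tw s _)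
    obtain ⟨-, e2⟩ := C.ctx.slot_conj_eq (rG_ne_smul hf h2 h0) hd (rG_ne_smul hf h2 h2') e
    have e3 : k' * z * k'⁻¹ = z := by rw [((memH _).mp hk'H).2, mul_inv_cancel_right]
    rw [hz] at e3
    obtain ⟨-, e4⟩ := C.ctx.slot_conj_eq (half_ne_smul hf h2 hu) hd (half_ne_smul hf h2 hu) e3
    have hneg : (rG hf (u 2)).val *ᵥ ((gs s).val *ᵥ u 0) = -((gs s).val *ᵥ u 0) := by
      rw [← e2, Transvec.mul_mulVec, Transvec.mul_mulVec, Transvec.inv_mulVec_cancel, rG_self hf h0, mulVec_neg]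
    obtain ⟨c, hcv⟩ := rG_neg_vec hf h2 h2' hneg
    have hpos : (half hf u).val *ᵥ ((gs s).val *ᵥ u 0) = (gs s).val *ᵥ u 0 := by
      conv_lhs => rw [← e4]
      rw [Transvec.mul_mulVec, Transvec.mul_mulVec, Transvec.inv_mulVec_cancel, hH.fix (by simp)]
    have hng : (half hf u).val *ᵥ u 2 = -u 2 := by rw [hH.act]; simp
    rw [hcv, mulVec_smul, hng] at hpos
    have hc2 : ((2 : F) * c) • u 2 = 0 := by linear_combination (norm := module) -hpos
    have := (mul_eq_zero.mp ((smul_eq_zero.mp hc2).resolve_right (hu.ne_zero hf 2))).resolve_left h2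
    exact Transvec.mulVec_ne_zero (gs s) (hu.ne_zero hf 0) (by rw [hcv, this, zero_smul])
  obtain ⟨c, hcH, hc2, hc1, hct, hcT, hcl⟩ := exists_central ht0 hTH (slot_refl_sq hf s _)
    (by rw [hT, conj_mul, slot_refl_sq hf, mul_one, mul_inv_cancel]) hne
  have hcM := ((memH c).mp hcH).1
  have hctw : IsTW c := C.ctx.tw_of_comm_refl h0 hcM hct
  -- the product with the reflection is a reflection of the same slot
  obtain ⟨k₀, hk₀, x₀, hx₀, hk₀c⟩ : ∃ k ∈ H, ∃ x, f x x ≠ 0 ∧
      k * slotEl s (rG hf x) * k⁻¹ = slotEl s (rG hf (u 0)) * c := by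
    rcases hcl with ⟨⟨k, hk, e⟩, -⟩ | ⟨⟨k, hk, e⟩, -⟩
    · exact ⟨k, hk, _, h0, e⟩
    · exact ⟨k * g, H.mul_mem hk hgH, _, h2', by rw [← e, hT]; group⟩
  have hsigtc : sig (slotEl s (rG hf (u 0)) * c) = 2 * 4 ^ (t + 1) := by rw [← hk₀c, sig_conj, C.ctx.sig_refl s hx₀]
  have htcM : slotEl s (rG hf (u 0)) * c ∈ M := M.mul_mem (C.refl_mem s h0) hcM
  have htctw : IsTW (slotEl s (rG hf (u 0)) * c) := isTW_mul (slotEl_tw s _) hctw
  obtain ⟨m, x, hx, hmx⟩ := C.ctx.refl_of_sig htcM htctw (by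
    rw [← mul_assoc, mul_assoc _ c, hct, ← mul_assoc, slot_refl_sq hf, one_mul, hc2]) hsigtc
  obtain rfl : m = s := by
    obtain ⟨σ, gs, hd⟩ := C.tw_of_conj_refl hx₀ ((memH _).mp hk₀).1 (by rw [hk₀c]; exact htctw)
    rw [hmx] at hk₀c
    have e3 : k₀ * z * k₀⁻¹ = z := by rw [((memH _).mp hk₀).2, mul_inv_cancel_right]
    rw [hz] at e3
    obtain ⟨a1, -⟩ := C.ctx.slot_conj_eq (rG_ne_smul hf h2 hx₀) hd (rG_ne_smul hf h2 hx) hk₀c
    obtain ⟨a2, -⟩ := C.ctx.slot_conj_eq (half_ne_smul hf h2 hu) hd (half_ne_smul hf h2 hu) e3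
    exact σ.injective (a1.trans a2.symm)
  have hxz : rG hf x * half hf u = half hf u * rG hf x := by
    have : slotEl m (rG hf x) ∈ H := hmx ▸ H.mul_mem ht0 hcH
    exact (slotEl_comm_iff m).mp (hz ▸ ((memH _).mp this).2)
  have hxt : rG hf (u 0) * rG hf x = rG hf x * rG hf (u 0) := by
    refine (slotEl_comm_iff m).mp ?_
    rw [← hmx, ← mul_assoc, slot_refl_sq hf, one_mul, mul_assoc, hct, ← mul_assoc, slot_refl_sq hf, one_mul]
  have hce : c = slotEl m (rG hf (u 0) * rG hf x) := by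
    rw [← slotEl_mul, ← hmx, ← mul_assoc, slot_refl_sq hf, one_mul]
  rcases rG_comm hf h2 h0 hx hxt with hx0 | hx0
  swap
  · exact absurd (by rw [hce, hx0, rG_mul_self, slot_one]) hc1
  have hHx : ∃ k : F, (half hf u).val *ᵥ x = k • x := by
    have e := congrArg (fun A : GL (Fin 4) F => A.val *ᵥ x) hxz
    simp only [Transvec.mul_mulVec, rG_self hf hx, mulVec_neg] at e
    obtain ⟨k, hk⟩ := rG_neg_vec hf h2 hx e
    exact ⟨k, hk⟩
  obtain ⟨k, hk⟩ := hHx
  have hco : ∀ i, k * f x (u i) = (![1, 1, -1, -1] i : ℤ) * f x (u i) := fun i => by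
    have h1 := (half_iso hf hu).1 x (u i)
    rw [hk, hH.act, hf.bilinear.smul_left, hf.bilinear.smul_right] at h1
    rcases hH.sgn i with hi | hi <;> rw [hi] at h1 ⊢ <;> push_cast at h1 ⊢ <;>
      first | linear_combination h1 | linear_combination -h1
  have hk1 : k = 1 ∨ k = -1 := by
    have h1 := (half_iso hf hu).1 x x
    rw [hk, sym_quad_smul hf] at h1
    exact mul_self_eq_one_iff.mp (mul_right_cancel₀ hx (by rw [one_mul]; linear_combination h1))
  have hxsum := eq_sum_of_orth_four hf hu x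
  rcases hk1 with rfl | rfl
  · -- the vector lies in the fixed plane
    have a2 : f x (u 2) = 0 := by
      have := hco 2; simp at this; exact mul_left_cancel₀ h2 (by linear_combination this)
    have a3 : f x (u 3) = 0 := by
      have := hco 3; simp at this; exact mul_left_cancel₀ h2 (by linear_combination this)
    rw [hx0, a2, a3] at hxsum
    simp only [zero_div, zero_smul, zero_add, add_zero] at hxsum
    have hx1 : rG hf x = rG hf (u 1) := by
      rw [hxsum, OPow.rG_smul hf (fun h0' => hx (by rw [hxsum, h0', zero_smul, sym_zero_left hf]))]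
    exfalso
    have hcz : c = slotEl m (-(half hf u)) := by
      rw [hce, hx1]
      congr 1
      refine hu.eig_ext hf ((hu.eig_rG hf 0).mul (hu.eig_rG hf 1)) ?_
      convert hH.neg using 1
      funext i; fin_cases i <;> simp
    have hgc : Commute g c := by
      change g * c = c * g
      rw [hcz, ← neg_slotEl, ← hz, mul_neg, neg_mul, hc]
    have e : g * (slotEl m (rG hf (u 2)) * c) * g⁻¹ = T * c := by
      rw [hT, mul_assoc (g * slotEl m (rG hf (u 2))) g⁻¹ c, hgc.inv_left.eq]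
      group
    have hTc : sig (T * c) = 2 * 4 ^ (t + 1) := by
      rcases hcl with ⟨-, ⟨k, -, e'⟩⟩ | ⟨-, ⟨k, -, e'⟩⟩ <;> rw [← e', sig_conj]
      · rw [hT, sig_conj, C.ctx.sig_refl m h2']
      · exact C.ctx.sig_refl m h0
    rw [← e, sig_conj, hce, hx1, slotEl_mul,
      C.ctx.sig_slot m hu ((hu.eig_rG hf 2).mul ((hu.eig_rG hf 0).mul (hu.eig_rG hf 1)))] at hTc
    simp [Fin.sum_univ_four] at hTc
    have : (0 : ℤ) < 4 ^ (t + 1) := by positivity
    linarith
  · -- the vector lies in the negated plane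
    have a1 : f x (u 1) = 0 := by
      have := hco 1; simp at this; exact mul_left_cancel₀ h2 (by linear_combination -this)
    obtain ⟨y, hy⟩ : ∃ y, y = (-(f x (u 3))) • u 2 + f x (u 2) • u 3 := ⟨_, rfl⟩
    rw [hx0, a1] at hxsum
    simp only [zero_div, zero_smul, zero_add, add_zero] at hxsum
    have hyy : f y y = f (u 2) (u 2) * f (u 3) (u 3) * f x x := by
      conv_rhs => rw [hxsum]
      rw [hy, sym_quad_add hf, sym_quad_add hf, sym_quad_smul hf, sym_quad_smul hf, sym_quad_smul hf,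
        sym_quad_smul hf]
      simp only [hf.bilinear.smul_left, hf.bilinear.smul_right, hu.orth 2 3 (by decide)]
      field_simp [hu.aniso 2, hu.aniso 3]
      ring
    have hyx : f y x = 0 := by
      rw [hy, hf.bilinear.add_left, hf.bilinear.smul_left, hf.bilinear.smul_left, hf.symm (u 2) x, hf.symm (u 3) x]
      ring
    have hyu : ∀ i, i = 0 ∨ i = 1 → f y (u i) = 0 := fun i hi => by
      rw [hy, hf.bilinear.add_left, hf.bilinear.smul_left, hf.bilinear.smul_left]
      rcases hi with rfl | rfl <;> rw [hu.orth 2 _ (by decide), hu.orth 3 _ (by decide)] <;> ring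
    obtain ⟨w, hw⟩ : ∃ w : Fin 4 → Fin 4 → F, w = ![u 1, u 0, y, x] := ⟨_, rfl⟩
    have hwF : Frame f w := by
      refine ⟨fun i j hij => ?_, fun i => ?_⟩
      · subst hw
        fin_cases i <;> fin_cases j <;>
          simp [hu.orth 1 0 (by decide), hu.orth 0 1 (by decide), hyu, hyx, hf.symm x y, hf.symm (u 0) y,
            hf.symm (u 1) y, hx0, a1, hf.symm (u 0) x, hf.symm (u 1) x] at hij ⊢
      · subst hw
        fin_cases i <;> simp [hu.aniso 0, hu.aniso 1, hx, hyy, hu.aniso 2, hu.aniso 3]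
    have hyneg : (half hf u).val *ᵥ y = -y := by
      rw [hy, mulVec_add, mulVec_smul, mulVec_smul, hH.act, hH.act]; simp; abel
    have hwz : half hf w = half hf u := hwF.eig_ext hf (half_eig hf hwF) ⟨(half_eig hf hwF).sgn, fun i => by
      subst hw
      fin_cases i <;> simp [hH.act, hyneg, hk]⟩
    refine hgS (hT ▸ C.ctx.tw_of_comm_halves (s := m) hwF ((memH T).mp hTH).1 ?_ ?_)
    · rw [hwz, ← hz]; exact ((memH T).mp hTH).2
    · rw [show half hf (w ∘ Equiv.swap 1 2) = rG hf (u 0) * rG hf x by rw [half]; simp [hw, Equiv.swap_apply_def],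
        ← hce]
      exact hcT.symm

end MCtx

end CfsgLib.Classical22.OFour
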