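/-
Half turns, their commuting reflections, and the signatures of short products of reflections.
-/
import Cfsg.Agent.Lib.Classical22.OrthFour.Refl

set_option autoImplicit false
set_option linter.unusedSectionVars false
set_option linter.unusedSimpArgs false

namespace CfsgLib.Classical22.OFour

open Matrix CfsgLib.Transvec CfsgLib.Classical22.TensorMax CfsgLib.Classical22.TensorMax.SympO
open CfsgLib.Classical22.TensorMax.SpO (sym_zero_left sym_quad_add sym_quad_smul)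
open CfsgLib.Classical22.TWMax (Idx pv slotEl slotEl_mul slotEl_data TWData IsTW)
open CfsgLib.Classical22.OPow (PIso isoF rG rG_iso rG_mul_self eU isTW_mul isTW_inv slotEl_commute)
open scoped MatrixGroups

variable {F : Type*} [Field F] [Fintype F] {f : (Fin 4 → F) → (Fin 4 → F) → F} {t : ℕ}
  {M : Subgroup (GL (Idx (t + 2) 4) F)}

omit [Fintype F] in
lemma slot_cancel {G : Type*} [Group G] {a : G} (ha : a * a = 1) (b : G) : a * (a * b) = b := by
  rw [← mul_assoc, ha, one_mul]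

omit [Fintype F] in
lemma invol_mul {G : Type*} [Group G] {a b : G} (ha : a * a = 1) (hb : b * b = 1) (h : a * b = b * a) :
    a * b * (a * b) = 1 := by
  rw [show a * b * (a * b) = a * (b * a) * b by group, ← h, ← mul_assoc a a b, ha, one_mul, hb]

/-- A half turn. -/
def IsHalf (hf : Cfsg.Geo.IsSymmetricForm f) (X : GL (Fin 4) F) : Prop := ∃ u, Frame f u ∧ X = half hf u

section Halves
variable (hf : Cfsg.Geo.IsSymmetricForm f) (h2 : (2 : F) ≠ 0)
include hf h2

lemma isHalf_refl_refl {x y : Fin 4 → F} (hx : f x x ≠ 0) (hy : f y y ≠ 0) (hxy : f x y = 0) :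
    IsHalf hf (rG hf x * rG hf y) := by
  obtain ⟨w, hw, -, -, hwe⟩ := exists_frame_end hf h2 hx hy hxy
  exact ⟨w, hw, hwe.symm⟩

lemma half_rot {u : Fin 4 → Fin 4 → F} (hu : Frame f u) :
    Frame f (u ∘ ![2, 3, 0, 1]) ∧ half hf (u ∘ ![2, 3, 0, 1]) = -half hf u := by
  have hw : Frame f (u ∘ ![2, 3, 0, 1]) :=
    ⟨fun i j hij => hu.orth _ _ (by revert hij; revert i j; decide), fun i => hu.aniso _⟩
  refine ⟨hw, hw.eig_ext hf (half_eig hf hw) ⟨(half_eig hf hw).sgn, fun i => ?_⟩⟩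
  rw [Units.val_neg, neg_mulVec, Function.comp_apply, (half_eig hf hu).act]
  fin_cases i <;> simp

lemma IsHalf.neg {X : GL (Fin 4) F} (h : IsHalf hf X) : IsHalf hf (-X) := by
  obtain ⟨u, hu, rfl⟩ := h
  exact ⟨_, (half_rot hf h2 hu).1, (half_rot hf h2 hu).2.symm⟩

lemma IsHalf.mul_self {X : GL (Fin 4) F} (h : IsHalf hf X) : X * X = 1 := by
  obtain ⟨u, hu, rfl⟩ := h
  exact (half_iso hf hu).2.2

lemma IsHalf.iso {X : GL (Fin 4) F} (h : IsHalf hf X) : X ∈ isoF f := by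
  obtain ⟨u, hu, rfl⟩ := h
  exact (half_iso hf hu).1

/-- A fixed anisotropic vector starts a frame of a half turn. -/
lemma IsHalf.adapt_fix {X : GL (Fin 4) F} (h : IsHalf hf X) {x : Fin 4 → F} (hx : f x x ≠ 0)
    (hXx : X.val *ᵥ x = x) : ∃ u, Frame f u ∧ u 0 = x ∧ X = half hf u := by
  obtain ⟨u, hu, rfl⟩ := h
  have hH := half_eig hf hu
  have hzero : ∀ i, (![1, 1, -1, -1] : Fin 4 → ℤ) i = -1 → f x (u i) = 0 := fun i hi => by
    have h1 := (half_iso hf hu).1 x (u i)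
    rw [hXx, hH.act, hi, hf.bilinear.smul_right, Int.cast_neg, Int.cast_one] at h1
    exact mul_left_cancel₀ h2 (by linear_combination -h1)
  have a2 := hzero 2 rfl
  have a3 := hzero 3 rfl
  have hxs := eq_sum_of_orth_four hf hu x
  rw [a2, a3] at hxs
  simp only [zero_div, zero_smul, add_zero] at hxs
  obtain ⟨y, hy⟩ : ∃ y, y = (-(f x (u 1))) • u 0 + f x (u 0) • u 1 := ⟨_, rfl⟩
  have hyy : f y y = f (u 0) (u 0) * f (u 1) (u 1) * f x x := by
    conv_rhs => rw [hxs]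
    rw [hy, sym_quad_add hf, sym_quad_add hf, sym_quad_smul hf, sym_quad_smul hf, sym_quad_smul hf,
      sym_quad_smul hf]
    simp only [hf.bilinear.smul_left, hf.bilinear.smul_right, hu.orth 0 1 (by decide)]
    field_simp [hu.aniso 0, hu.aniso 1]
    ring
  have hyx : f y x = 0 := by
    rw [hy, hf.bilinear.add_left, hf.bilinear.smul_left, hf.bilinear.smul_left, hf.symm (u 0) x, hf.symm (u 1) x]
    ring
  have hyu : ∀ i, i = 2 ∨ i = 3 → f y (u i) = 0 := fun i hi => by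
    rw [hy, hf.bilinear.add_left, hf.bilinear.smul_left, hf.bilinear.smul_left]
    rcases hi with rfl | rfl <;> rw [hu.orth 0 _ (by decide), hu.orth 1 _ (by decide)] <;> ring
  refine ⟨![x, y, u 2, u 3], ⟨fun i j hij => ?_, fun i => ?_⟩, rfl, by simp [half]⟩
  · fin_cases i <;> fin_cases j <;>
      simp [hu.orth 2 3 (by decide), hu.orth 3 2 (by decide), hyx, hf.symm x y, hyu, hf.symm (u 2) y,
        hf.symm (u 3) y, hf.symm (u 2) x, hf.symm (u 3) x, a2, a3] at hij ⊢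
  · fin_cases i <;> simp [hx, hyy, hu.aniso 0, hu.aniso 1, hu.aniso 2, hu.aniso 3]

/-- A negated anisotropic vector. -/
lemma IsHalf.adapt_neg {X : GL (Fin 4) F} (h : IsHalf hf X) {x : Fin 4 → F} (hx : f x x ≠ 0)
    (hXx : X.val *ᵥ x = -x) : ∃ u, Frame f u ∧ u 2 = x ∧ X = half hf u := by
  obtain ⟨u, hu, h0, hXe⟩ := (h.neg hf h2).adapt_fix hf h2 hx (by rw [Units.val_neg, neg_mulVec, hXx, neg_neg])
  obtain ⟨hw, hwe⟩ := half_rot hf h2 hu
  exact ⟨_, hw, by simpa using h0, by rw [hwe, ← hXe, neg_neg]⟩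

/-- A reflection commuting with a half turn. -/
lemma IsHalf.comm_cases {X : GL (Fin 4) F} (h : IsHalf hf X) {x : Fin 4 → F} (hx : f x x ≠ 0)
    (hc : rG hf x * X = X * rG hf x) : X.val *ᵥ x = x ∨ X.val *ᵥ x = -x := by
  have e := congrArg (fun A : GL (Fin 4) F => A.val *ᵥ x) hc
  simp only [Transvec.mul_mulVec, rG_self hf hx, mulVec_neg] at e
  obtain ⟨k, hk⟩ := rG_neg_vec hf h2 hx e
  have h1 := h.iso hf h2 x x
  rw [hk, sym_quad_smul hf] at h1
  rcases mul_self_eq_one_iff.mp (mul_right_cancel₀ hx (by rw [one_mul]; linear_combination h1) :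
    k * k = 1) with rfl | rfl
  · exact Or.inl (by rw [hk, one_smul])
  · exact Or.inr (by rw [hk, neg_one_smul])

/-- Orthogonal fixed vectors determine a half turn. -/
lemma IsHalf.refl_refl_fix {X : GL (Fin 4) F} (h : IsHalf hf X) {x y : Fin 4 → F} (hx : f x x ≠ 0) (hy : f y y ≠ 0)
    (hxy : f x y = 0) (hXx : X.val *ᵥ x = x) (hXy : X.val *ᵥ y = y) : rG hf x * rG hf y = -X := by
  obtain ⟨u, hu, h0, rfl⟩ := h.adapt_fix hf h2 hx hXx
  have hH := half_eig hf hu
  have hz : ∀ i, (![1, 1, -1, -1] : Fin 4 → ℤ) i = -1 → f y (u i) = 0 := fun i hi => by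
    have h1 := (half_iso hf hu).1 y (u i)
    rw [hXy, hH.act, hi, hf.bilinear.smul_right, Int.cast_neg, Int.cast_one] at h1
    exact mul_left_cancel₀ h2 (by linear_combination -h1)
  have hys := eq_sum_of_orth_four hf hu y
  rw [hz 2 rfl, hz 3 rfl, h0, hf.symm y x, hxy] at hys
  simp only [zero_div, zero_smul, add_zero, zero_add] at hys
  rw [hys, OPow.rG_smul hf (fun h0' => hy (by rw [hys, h0', zero_smul, sym_zero_left hf])), ← h0]
  refine hu.eig_ext hf ((hu.eig_rG hf 0).mul (hu.eig_rG hf 1)) ?_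
  convert hH.neg using 1
  funext i; fin_cases i <;> simp

/-- Reflections at a fixed and at a negated vector make an overlapping half turn. -/
lemma IsHalf.straddle {X : GL (Fin 4) F} (h : IsHalf hf X) {x y : Fin 4 → F} (hx : f x x ≠ 0) (hy : f y y ≠ 0)
    (hXx : X.val *ᵥ x = x) (hXy : X.val *ᵥ y = -y) :
    ∃ w, Frame f w ∧ w 1 = x ∧ w 3 = y ∧ X = half hf w ∧ rG hf x * rG hf y = half hf (w ∘ Equiv.swap 1 2) := by
  obtain ⟨u, hu, hu0, hXu⟩ := h.adapt_fix hf h2 hx hXx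
  obtain ⟨v, hv, hv2, hXv⟩ := h.adapt_neg hf h2 hy hXy
  have cross : ∀ a b, X.val *ᵥ a = a → X.val *ᵥ b = -b → f a b = 0 := fun a b ha hb => by
    have h1 := h.iso hf h2 a b
    rw [ha, hb, OO.sym_neg_right hf] at h1
    exact mul_left_cancel₀ h2 (by linear_combination -h1)
  have f1 : X.val *ᵥ u 1 = u 1 := by rw [hXu]; exact (half_eig hf hu).fix (by simp)
  have g3 : X.val *ᵥ v 3 = -v 3 := by rw [hXv, (half_eig hf hv).act]; simp
  obtain ⟨w, hw⟩ : ∃ w : Fin 4 → Fin 4 → F, w = ![u 1, x, v 3, y] := ⟨_, rfl⟩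
  have hwF : Frame f w := by
    refine ⟨fun i j hij => ?_, fun i => ?_⟩
    · subst hw
      have o1 : f (u 1) x = 0 := hu0 ▸ hu.orth 1 0 (by decide)
      have o2 : f (v 3) y = 0 := hv2 ▸ hv.orth 3 2 (by decide)
      fin_cases i <;> fin_cases j <;>
        simp [o1, o2, cross _ _ f1 g3, cross _ _ f1 hXy, cross _ _ hXx g3, cross _ _ hXx hXy, hf.symm x (u 1),
          hf.symm y (v 3), hf.symm (v 3) (u 1), hf.symm y (u 1), hf.symm (v 3) x, hf.symm y x] at hij ⊢
    · subst hw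
      fin_cases i <;> simp [hu.aniso 1, hx, hv.aniso 3, hy]
  refine ⟨w, hwF, by rw [hw]; rfl, by rw [hw]; rfl, ?_, by rw [half]; simp [hw, Equiv.swap_apply_def]⟩
  refine hwF.eig_ext hf ⟨(half_eig hf hwF).sgn, fun i => ?_⟩ (half_eig hf hwF)
  subst hw
  fin_cases i <;> simp [f1, g3, hXx, hXy]

end Halves

namespace Ctx4
variable (C : Ctx4 f M)
include C

lemma exists_refl_eig {v : Fin 4 → F} (hv : f v v ≠ 0) :
    ∃ u, Frame f u ∧ u 0 = v ∧ Eig (rG C.sym v) u (fun j => if j = 0 then -1 else 1) := by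
  obtain ⟨u, hu, h0⟩ := exists_extend_one C.sym C.two hv
  exact ⟨u, hu, h0, h0 ▸ hu.eig_rG C.sym 0⟩

lemma sig_pair {s l : Fin (t + 2)} (hsl : s ≠ l) {v a : Fin 4 → F} (hv : f v v ≠ 0) (ha : f a a ≠ 0) :
    sig (slotEl s (rG C.sym v) * slotEl l (rG C.sym a)) = 4 ^ (t + 1) := by
  obtain ⟨u, hu, -, hue⟩ := C.exists_refl_eig hv
  obtain ⟨w, hw, -, hwe⟩ := C.exists_refl_eig ha
  rw [C.sig_two hsl hu hue hw hwe]
  simp [Fin.sum_univ_four, pow_succ]
  ring

lemma sig_half (s : Fin (t + 2)) {x y : Fin 4 → F} (hx : f x x ≠ 0) (hy : f y y ≠ 0) (hxy : f x y = 0) :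
    sig (slotEl s (rG C.sym x * rG C.sym y)) = 0 := by
  obtain ⟨w, hw, -, -, hwe⟩ := exists_frame_end C.sym C.two hx hy hxy
  rw [← hwe, C.sig_slot s hw (half_eig C.sym hw)]
  simp [Fin.sum_univ_four]

lemma sig_half_refl {s l : Fin (t + 2)} (hsl : s ≠ l) {x y a : Fin 4 → F} (hx : f x x ≠ 0) (hy : f y y ≠ 0)
    (hxy : f x y = 0) (ha : f a a ≠ 0) :
    sig (slotEl s (rG C.sym x * rG C.sym y) * slotEl l (rG C.sym a)) = 0 := by
  obtain ⟨w, hw, -, -, hwe⟩ := exists_frame_end C.sym C.two hx hy hxy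
  obtain ⟨u, hu, -, hue⟩ := C.exists_refl_eig ha
  rw [← hwe, C.sig_two hsl hw (half_eig C.sym hw) hu hue]
  simp [Fin.sum_univ_four]

/-- A slot element commuting with a product over two slots commutes with the component of its slot. -/
lemma comm_component {s l : Fin (t + 2)} (hsl : s ≠ l) {X A B : GL (Fin 4) F}
    (h : slotEl s X * (slotEl s A * slotEl l B) = slotEl s A * slotEl l B * slotEl s X) : X * A = A * X := by
  refine (slotEl_comm_iff s).mp (mul_right_cancel (b := slotEl l B) ?_)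
  rw [mul_assoc, h, mul_assoc, mul_assoc, slotEl_commute hsl X B]

/-- The signature of a half turn times a pair, when the half turn negates the vector of its slot. -/
lemma sig_half_pair_neg {s l : Fin (t + 2)} (hsl : s ≠ l) {X : GL (Fin 4) F} (hX : IsHalf C.sym X) {v a : Fin 4 → F}
    (hv : f v v ≠ 0) (ha : f a a ≠ 0) (hXv : X.val *ᵥ v = -v) :
    sig (slotEl s X * (slotEl s (rG C.sym v) * slotEl l (rG C.sym a))) = 4 ^ (t + 1) := by
  obtain ⟨u, hu, h0, rfl⟩ := hX.adapt_neg C.sym C.two hv hXv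
  obtain ⟨w, hw, -, hwe⟩ := C.exists_refl_eig ha
  rw [← mul_assoc, slotEl_mul, ← h0, C.sig_two hsl hu ((half_eig C.sym hu).mul (hu.eig_rG C.sym 2)) hw hwe]
  simp [Fin.sum_univ_four, pow_succ]
  ring

/-- The signature of a half turn times a pair, when the half turn fixes the vector of its slot. -/
lemma sig_half_pair_fix {s l : Fin (t + 2)} (hsl : s ≠ l) {X : GL (Fin 4) F} (hX : IsHalf C.sym X) {v a : Fin 4 → F}
    (hv : f v v ≠ 0) (ha : f a a ≠ 0) (hXv : X.val *ᵥ v = v) :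
    sig (slotEl s X * (slotEl s (rG C.sym v) * slotEl l (rG C.sym a))) = -4 ^ (t + 1) := by
  obtain ⟨u, hu, h0, rfl⟩ := hX.adapt_fix C.sym C.two hv hXv
  obtain ⟨w, hw, -, hwe⟩ := C.exists_refl_eig ha
  rw [← mul_assoc, slotEl_mul, ← h0, C.sig_two hsl hu ((half_eig C.sym hu).mul (hu.eig_rG C.sym 0)) hw hwe]
  simp [Fin.sum_univ_four, pow_succ]
  ring

lemma slot_half_mem (s : Fin (t + 2)) {X : GL (Fin 4) F} (hX : IsHalf C.sym X) : slotEl s X ∈ M := by
  obtain ⟨u, hu, rfl⟩ := hX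
  exact C.half_mem s hu

end Ctx4

end CfsgLib.Classical22.OFour
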