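/-
Isometries of a four dimensional space are products of reflections.
-/
import Cfsg.Agent.Lib.Classical22.OrthFour.Unip

set_option autoImplicit false
set_option linter.unusedSectionVars false

namespace CfsgLib.Classical22.OFour

open Matrix CfsgLib.Transvec CfsgLib.Classical22.TensorMax CfsgLib.Classical22.TensorMax.SympO
open CfsgLib.Classical22.TensorMax.SpO (sym_sub_left sym_sub_right sym_quad_add sym_eq)
open CfsgLib.Classical22.OPow (isoF mem_isoF rG rG_iso rG_apply rG_mul_self)
open scoped MatrixGroups

variable {F : Type*} [Field F] [Fintype F] {f : (Fin 4 → F) → (Fin 4 → F) → F}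
  (hf : Cfsg.Geo.IsSymmetricForm f) (h2 : (2 : F) ≠ 0)
include hf h2

/-- Induction along reflections. -/
theorem isoF_induct {P : GL (Fin 4) F → Prop} (h1 : P 1)
    (hstep : ∀ z A, f z z ≠ 0 → A ∈ isoF f → P A → P (rG hf z * A)) :
    ∀ A ∈ isoF f, P A := by
  classical
  obtain ⟨u, hu, -⟩ := exists_frame hf h2 [] (by simp) (by simp)
  have key : ∀ (n : ℕ) (S : Finset (Fin 4)), S.card = n → ∀ A ∈ isoF f, (∀ i, i ∉ S → A.val *ᵥ u i = u i) → P A := by
    intro n
    induction n with
    | zero =>
      intro S hS A _ hfix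
      rw [Finset.card_eq_zero] at hS
      have : A = 1 := Units.ext (hu.ext hf fun i => by rw [hfix i (by simp [hS]), Units.val_one, one_mulVec])
      exact this ▸ h1
    | succ n ih =>
      intro S hS A hA hfix
      obtain ⟨i, hi⟩ := Finset.card_pos.mp (by omega : 0 < S.card)
      have hS' : (S.erase i).card = n := by rw [Finset.card_erase_of_mem hi]; omega
      obtain ⟨a, ha⟩ : ∃ a, a = A.val *ᵥ u i := ⟨_, rfl⟩
      have haa : f a a = f (u i) (u i) := by rw [ha, hA]
      have hperp : ∀ j, j ∉ S → f (u j) a = 0 ∧ f (u j) (u i) = 0 := fun j hj => by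
        have hji : j ≠ i := fun h => hj (h ▸ hi)
        refine ⟨?_, hu.orth j i hji⟩
        rw [ha, ← hfix j hj, hA, hu.orth j i hji]
      have hfixR : ∀ z, f z z ≠ 0 → ∀ j, f (u j) z = 0 → (rG hf z).val *ᵥ u j = u j := fun z hz j hj => by
        rw [rG_apply hf hz, hj, mul_zero, zero_smul, sub_zero]
      by_cases hd : f (a - u i) (a - u i) = 0
      · have hs : f (a + u i) (a + u i) ≠ 0 := by
          intro h0
          rw [sym_quad_add hf] at h0
          simp only [sym_sub_left hf, sym_sub_right hf, hf.symm (u i) a, haa] at hd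
          have h4 : 2 * (2 * f (u i) (u i)) = 0 := by linear_combination h0 + hd - haa
          exact hu.aniso i ((mul_eq_zero.mp ((mul_eq_zero.mp h4).resolve_left h2)).resolve_left h2)
        have hB : ∀ j, j ∉ S.erase i →
            (rG hf (u i) * (rG hf (a + u i) * A)).val *ᵥ u j = u j := fun j hj => by
          rw [Transvec.mul_mulVec, Transvec.mul_mulVec]
          rw [Finset.mem_erase, not_and_or, not_not] at hj
          rcases hj with rfl | hj
          · rw [← ha, rG_apply hf hs]
            have e : 2 / f (a + u j) (a + u j) * f a (a + u j) = 1 := by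
              rw [div_mul_eq_mul_div, div_eq_one_iff_eq hs, sym_quad_add hf, hf.bilinear.add_right]
              linear_combination haa
            rw [e, one_smul, show a - (a + u j) = -u j by abel, mulVec_neg, rG_apply hf (hu.aniso j),
              div_mul_cancel₀ _ (hu.aniso j), two_smul]
            abel
          · rw [hfix j hj, hfixR _ hs j (by rw [hf.bilinear.add_right, (hperp j hj).1, (hperp j hj).2, add_zero]),
              hfixR _ (hu.aniso i) j (hperp j hj).2]
        have hP := ih _ hS' _ (mul_mem (rG_iso hf _) (mul_mem (rG_iso hf _) hA)) hB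
        have h := hstep _ _ hs (mul_mem (rG_iso hf _) (mul_mem (rG_iso hf _) (mul_mem (rG_iso hf _) hA)))
          (hstep _ _ (hu.aniso i) (mul_mem (rG_iso hf _) (mul_mem (rG_iso hf _) hA)) hP)
        rwa [← mul_assoc (rG hf (u i)) (rG hf (u i)), rG_mul_self, one_mul, ← mul_assoc, rG_mul_self, one_mul] at h
      · have hB : ∀ j, j ∉ S.erase i → (rG hf (a - u i) * A).val *ᵥ u j = u j := fun j hj => by
          rw [Transvec.mul_mulVec]
          rw [Finset.mem_erase, not_and_or, not_not] at hj
          rcases hj with rfl | hj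
          · rw [← ha, rG_apply hf hd]
            have e : 2 / f (a - u j) (a - u j) * f a (a - u j) = 1 := by
              rw [div_mul_eq_mul_div, div_eq_one_iff_eq hd]
              simp only [sym_sub_left hf, sym_sub_right hf, hf.symm (u j) a]
              linear_combination haa
            rw [e, one_smul]; abel
          · rw [hfix j hj, hfixR _ hd j (by rw [sym_sub_right hf, (hperp j hj).1, (hperp j hj).2, sub_zero])]
        have h := hstep _ _ hd (mul_mem (rG_iso hf _) hA) (ih _ hS' _ (mul_mem (rG_iso hf _) hA) hB)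
        rwa [← mul_assoc, rG_mul_self, one_mul] at h
  exact fun A hA => key _ Finset.univ rfl A hA fun i hi => absurd (Finset.mem_univ i) hi

/-- A group containing all reflections contains all isometries. -/
theorem isoF_le_of_refl {H : Subgroup (GL (Fin 4) F)} (hH : ∀ v, f v v ≠ 0 → rG hf v ∈ H) : isoF f ≤ H :=
  fun A hA => isoF_induct hf h2 (P := fun A => A ∈ H) H.one_mem
    (fun z _ hz _ h => H.mul_mem (hH z hz) h) A hA

/-- A group containing all products of two reflections contains all isometries of determinant one. -/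
theorem isoF_one_le_of_pairs {H : Subgroup (GL (Fin 4) F)}
    (hH : ∀ v w, f v v ≠ 0 → f w w ≠ 0 → rG hf v * rG hf w ∈ H) {A : GL (Fin 4) F} (hA : A ∈ isoF f)
    (hd : A.val.det = 1) : A ∈ H := by
  have h := isoF_induct hf h2
    (P := fun A => (A.val.det = 1 ∧ A ∈ H) ∨ (A.val.det = -1 ∧ ∀ v, f v v ≠ 0 → rG hf v * A ∈ H))
    (Or.inl ⟨by rw [Units.val_one, det_one], H.one_mem⟩) (fun z B hz _ h => by
      rcases h with ⟨hB, hBH⟩ | ⟨hB, hBH⟩
      · refine Or.inr ⟨by rw [Units.val_mul, det_mul, det_rG hf hz, hB, mul_one], fun v hv => ?_⟩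
        rw [← mul_assoc]
        exact H.mul_mem (hH v z hv hz) hBH
      · exact Or.inl ⟨by rw [Units.val_mul, det_mul, det_rG hf hz, hB]; ring, hBH z hz⟩) A hA
  rcases h with ⟨-, h⟩ | ⟨h, -⟩
  · exact h
  · rw [hd] at h
    exact absurd (by linear_combination h : (2 : F) = 0) h2

end CfsgLib.Classical22.OFour
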