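/-
Omega of the tensor square of a four-dimensional space of minus type: slot reflections and the exchange of the slots
lie outside, their products inside.
-/
import Cfsg.Agent.Lib.Classical22.OrthFour.FlagsRefl
import Cfsg.Agent.Lib.Classical22.OrthFour.Refl
import Cfsg.Agent.Lib.Classical22.OrthPower.OmegaEven

set_option autoImplicit false
set_option linter.unusedSectionVars false
set_option linter.unusedSimpArgs false
set_option maxHeartbeats 800000

namespace CfsgLib.Classical22.OFour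

open Matrix Cfsg CfsgLib.Transvec CfsgLib.Classical CfsgLib.Classical22.TensorMax
  CfsgLib.Classical22.TensorMax.SympO
open CfsgLib.Classical22.TensorMax.SpO (sym_quad_smul exists_aniso nd_top)
open CfsgLib.Classical22.TensorMax.OO (eq_sum_of_orth)
open CfsgLib.Classical22.TWMax (Idx pv permGL permGL_apply TWData IsTW twData_one slotEl slotEl_apply slotEl_mul
  slotEl_data mat_ext_pv ext_pv)
open CfsgLib.Classical22.OPow (bil bil_pv PIso piso_of_pv piso_mul piso_inv piso_slotEl isoF rG rG_iso rG_apply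
  rG_mul_self q_half q_nondeg q_dim exists_aut pv_sub pv_smul pv_self)
open scoped MatrixGroups

variable {F : Type*} [Field F] {f : (Fin 4 → F) → (Fin 4 → F) → F}

/-- The discriminant in a frame of a space without singular lines. -/
lemma Frame.disc_not_square [Fintype F] (hf : Cfsg.Geo.IsSymmetricForm f) (h2 : (2 : F) ≠ 0) (hn : NoLine f)
    {u : Fin 4 → Fin 4 → F} (hu : Frame f u) : ¬ IsSquare (∏ i, f (u i) (u i)) := by
  rintro ⟨r, hr⟩
  rw [Fin.prod_univ_four] at hr
  obtain ⟨a, ha⟩ : ∃ a, a = -(f (u 0) (u 0) * f (u 1) (u 1)) := ⟨_, rfl⟩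
  obtain ⟨b, hb⟩ : ∃ b, b = -(f (u 2) (u 2) * f (u 3) (u 3)) := ⟨_, rfl⟩
  have ha0 : a ≠ 0 := ha ▸ neg_ne_zero.mpr (mul_ne_zero (hu.aniso 0) (hu.aniso 1))
  have hb0 : b ≠ 0 := hb ▸ neg_ne_zero.mpr (mul_ne_zero (hu.aniso 2) (hu.aniso 3))
  have hab : a * b = r * r := by rw [ha, hb]; linear_combination hr
  refine hu.planes hf h2 hn ?_
  rcases hu.planes' hf h2 hn with h | h <;> rw [← ha, ← hb] at * <;> obtain ⟨s, hs⟩ := h
  · exact ⟨⟨s, hs⟩, r / s, by
      have hs0 : s ≠ 0 := fun h0 => ha0 (by rw [hs, h0, mul_zero])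
      field_simp
      linear_combination hab - b * hs⟩
  · exact ⟨⟨r / s, by
      have hs0 : s ≠ 0 := fun h0 => hb0 (by rw [hs, h0, mul_zero])
      field_simp
      linear_combination hab - a * hs⟩, s, hs⟩

/-- The exchange of the two slots. -/
noncomputable def swp (F : Type*) [Field F] : GL (Idx 2 4) F := permGL (Equiv.swap (0 : Fin 2) 1)

lemma swp_data : TWData (swp F) (Equiv.swap (0 : Fin 2) 1) fun _ => 1 := fun xs => by
  rw [swp, permGL_apply]
  simp

lemma swp_piso (hf : Cfsg.Geo.IsSymmetricForm f) : PIso f (swp F) := piso_of_pv hf fun xs ys => by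
  rw [swp, permGL_apply, permGL_apply, bil_pv hf]
  exact Equiv.prod_comp (Equiv.swap (0 : Fin 2) 1).symm fun i => f (xs i) (ys i)

variable [Fintype F] (hf : Cfsg.Geo.IsSymmetricForm f) (h2 : (2 : F) ≠ 0) (hn : NoLine f)
  {Q : QuadraticForm F (Idx 2 4 → F)} (hpol : ∀ x y, QuadraticMap.polar Q x y = bil f x y)
include hf h2 hn hpol

/-- A product of reflections in an orthogonal family, even in number and of non-square norm. -/
lemma family_odd {κ : Type*} [Fintype κ] [DecidableEq κ] (hκ : Even (Fintype.card κ)) {z : κ → Idx 2 4 → F}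
    (hz : ∀ i, Q (z i) ≠ 0) (horth : ∀ i j, i ≠ j → QuadraticMap.polar Q (z i) (z j) = 0)
    (hns : ¬ IsSquare (∏ i, Q (z i))) {ψ : qAut Q →* Multiplicative (ZMod 2) × ℤˣ}
    (hψ : ∀ v (hv : Q v ≠ 0), ψ (qRefl Q hv) = (Multiplicative.ofAdd 1, Spin.sqSign (Q v))) :
    ∃ h : qAut Q, (∀ x, h.1 x = x - ∑ i, ((Q (z i))⁻¹ * QuadraticMap.polar Q x (z i)) • z i) ∧
      ψ h = (1, -1) := by
  classical
  obtain ⟨h, hh, hψh⟩ := Spin.exists_refl_family Q ψ z hz horth Finset.univ
  refine ⟨h, hh, hψh.trans ?_⟩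
  have e : ∀ s : Finset κ, ∏ i ∈ s, ψ (qRefl Q (hz i)) =
      (Multiplicative.ofAdd (s.card : ZMod 2), Spin.sqSign (∏ i ∈ s, Q (z i))) := fun s => by
    induction s using Finset.induction_on with
    | empty => simp [Spin.sqSign_one, Prod.ext_iff]
    | insert i s his ih =>
      rw [Finset.prod_insert his, ih, Finset.prod_insert his, Finset.card_insert_of_notMem his,
        hψ, Prod.mk_mul_mk, ← Spin.sqSign_mul (hz i)
        (Finset.prod_ne_zero_iff.mpr fun j _ => hz j), ← ofAdd_add, Nat.cast_succ, add_comm (1 : ZMod 2)]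
  rw [e, Finset.card_univ, ZMod.natCast_eq_zero_iff_even.mpr hκ, Spin.sqSign_of_not hns]
  rfl

/-- The slot reflections and the exchange of the slots are in the non-trivial class of the spinor map. -/
theorem exists_class : ∃ ψ : qAut Q →* Multiplicative (ZMod 2) × ℤˣ, (∀ a, a ∈ eichGroup Q ↔ ψ a = 1) ∧
    (∀ (s : Fin 2) v, f v v ≠ 0 → ∀ a, qHom Q a = slotEl s (rG hf v) → ψ a = (1, -1)) ∧
    ∀ a, qHom Q a = swp F → ψ a = (1, -1) := by
  classical
  have hQn := q_nondeg (t := 0) hf h2 (by norm_num) hpol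
  have hd := q_dim (t := 0) hf h2 (by norm_num) hpol
  have hd' : 5 ≤ Module.finrank F (Idx 2 4 → F) := by rwa [Module.finrank_pi]
  have hex : Fintype.card F ≠ 2 ∨ Module.finrank F (Idx 2 4 → F) ≠ 4 := Or.inr (by omega)
  obtain ⟨θ, hθ, hiff⟩ := Spin.exists_spin Q hQn hex
  obtain ⟨D, hD, hD1⟩ := exists_parity_hom Q hQn (reflGroup_eq_top Q hQn hex)
  have hψr : ∀ v (hv : Q v ≠ 0), (D.prod θ) (qRefl Q hv) = (Multiplicative.ofAdd 1, Spin.sqSign (Q v)) := fun v hv => by
    rw [MonoidHom.prod_apply, hD1, hθ]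
  refine ⟨D.prod θ, fun x => by
    rw [eichGroup_eq_commutator Q hQn hd', hiff, MonoidHom.prod_apply, Prod.ext_iff, Prod.fst_one, Prod.snd_one,
      hD, ← ofAdd_zero, Multiplicative.ofAdd.apply_eq_iff_eq, ZMod.natCast_eq_zero_iff_even], ?_, ?_⟩
  · have h0 : ∀ v, f v v ≠ 0 → ∀ a, qHom Q a = slotEl (0 : Fin 2) (rG hf v) → (D.prod θ) a = (1, -1) := by
      intro v hv a ha
      obtain ⟨u, hu, -⟩ := exists_frame hf h2 [] (by simp) (by simp)
      obtain ⟨z, hz⟩ : ∃ z : Fin 4 → (Idx 2 4 → F), ∀ j, z j = pv ![v, u j] := ⟨_, fun j => rfl⟩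
      have hQz : ∀ j, Q (z j) = (f v v / 2) * f (u j) (u j) := fun j => by
        rw [q_half (t := 0) hf h2 (by norm_num) hpol, hz, bil_pv hf, Fin.prod_univ_two]
        simp only [Matrix.cons_val_zero, Matrix.cons_val_one]
        field_simp
      have hQ0 : ∀ j, Q (z j) ≠ 0 := fun j => by rw [hQz]; exact mul_ne_zero (div_ne_zero hv h2) (hu.aniso j)
      have hzo : ∀ i j, i ≠ j → QuadraticMap.polar Q (z i) (z j) = 0 := fun i j h => by
        rw [hpol, hz, hz, bil_pv hf, Fin.prod_univ_two]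
        simp [hu.orth i j h]
      have hns : ¬ IsSquare (∏ j, Q (z j)) := by
        simp only [hQz, Finset.prod_mul_distrib, Finset.prod_const, Finset.card_univ, Fintype.card_fin]
        rintro ⟨r, hr⟩
        refine hu.disc_not_square hf h2 hn ⟨r / (f v v / 2) ^ 2, ?_⟩
        have : f v v / 2 ≠ 0 := div_ne_zero hv h2
        rw [div_mul_div_comm, eq_div_iff (mul_ne_zero (pow_ne_zero _ this) (pow_ne_zero _ this)), ← hr]
        ring
      obtain ⟨h, hh, hψh⟩ := family_odd hf h2 hn hpol (by decide : Even (Fintype.card (Fin 4))) hQ0 hzo hns hψr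
      suffices a = h by rw [this, hψh]
      refine qHom_injective Q (ha.trans (ext_pv fun xs => ?_))
      rw [qHom_mulVec, hh, slotEl_apply, rG_apply hf hv, pv_sub, pv_smul, pv_self]
      congr 1
      funext p
      rw [Pi.smul_apply, smul_eq_mul, Finset.sum_apply]
      have hx : xs 1 (p 1) = ∑ l, f (xs 1) (u l) / f (u l) (u l) * u l (p 1) := by
        have := congrFun (eq_sum_of_orth hf u hu.orth hu.aniso (xs 1)) (p 1)
        simpa using this
      have hp2 : ∀ g : Fin (1 + 1) → F, ∏ i, g i = g 0 * g 1 := Fin.prod_univ_two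
      simp only [pv, hp2, Function.update_self, Function.update_of_ne (show (1 : Fin (1 + 1)) ≠ 0 by decide), hx]
      rw [Finset.mul_sum, Finset.mul_sum]
      refine Finset.sum_congr rfl fun j _ => ?_
      rw [Pi.smul_apply, smul_eq_mul, hQz, hpol, hz, bil_pv hf, Fin.prod_univ_two]
      simp only [pv, hp2, Fin.prod_univ_two, Matrix.cons_val_zero, Matrix.cons_val_one]
      have := hu.aniso j
      field_simp
    intro s v hv a ha
    obtain rfl | rfl : s = 0 ∨ s = 1 := by fin_cases s <;> simp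
    · exact h0 v hv a ha
    obtain ⟨p, hp⟩ := exists_aut (t := 0) hf h2 (by norm_num) hpol (swp_piso hf)
    have hconj : qHom Q (p * a * p⁻¹) = slotEl (0 : Fin 2) (rG hf v) := by
      have h1 := (swp_data (F := F)).conj_slotEl (0 : Fin 2) (rG hf v)
      rw [Equiv.swap_apply_left, one_mul, inv_one, mul_one] at h1
      rw [map_mul, map_mul, map_inv, hp, ha]
      exact h1
    have h1 := h0 v hv _ hconj
    rwa [map_mul, map_mul, map_inv, mul_comm ((D.prod θ) p), mul_inv_cancel_right] at h1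
  · intro a ha
    obtain ⟨u, hu, -⟩ := exists_frame hf h2 [] (by simp) (by simp)
    obtain ⟨p, hp⟩ : ∃ p : Fin 6 → Fin 4 × Fin 4, p = ![(0, 1), (0, 2), (0, 3), (1, 2), (1, 3), (2, 3)] := ⟨_, rfl⟩
    have hne : ∀ i, (p i).1 ≠ (p i).2 := by subst hp; decide
    have hdist : ∀ i j, i ≠ j → ((p i).1 ≠ (p j).1 ∨ (p i).2 ≠ (p j).2) ∧
        ((p i).1 ≠ (p j).2 ∨ (p i).2 ≠ (p j).1) := by subst hp; decide
    obtain ⟨z, hz⟩ : ∃ z : Fin 6 → (Idx 2 4 → F), ∀ i,
        z i = pv ![u (p i).1, u (p i).2] - pv ![u (p i).2, u (p i).1] := ⟨_, fun i => rfl⟩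
    have hb : ∀ x y (a b : Fin 4), bil f (pv ![x, y]) (pv ![u a, u b]) = f x (u a) * f y (u b) := fun x y a b => by
      rw [bil_pv hf, Fin.prod_univ_two]; simp
    have hzb : ∀ i x y, bil f (pv ![x, y]) (z i) =
        f x (u (p i).1) * f y (u (p i).2) - f x (u (p i).2) * f y (u (p i).1) := fun i x y => by
      have e := OPow.bil_add_right (f := f) (pv ![x, y]) (z i) (pv ![u (p i).2, u (p i).1])
      rw [hz, sub_add_cancel, hb, hb] at e
      rw [hz]; linear_combination -e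
    have hzz : ∀ i j, bil f (z i) (z j) =
        bil f (pv ![u (p i).1, u (p i).2]) (z j) - bil f (pv ![u (p i).2, u (p i).1]) (z j) := fun i j => by
      have e := OPow.bil_add_left (f := f) (z i) (pv ![u (p i).2, u (p i).1]) (z j)
      rw [hz i, sub_add_cancel] at e
      rw [hz i]; linear_combination -e
    have hzero : ∀ a b c d : Fin 4, a ≠ c ∨ b ≠ d → f (u a) (u c) * f (u b) (u d) = 0 := fun a b c d h => by
      rcases h with h | h <;> simp [hu.orth _ _ h]
    have hQz : ∀ i, Q (z i) = f (u (p i).1) (u (p i).1) * f (u (p i).2) (u (p i).2) := fun i => by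
      rw [q_half (t := 0) hf h2 (by norm_num) hpol, hzz, hzb, hzb,
        hzero (p i).1 (p i).2 (p i).2 (p i).1 (Or.inl (hne i)), hzero (p i).2 (p i).1 (p i).1 (p i).2 (Or.inr (hne i))]
      field_simp
      ring
    have hQ0 : ∀ i, Q (z i) ≠ 0 := fun i => by rw [hQz]; exact mul_ne_zero (hu.aniso _) (hu.aniso _)
    have hzo : ∀ i j, i ≠ j → QuadraticMap.polar Q (z i) (z j) = 0 := fun i j hij => by
      obtain ⟨d1, d2⟩ := hdist i j hij
      rw [hpol, hzz, hzb, hzb, hzero _ _ _ _ d1, hzero _ _ _ _ d2, hzero _ _ _ _ d2.symm, hzero _ _ _ _ d1.symm]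
      ring
    have hns : ¬ IsSquare (∏ i, Q (z i)) := by
      rintro ⟨r, hr⟩
      refine hu.disc_not_square hf h2 hn ?_
      simp only [hQz, Fin.prod_univ_six, hp, Matrix.cons_val] at hr
      obtain ⟨d, hd⟩ : ∃ d, d = ∏ i, f (u i) (u i) := ⟨_, rfl⟩
      have hd0 : d ≠ 0 := hd ▸ Finset.prod_ne_zero_iff.mpr fun i _ => hu.aniso i
      rw [← hd]
      rw [Fin.prod_univ_four] at hd
      refine ⟨r / d, ?_⟩
      rw [div_mul_div_comm, eq_div_iff (mul_ne_zero hd0 hd0), ← hr, hd]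
      ring
    obtain ⟨h, hh, hψh⟩ := family_odd hf h2 hn hpol (by decide : Even (Fintype.card (Fin 6))) hQ0 hzo hns hψr
    suffices a = h by rw [this, hψh]
    refine qHom_injective Q (ha.trans (ext_pv fun xs => ?_))
    rw [qHom_mulVec, hh, swp_data]
    funext q
    have hxs : pv xs = pv ![xs 0, xs 1] := by congr 1; funext i; fin_cases i <;> rfl
    have e : ∀ i (c : Fin 4), xs i c = ∑ l, f (xs i) (u l) / f (u l) (u l) * u l c := fun i c => by
      have := congrFun (eq_sum_of_orth hf u hu.orth hu.aniso (xs i)) c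
      simpa using this
    rw [hxs]
    simp only [hpol, hzb, hQz]
    simp only [Fin.sum_univ_six, hz, hp, Pi.sub_apply, Pi.add_apply, Pi.smul_apply, smul_eq_mul, pv,
      Fin.prod_univ_two, Matrix.cons_val, Units.val_one, one_mulVec, Equiv.swap_apply_left, Equiv.swap_apply_right]
    rw [e 0 (q 0), e 1 (q 1), e 1 (q 0), e 0 (q 1)]
    simp only [Fin.sum_univ_four]
    have := hu.aniso 0; have := hu.aniso 1; have := hu.aniso 2; have := hu.aniso 3
    field_simp
    ring

/-- Products of two of the slot reflections and the exchange are in Omega. -/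
theorem class_mul {g h : GL (Idx 2 4) F}
    (hg : g = swp F ∨ ∃ (s : Fin 2) (v : Fin 4 → F), f v v ≠ 0 ∧ g = slotEl s (rG hf v))
    (hh : h = swp F ∨ ∃ (s : Fin 2) (v : Fin 4 → F), f v v ≠ 0 ∧ h = slotEl s (rG hf v)) :
    g * h ∈ Cfsg.Geo.omegaGL ⇑Q := by
  obtain ⟨ψ, hker, hr, hs⟩ := exists_class hf h2 hn hpol
  have hcl : ∀ x : GL (Idx 2 4) F,
      (x = swp F ∨ ∃ (s : Fin 2) (v : Fin 4 → F), f v v ≠ 0 ∧ x = slotEl s (rG hf v)) →
      ∃ a, qHom Q a = x ∧ ψ a = (1, -1) := by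
    rintro x (rfl | ⟨s, v, hv, rfl⟩)
    · obtain ⟨a, ha⟩ := exists_aut (t := 0) hf h2 (by norm_num) hpol (swp_piso hf)
      exact ⟨a, ha, hs a ha⟩
    · obtain ⟨a, ha⟩ := exists_aut (t := 0) hf h2 (by norm_num) hpol (piso_slotEl hf s (rG_iso hf v))
      exact ⟨a, ha, hr s v hv a ha⟩
  obtain ⟨a, rfl, ha'⟩ := hcl g hg
  obtain ⟨b, rfl, hb'⟩ := hcl h hh
  rw [omegaGL_eq_map Q (q_nondeg (t := 0) hf h2 (by norm_num) hpol) (q_dim (t := 0) hf h2 (by norm_num) hpol),
    ← map_mul]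
  exact ⟨a * b, (hker _).mpr (by rw [map_mul, ha', hb', Prod.mk_mul_mk, one_mul, Int.units_mul_self]; rfl), rfl⟩

/-- The exchange of the slots is not in Omega. -/
theorem swp_notMem : swp F ∉ Cfsg.Geo.omegaGL ⇑Q := by
  obtain ⟨ψ, hker, -, hs⟩ := exists_class hf h2 hn hpol
  intro h
  rw [omegaGL_eq_map Q (q_nondeg (t := 0) hf h2 (by norm_num) hpol) (q_dim (t := 0) hf h2 (by norm_num) hpol)] at h
  obtain ⟨a, ha, hap⟩ := h
  have h1 := (hker a).mp ha
  rw [hs a hap, Prod.ext_iff] at h1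
  exact absurd h1.2 (by decide)

/-- Slot elements of determinant one are in Omega. -/
theorem slot_omega (s : Fin 2) {A : GL (Fin 4) F} (hA : A ∈ isoF f) (hd : A.val.det = 1) :
    slotEl s A ∈ Cfsg.Geo.omegaGL ⇑Q := by
  obtain ⟨H, hH⟩ : ∃ H : Subgroup (GL (Fin 4) F), ∀ B, B ∈ H ↔ slotEl s B ∈ Cfsg.Geo.omegaGL ⇑Q := by
    have h1 : slotEl s (1 : GL (Fin 4) F) = 1 := Units.ext (by simp [TWMax.slotEl_val, TWMax.emb_one])
    exact ⟨(Cfsg.Geo.omegaGL ⇑Q).comap
      { toFun := slotEl s, map_one' := h1, map_mul' := fun x y => (slotEl_mul s x y).symm }, fun B => Iff.rfl⟩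
  refine (hH A).mp (isoF_one_le_of_pairs hf h2 (fun v w hv hw => (hH _).mpr ?_) hA hd)
  rw [← slotEl_mul]
  exact class_mul hf h2 hn hpol (Or.inr ⟨s, v, hv, rfl⟩) (Or.inr ⟨s, w, hw, rfl⟩)

/-- Omega has no involution exchanging the slots. -/
theorem no_swap {g : GL (Idx 2 4) F} (hg : g ∈ Cfsg.Geo.omegaGL ⇑Q) {σ : Equiv.Perm (Fin 2)}
    {gs : Fin 2 → GL (Fin 4) F} (hd : TWData g σ gs) (hσ : σ ≠ 1) : g * g ≠ 1 := by
  classical
  intro hgg
  obtain rfl := (by decide : ∀ σ : Equiv.Perm (Fin 2), σ ≠ 1 → σ = Equiv.swap 0 1) σ hσ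
  obtain ⟨A, hA⟩ : ∃ A, A = slotEl (0 : Fin 2) (gs 0) := ⟨_, rfl⟩
  obtain ⟨c, hc⟩ : ∃ c : F, (gs 1).val * (gs 0).val = c • 1 := by
    have h1 := hd.mul hd
    rw [hgg] at h1
    obtain ⟨c, hc⟩ := (TWMax.twData_one_unique (by norm_num) h1).2 1
    refine ⟨c, Matrix.ext_iff_mulVec.mpr fun x => ?_⟩
    have := hc x
    simpa [Transvec.mul_mulVec, ← mulVec_mulVec, smul_mulVec, one_mulVec] using this
  have hge : g.val = c • (A * swp F * A⁻¹).val := by
    refine mat_ext_pv fun xs => ?_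
    have hinv : (gs 1).val = c • (gs 0)⁻¹.val := by
      calc (gs 1).val = (gs 1).val * (gs 0).val * (gs 0)⁻¹.val := by rw [mul_assoc, Units.mul_inv, mul_one]
        _ = c • (gs 0)⁻¹.val := by rw [hc, Matrix.smul_mul, one_mul]
    have hAi : A⁻¹ = slotEl (0 : Fin 2) (gs 0)⁻¹ := by
      rw [hA]
      exact inv_eq_of_mul_eq_one_right (by rw [slotEl_mul, mul_inv_cancel, slot_one])
    rw [smul_mulVec, hd, hAi, hA, Transvec.mul_mulVec, Transvec.mul_mulVec, slotEl_apply, swp_data, slotEl_apply]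
    funext q
    simp [pv, Fin.prod_univ_two, hinv, smul_mulVec]
    ring
  have hgiso := OPow.omega_piso hf h2 (by norm_num) hpol hg
  obtain ⟨μ, hμ0, hμ⟩ := OPow.sim_of_tw hf h2 (by norm_num) hd hgiso 0
  have hc1 : c * c = 1 := by
    have hgv : g.val * g.val = 1 := by rw [← Units.val_mul, hgg, Units.val_one]
    have hT : (A * swp F * A⁻¹).val * (A * swp F * A⁻¹).val = 1 := by
      have hs : swp F * swp F = 1 := ext_pv fun xs => by
        rw [Transvec.mul_mulVec, swp_data, swp_data, Units.val_one, one_mulVec]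
        simp
      rw [← Units.val_mul, show A * swp F * A⁻¹ * (A * swp F * A⁻¹) = A * (swp F * swp F) * A⁻¹ by group, hs]
      simp
    rw [hge, Matrix.smul_mul, Matrix.mul_smul, smul_smul, hT] at hgv
    have := congrFun (congrFun hgv (fun _ => 0)) (fun _ => 0)
    simpa using this
  have hneg : (-1 : GL (Idx 2 4) F) ∈ Cfsg.Geo.omegaGL ⇑Q := by
    have e : (-1 : GL (Idx 2 4) F) = slotEl (0 : Fin 2) (-1 : GL (Fin 4) F) := by rw [← neg_slotEl, slot_one]
    rw [e]
    refine slot_omega hf h2 hn hpol 0 (fun x y => ?_) ?_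
    · rw [Units.val_neg, Units.val_one, neg_mulVec, neg_mulVec, one_mulVec, one_mulVec, SpO.sym_neg_left hf,
        OO.sym_neg_right hf, neg_neg]
    · rw [Units.val_neg, Units.val_one, det_neg, det_one, Fintype.card_fin]; norm_num
  have hT : A * swp F * A⁻¹ ∈ Cfsg.Geo.omegaGL ⇑Q := by
    rcases mul_self_eq_one_iff.mp hc1 with h | h
    · rwa [show A * swp F * A⁻¹ = g from Units.ext (by rw [hge, h, one_smul])]
    · rw [show A * swp F * A⁻¹ = -1 * g from Units.ext (by
        rw [Units.val_mul (-1 : GL (Idx 2 4) F) g, hge, h, neg_one_smul]; simp)]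
      exact Subgroup.mul_mem _ hneg hg
  have hbil : ∀ x y, bil f (A.val *ᵥ x) (A.val *ᵥ y) = μ * bil f x y := by
    have hm : A.valᵀ * TPow.pG 2 f * A.val = μ • TPow.pG 2 f := by
      refine OPow.piso_ext fun xs ys => ?_
      rw [hA, slotEl_apply, slotEl_apply, bil_pv hf, bil_pv hf]
      have hp2 : ∀ g : Fin (1 + 1) → F, ∏ i, g i = g 0 * g 1 := Fin.prod_univ_two
      simp [hp2, hμ]
      ring
    intro x y
    have e : ((A.valᵀ * TPow.pG 2 f * A.val) *ᵥ y) ⬝ᵥ x = bil f (A.val *ᵥ x) (A.val *ᵥ y) := by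
      rw [bil, mul_assoc, ← mulVec_mulVec, ← mulVec_mulVec, mulVec_transpose, ← dotProduct_mulVec]
    rw [← e, hm, smul_mulVec, smul_dotProduct, smul_eq_mul, bil]
  have hI : ∀ y ∈ isometryGroup F ⇑Q, A⁻¹ * y * A ∈ isometryGroup F ⇑Q := fun y hy => by
    refine OPow.mem_iso hf h2 (by norm_num) hpol fun x x' => ?_
    have hyi : ∀ x x', bil f (y.val *ᵥ x) (y.val *ᵥ x') = bil f x x' := fun x x' => by
      have hq : ∀ v, Q (y.val *ᵥ v) = Q v := fun v => hy v v
      rw [← hpol, ← hpol, QuadraticMap.polar, QuadraticMap.polar, ← mulVec_add, hq, hq, hq]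
    refine mul_left_cancel₀ hμ0 ?_
    rw [← hbil, Transvec.mul_mulVec, Transvec.mul_mulVec, Transvec.mulVec_inv_cancel, Transvec.mul_mulVec,
      Transvec.mul_mulVec, Transvec.mulVec_inv_cancel, hyi, hbil]
  refine swp_notMem hf h2 hn hpol ?_
  rw [OrthSubfield.omegaGL_eq_commutator] at hT ⊢
  have hmap : (⁅isometryGroup F ⇑Q, isometryGroup F ⇑Q⁆).map (MulAut.conj A⁻¹).toMonoidHom ≤
      ⁅isometryGroup F ⇑Q, isometryGroup F ⇑Q⁆ := by
    rw [Subgroup.map_commutator]
    have : (isometryGroup F ⇑Q).map (MulAut.conj A⁻¹).toMonoidHom ≤ isometryGroup F ⇑Q := by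
      rintro _ ⟨y, hy, rfl⟩
      simpa [MulAut.conj_apply] using hI y hy
    exact Subgroup.commutator_mono this this
  have := hmap ⟨_, hT, rfl⟩
  simpa [MulAut.conj_apply, mul_assoc] using this

end CfsgLib.Classical22.OFour
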