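/-
Two slots: involutions of the tensor wreath group inside a group without swaps.
-/
import Cfsg.Agent.Lib.Classical22.OrthFour.Calc

set_option autoImplicit false
set_option linter.unusedSectionVars false
set_option linter.unusedSimpArgs false

namespace CfsgLib.Classical22.OFour

open Matrix CfsgLib.Transvec CfsgLib.Classical22.TensorMax CfsgLib.Classical22.TensorMax.SympO
open CfsgLib.Classical22.TensorMax.SpO (sym_zero_left)
open CfsgLib.Classical22.TWMax (Idx pv slotEl slotEl_mul slotEl_data TWData IsTW)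
open CfsgLib.Classical22.OFour.MCtx (slot_refl_sq)
open CfsgLib.Classical22.OPow (PIso isoF rG rG_iso rG_mul_self eU isTW_mul isTW_inv slotEl_commute)
open scoped MatrixGroups

variable {F : Type*} [Field F] [Fintype F] {f : (Fin 4 → F) → (Fin 4 → F) → F}
  {M : Subgroup (GL (Idx 2 4) F)}

/-- The setting for two slots: pairs of reflections, and no involutive exchange of the slots. -/
structure TwoCtx (f : (Fin 4 → F) → (Fin 4 → F) → F) (M : Subgroup (GL (Idx 2 4) F)) : Prop where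
  ctx : Ctx4 (t := 0) f M
  pair : ∀ (sym : Cfsg.Geo.IsSymmetricForm f) (v a : Fin 4 → F), f v v ≠ 0 → f a a ≠ 0 →
    slotEl (0 : Fin 2) (rG sym v) * slotEl 1 (rG sym a) ∈ M
  noswap : ∀ g ∈ M, ∀ σ gs, TWData g σ gs → σ ≠ 1 → g * g ≠ 1

omit [Fintype F] in
lemma fin2_cases {s l : Fin 2} (h : s ≠ l) : (s = 0 ∧ l = 1) ∨ (s = 1 ∧ l = 0) := by
  revert h; revert s l; decide

namespace TwoCtx
variable (C : TwoCtx f M)
include C

lemma pair_mem {s l : Fin 2} (hsl : s ≠ l) {v a : Fin 4 → F} (hv : f v v ≠ 0) (ha : f a a ≠ 0) :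
    slotEl s (rG C.ctx.sym v) * slotEl l (rG C.ctx.sym a) ∈ M := by
  rcases fin2_cases hsl with ⟨rfl, rfl⟩ | ⟨rfl, rfl⟩
  · exact C.pair C.ctx.sym v a hv ha
  · rw [slotEl_commute hsl]; exact C.pair C.ctx.sym a v ha hv

omit C in
lemma pair_invol (hf : Cfsg.Geo.IsSymmetricForm f) {s l : Fin 2} (hsl : s ≠ l) (v a : Fin 4 → F) :
    slotEl s (rG hf v) * slotEl l (rG hf a) * (slotEl s (rG hf v) * slotEl l (rG hf a)) = 1 :=
  invol_mul (slot_refl_sq hf s v) (slot_refl_sq hf l a) (slotEl_commute hsl _ _)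

/-- Involutions keep the slots. -/
lemma invol_data {y : GL (Idx 2 4) F} (hy : y ∈ M) (htw : IsTW y) (hy2 : y * y = 1) :
    ∃ gs, TWData y 1 gs := by
  obtain ⟨σ, gs, hd⟩ := htw
  by_cases hσ : σ = 1
  · exact ⟨gs, hσ ▸ hd⟩
  · exact absurd hy2 (C.noswap y hy σ gs hd hσ)

/-- An involution of signature four is a pair of reflections. -/
theorem pair_of_sig {y : GL (Idx 2 4) F} (hy : y ∈ M) (htw : IsTW y) (hy2 : y * y = 1) (hs : sig y = 4)
    {s l : Fin 2} (hsl : s ≠ l) :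
    ∃ v a : Fin 4 → F, f v v ≠ 0 ∧ f a a ≠ 0 ∧ y = slotEl s (rG C.ctx.sym v) * slotEl l (rG C.ctx.sym a) := by
  have hf := C.ctx.sym
  obtain ⟨gs, hd⟩ := C.invol_data hy htw hy2
  obtain ⟨gs', us, ss, hd', hus, hss, -⟩ :=
    C.ctx.split_of_sig hy hd hy2 (by rw [hs]; norm_num) (fun _ => []) (by simp) (by simp) (by simp)
  have hsig := sig_frames hf C.ctx.two hd' us ss hus hss
  rw [hs] at hsig
  rw [show (∏ i : Fin 2, ∑ j, ss i j) = (∑ j, ss 0 j) * ∑ j, ss 1 j from Fin.prod_univ_two _] at hsig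
  -- the components
  have hy' : y = slotEl 0 (gs' 0) * slotEl 1 (gs' 1) := by
    refine TWMax.ext_pv fun xs => ?_
    rw [hd', Transvec.mul_mulVec, TWMax.slotEl_apply, TWMax.slotEl_apply]
    congr 1
    funext i
    fin_cases i <;> simp
  -- a fourfold scalar would need a factor of absolute value one
  have hcase : ∀ i, ∃ j ε, (ε = 1 ∨ ε = -1) ∧ (∑ k, ss i k = 2 * ε) ∧ gs' i = (if ε = 1 then rG hf (us i j) else -rG hf (us i j)) := by
    intro i
    rcases sum_sign_cases (hss i).sgn with ⟨e, -⟩ | ⟨e, -⟩ | e | ⟨j, ε, hε, e, e1⟩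
    case inr.inr.inr =>
      refine ⟨j, ε, hε, e, (hus i).eig_ext hf (hss i) ?_⟩
      rcases hε with rfl | rfl
      · rw [if_pos rfl, show ss i = fun k => if k = j then -1 else 1 from funext e1]
        exact (hus i).eig_rG hf j
      · rw [if_neg (by decide), show ss i = -(fun k => if k = j then -1 else 1) from funext fun k => by
          rw [e1, Pi.neg_apply]; split <;> simp]
        exact ((hus i).eig_rG hf j).neg
    all_goals
      exfalso
      have hev : ∀ k : Fin 2, ∑ j, ss k j = 4 ∨ ∑ j, ss k j = -4 ∨ ∑ j, ss k j = 0 ∨ ∑ j, ss k j = 2 ∨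
          ∑ j, ss k j = -2 := fun k => by
        rcases sum_sign_cases (hss k).sgn with ⟨e', -⟩ | ⟨e', -⟩ | e' | ⟨_, ε, hε, e', -⟩
        · exact Or.inl e'
        · exact Or.inr (Or.inl e')
        · exact Or.inr (Or.inr (Or.inl e'))
        · rcases hε with rfl | rfl <;> rw [e'] <;> norm_num
      rcases (show i = 0 ∨ i = 1 by fin_cases i <;> simp) with rfl | rfl <;> rw [e] at hsig
      · rcases hev 1 with h | h | h | h | h <;> rw [h] at hsig <;> omega
      · rcases hev 0 with h | h | h | h | h <;> rw [h] at hsig <;> omega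
  obtain ⟨j₀, ε₀, hε₀, e₀, g₀⟩ := hcase 0
  obtain ⟨j₁, ε₁, hε₁, e₁, g₁⟩ := hcase 1
  rw [e₀, e₁] at hsig
  have hεε : ε₀ = ε₁ := by rcases hε₀ with rfl | rfl <;> rcases hε₁ with rfl | rfl <;> first | rfl | omega
  subst hεε
  have key : y = slotEl 0 (rG hf (us 0 j₀)) * slotEl 1 (rG hf (us 1 j₁)) := by
    rw [hy', g₀, g₁]
    split
    · rfl
    · rw [← neg_slotEl, ← neg_slotEl, neg_mul_neg]
  rcases fin2_cases hsl with ⟨rfl, rfl⟩ | ⟨rfl, rfl⟩
  · exact ⟨_, _, (hus 0).aniso j₀, (hus 1).aniso j₁, key⟩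
  · exact ⟨_, _, (hus 1).aniso j₁, (hus 0).aniso j₀, by rw [key, slotEl_commute hsl]⟩

omit C in
/-- Products over two slots determine their components up to scalars. -/
lemma pair_slot_eq {s l : Fin 2} (hsl : s ≠ l) {X X' Y Y' : GL (Fin 4) F}
    (h : slotEl s X * slotEl l Y = slotEl s X' * slotEl l Y') :
    ∃ c : F, c ≠ 0 ∧ X'.val = c • X.val := by
  have h1 : slotEl s (X⁻¹ * X') = slotEl l (Y * Y'⁻¹) := by
    rw [← slotEl_mul, ← slotEl_mul, ← slotEl_inv', ← slotEl_inv',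
      eq_mul_inv_iff_mul_eq, mul_assoc, inv_mul_eq_iff_eq_mul]
    exact h.symm
  by_cases hc : ∀ c : F, (X⁻¹ * X').val ≠ c • 1
  · exact absurd (slotEl_eq hc h1).1 hsl
  push Not at hc
  obtain ⟨c, hc⟩ := hc
  refine ⟨c, fun h0 => ?_, ?_⟩
  · rw [h0, zero_smul] at hc
    exact (X⁻¹ * X').ne_zero hc
  · have := congrArg (X.val * ·) hc
    simpa [← Units.val_mul, Matrix.mul_smul] using this

/-- A reflection commuting with a pair commutes with the reflection of its slot. -/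
lemma comm_pair_cases {s l : Fin 2} (hsl : s ≠ l) {v a : Fin 4 → F} {X : GL (Fin 4) F}
    (h : slotEl s X * (slotEl s (rG C.ctx.sym v) * slotEl l (rG C.ctx.sym a)) =
      slotEl s (rG C.ctx.sym v) * slotEl l (rG C.ctx.sym a) * slotEl s X) :
    X * rG C.ctx.sym v = rG C.ctx.sym v * X :=
  Ctx4.comm_component C.ctx hsl h

end TwoCtx

end CfsgLib.Classical22.OFour
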