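/-
Two slots: a group above the stabiliser of the tensor square contains Omega or keeps the flags of both slots.
-/
import Cfsg.Agent.Lib.Classical22.OrthFour.FlagsOmega
import Cfsg.Agent.Lib.Classical22.OrthFour.Two
import Cfsg.Agent.Lib.Classical22.OrthPower.Square

set_option autoImplicit false
set_option linter.unusedSectionVars false
set_option linter.unusedSimpArgs false
set_option maxHeartbeats 800000

namespace CfsgLib.Classical22.OFour

open Matrix Kronecker Cfsg CfsgLib.Transvec CfsgLib.Classical CfsgLib.Classical22.TensorMax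
  CfsgLib.Classical22.TensorMax.SympO
open CfsgLib.Classical22.TensorMax.SpO (exists_aniso nd_top sym_sub_left sym_sub_right)
open CfsgLib.Classical22.TensorMax.OO (exists_partner_sym)
open CfsgLib.Classical22.TWMax (Idx pv permGL permGL_apply TWData IsTW slotEl slotEl_data slotEl_mul slotW slotW_le
  pv_mem_slotW gim gim_mul gim_one mem_gim mem_standard_iff)
open CfsgLib.Classical22.OPow (bil bil_pv PIso isoF rG rG_apply rG_iso isTW_mul isTW_inv sqE pv_comp reindex_apply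
  twSub mem_twSub_iff q_half q_nondeg q_dim exists_aut)
open scoped MatrixGroups

variable {F : Type*} [Field F]

/-- The coordinates of two factors. -/
noncomputable def sqR (F : Type*) [Field F] : GL (Idx 2 4) F ≃* GL (Fin 4 × Fin 4) F :=
  Cfsg.Geo.glReindex (sqE 4)

lemma sqR_apply (g : GL (Idx 2 4) F) (v : Idx 2 4 → F) :
    (sqR F g).val *ᵥ (v ∘ (sqE 4).symm) = (g.val *ᵥ v) ∘ (sqE 4).symm := by
  change (Matrix.reindexAlgEquiv F F (sqE 4) g.val) *ᵥ (v ∘ (sqE 4).symm) = _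
  rw [Matrix.reindexAlgEquiv_apply, Matrix.reindex_apply, Matrix.submatrix_mulVec_equiv, Equiv.symm_symm,
    Function.comp_assoc, Equiv.symm_comp_self, Function.comp_id]

lemma pv_split (xs : Fin 2 → Fin 4 → F) : pv xs ∘ (sqE 4).symm = pt (xs 0) (xs 1) := by
  have hxs : xs = ![xs 0, xs 1] := by funext i; fin_cases i <;> rfl
  conv_lhs => rw [hxs, pv_comp, Function.comp_assoc, Equiv.self_comp_symm, Function.comp_id]

lemma isTW_of_isTw {g : GL (Idx 2 4) F} (h : IsKron (sqR F g)) : IsTW g := by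
  obtain ⟨g₀, hg₀, he⟩ := (mem_twSub_iff (k := 4) (by norm_num)).mpr (Or.inl h)
  obtain rfl : g₀ = g := (sqR F).injective he
  exact (mem_standard_iff g₀).mp hg₀

variable [Fintype F] {f : (Fin 4 → F) → (Fin 4 → F) → F}

/-- The tensor form in the coordinates of two factors. -/
lemma bform_sq (hf : Cfsg.Geo.IsSymmetricForm f) (v w : Idx 2 4 → F) :
    SpO.bform f f (v ∘ (sqE 4).symm) (w ∘ (sqE 4).symm) = bil f v w := by
  have hpp : ∀ xs ys : Fin 2 → Fin 4 → F,
      SpO.bform f f (pv xs ∘ (sqE 4).symm) (pv ys ∘ (sqE 4).symm) = bil f (pv xs) (pv ys) := fun xs ys => by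
    rw [pv_split, pv_split, OO.bform_ptpt hf hf, bil_pv hf, Fin.prod_univ_two]
  have hca : ∀ a b : Idx 2 4 → F, (a + b) ∘ (sqE 4).symm = a ∘ (sqE 4).symm + b ∘ (sqE 4).symm := fun _ _ => rfl
  have hcs : ∀ (c : F) (a : Idx 2 4 → F), (c • a) ∘ (sqE 4).symm = c • (a ∘ (sqE 4).symm) := fun _ _ => rfl
  have hp : ∀ (xs : Fin 2 → Fin 4 → F) (w : Idx 2 4 → F),
      SpO.bform f f (pv xs ∘ (sqE 4).symm) (w ∘ (sqE 4).symm) = bil f (pv xs) w := fun xs w => by
    refine OPow.pv_induction (G := Set.univ) (fun y => ⟨y, trivial, 0, trivial, 0, trivial, by simp⟩)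
      (P := fun z => SpO.bform f f (pv xs ∘ (sqE 4).symm) (z ∘ (sqE 4).symm) = bil f (pv xs) z) ?_
      (fun a b ha hb => ?_) (fun c a ha => ?_) (fun ys _ => hpp xs ys) w
    · have h0 := OPow.bil_add_right (f := f) (pv xs) (0 : Idx 2 4 → F) 0
      rw [add_zero, left_eq_add] at h0
      rw [h0, show (0 : Idx 2 4 → F) ∘ (sqE 4).symm = 0 from rfl]
      have h1 := SpO.bform_add_right hf (f₂ := f) (pv xs ∘ (sqE 4).symm) (0 : Fin 4 × Fin 4 → F) 0
      rwa [add_zero, left_eq_add] at h1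
    · rw [hca, SpO.bform_add_right hf, OPow.bil_add_right, ha, hb]
    · rw [hcs, SpO.bform_smul_right hf, OPow.bil_smul_right, ha]
  refine OPow.pv_induction (G := Set.univ) (fun y => ⟨y, trivial, 0, trivial, 0, trivial, by simp⟩)
    (P := fun z => SpO.bform f f (z ∘ (sqE 4).symm) (w ∘ (sqE 4).symm) = bil f z w) ?_
    (fun a b ha hb => ?_) (fun c a ha => ?_) (fun xs _ => hp xs w) v
  · have h0 := OPow.bil_add_left (f := f) (0 : Idx 2 4 → F) 0 w
    rw [add_zero, left_eq_add] at h0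
    rw [h0, show (0 : Idx 2 4 → F) ∘ (sqE 4).symm = 0 from rfl]
    have h1 := SpO.bform_add_left hf (f₂ := f) (0 : Fin 4 × Fin 4 → F) 0 (w ∘ (sqE 4).symm)
    rwa [add_zero, left_eq_add] at h1
  · rw [hca, SpO.bform_add_left hf, OPow.bil_add_left, ha, hb]
  · rw [hcs, SpO.bform_smul_left hf, OPow.bil_smul_left, ha]

lemma iso_sqR (hf : Cfsg.Geo.IsSymmetricForm f) {g : GL (Idx 2 4) F} :
    SpO.Iso f f (sqR F g) ↔ PIso f g := by
  constructor
  · intro h v w
    rw [← bform_sq hf, ← bform_sq hf, ← sqR_apply, ← sqR_apply, h]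
  · intro h v w
    obtain ⟨v, rfl⟩ : ∃ v' : Idx 2 4 → F, v = v' ∘ (sqE 4).symm :=
      ⟨v ∘ sqE 4, by rw [Function.comp_assoc, Equiv.self_comp_symm, Function.comp_id]⟩
    obtain ⟨w, rfl⟩ : ∃ w' : Idx 2 4 → F, w = w' ∘ (sqE 4).symm :=
      ⟨w ∘ sqE 4, by rw [Function.comp_assoc, Equiv.self_comp_symm, Function.comp_id]⟩
    rw [sqR_apply, sqR_apply, bform_sq hf, bform_sq hf, h]

variable (hf : Cfsg.Geo.IsSymmetricForm f) (h2 : (2 : F) ≠ 0) (hn : NoLine f)
  {Q : QuadraticForm F (Idx 2 4 → F)} (hpol : ∀ x y, QuadraticMap.polar Q x y = bil f x y)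
  {M : Subgroup (GL (Idx 2 4) F)} (hM : M ≤ Cfsg.Geo.omegaGL ⇑Q)
  (hS : ∀ g ∈ Cfsg.Geo.omegaGL ⇑Q, IsTW g → g ∈ M)
include hf h2 hn hpol hM hS

/-- The setting of two factors. -/
theorem oo_ctx (hnle : ¬ Cfsg.Geo.omegaGL ⇑Q ≤ M) :
    OO.Ctx f f ((Cfsg.Geo.omegaGL ⇑Q).map (sqR F).toMonoidHom) (M.map (sqR F).toMonoidHom) := by
  classical
  have hQn := q_nondeg (t := 0) hf h2 (by norm_num) hpol
  have hd := q_dim (t := 0) hf h2 (by norm_num) hpol
  have hd4 : 4 ≤ Module.finrank F (Idx 2 4 → F) := by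
    rw [Module.finrank_pi]; exact le_trans (by norm_num) hd
  have hrk : Module.finrank F (Idx 2 4 → F) = Fintype.card (Idx 2 4) := Module.finrank_pi F
  obtain ⟨pc, hpF⟩ := CharP.exists F
  haveI : Fact pc.Prime := ⟨CharP.char_is_prime F pc⟩
  have hpodd : Odd pc := (Fact.out : pc.Prime).odd_of_ne_two (by
    rintro rfl
    exact h2 (by simpa using CharP.cast_eq_zero F 2))
  have hqodd : Fintype.card F ≠ 2 := fun hc => by
    have h0 : ((Fintype.card F : ℕ) : F) = 0 := Nat.cast_card_eq_zero F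
    rw [hc] at h0
    exact h2 (by exact_mod_cast h0)
  refine ⟨hf, hf, h2, by norm_num, le_rfl, le_rfl, Or.inr ⟨rfl, hn⟩, fun h => absurd h (by norm_num),
    Or.inr (Or.inr hn), Or.inr (Or.inr (Or.inr rfl)), ?_, ?_, ?_, Subgroup.map_mono hM, ?_⟩
  · rintro _ ⟨g, hg, rfl⟩
    exact (iso_sqR hf).mpr (OPow.omega_piso hf h2 (by norm_num) hpol hg)
  · intro g' hgiso hnil
    obtain ⟨g, rfl⟩ := (sqR F).surjective g'
    refine ⟨g, ?_, rfl⟩
    obtain ⟨n, hn'⟩ := hnil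
    have hpow : g ^ pc ^ n = 1 := (sqR F).injective (Units.ext (by
      obtain ⟨d, hd⟩ := Nat.exists_eq_add_of_le (Nat.lt_pow_self (n := n) (Fact.out : pc.Prime).one_lt).le
      have h1 : ((sqR F g).val - 1) ^ pc ^ n = 0 := by rw [hd, pow_add, hn', zero_mul]
      rw [sub_pow_char_pow_of_commute _ _ (Commute.one_right _), one_pow, sub_eq_zero,
        ← Units.val_pow_eq_pow_val] at h1
      rw [map_pow, map_one]; exact h1))
    obtain ⟨h, hh⟩ := exists_aut (t := 0) hf h2 (by norm_num) hpol ((iso_sqR hf).mp hgiso)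
    obtain ⟨i, hi⟩ := hpodd.pow (n := n)
    have he : h = h ^ (i + 1) * h ^ (i + 1) := qHom_injective Q (by
      rw [map_mul, map_pow, hh, ← pow_add, show i + 1 + (i + 1) = (2 * i + 1) + 1 by ring, pow_succ, ← hi, hpow,
        one_mul])
    rw [omegaGL_eq_map Q hQn hd]
    refine ⟨h, ?_, hh⟩
    rw [he]
    exact Known.OrthLift.sq_mem_eichGroup hQn hd4 (Or.inl hqodd) _
  · rintro g' hk ⟨g, hg, rfl⟩
    exact ⟨g, hS g hg (isTW_of_isTw hk), rfl⟩
  · rintro ⟨z, z', hz, hz', hzz', hfz, hfz'⟩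
    obtain ⟨z, rfl⟩ : ∃ v : Idx 2 4 → F, z = v ∘ (sqE 4).symm :=
      ⟨z ∘ sqE 4, by rw [Function.comp_assoc, Equiv.self_comp_symm, Function.comp_id]⟩
    obtain ⟨z', rfl⟩ : ∃ v : Idx 2 4 → F, z' = v ∘ (sqE 4).symm :=
      ⟨z' ∘ sqE 4, by rw [Function.comp_assoc, Equiv.self_comp_symm, Function.comp_id]⟩
    rw [bform_sq hf] at hz hz' hzz'
    have hQ0 : ∀ v, bil f v v = 0 → Q v = 0 := fun v hv => by
      rw [q_half (t := 0) hf h2 (by norm_num) hpol, hv, zero_div]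
    have hfull : ∀ z : Idx 2 4 → F, bil f z z = 0 →
        (∀ w, SpO.bform f f (z ∘ (sqE 4).symm) w = 0 →
          ∃ g ∈ M.map (sqR F).toMonoidHom, OO.IsEich f f g (z ∘ (sqE 4).symm) w) →
        CfsgLib.Classical22.EFull Q (M.comap (qHom Q)) z := by
      intro z hz hfz w hw
      obtain ⟨_, ⟨g, hg, rfl⟩, hgv⟩ := hfz (w ∘ (sqE 4).symm) (by rw [bform_sq hf, ← hpol, hw])
      rw [Subgroup.mem_comap]
      suffices qHom Q (eich Q z w) = g by rw [this]; exact hg
      refine Transvec.gl_ext fun v => ?_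
      rw [qHom_mulVec, eich_apply Q (hQ0 z hz) hw, hpol, hpol,
        q_half (t := 0) hf h2 (by norm_num) hpol w]
      refine ((sqE 4).symm.surjective.injective_comp_right (γ := F)) ?_
      have h1 := hgv (v ∘ (sqE 4).symm)
      simp only [MulEquiv.coe_toMonoidHom, sqR_apply, bform_sq hf] at h1
      change _ = (g.val *ᵥ v) ∘ (sqE 4).symm
      rw [h1]
      funext p
      simp [Pi.smul_apply, smul_eq_mul]
      try ring
    refine hnle fun g hg => ?_
    rw [omegaGL_eq_map Q hQn hd] at hg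
    obtain ⟨a, ha, rfl⟩ := hg
    exact eichGroup_le_of_full Q hQn hd4 (hQ0 z hz) (hQ0 z' hz') (by rwa [hpol]) (hfull z hz hfz)
      (hfull z' hz' hfz') ha

/-- Flags of the second slot. -/
theorem flag_one (hnle : ¬ Cfsg.Geo.omegaGL ⇑Q ≤ M) {g : GL (Idx 2 4) F} (hg : g ∈ M) {e : Fin 4 → F}
    (he : e ≠ 0) (hee : f e e = 0) (hW : gim g (slotW (1 : Fin 2) e) = slotW (1 : Fin 2) e) : IsTW g := by
  refine isTW_of_isTw (OO.kron_of_fix (oo_ctx hf h2 hn hpol hM hS hnle) ⟨g, hg, rfl⟩ he hee fun x => ?_)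
  have hmem : g.val *ᵥ pv ![x, e] ∈ slotW (1 : Fin 2) e :=
    hW ▸ mem_gim.mpr ⟨_, pv_mem_slotW (1 : Fin 2) ![x, e], rfl⟩
  have hle : slotW (1 : Fin 2) e ≤
      LinearMap.range ((LinearMap.funLeft F F (sqE 4)).comp (ptL (a := 4) e)) := by
    refine slotW_le fun xs hxs => ⟨xs 0, ?_⟩
    rw [LinearMap.comp_apply, ptL_apply, ← hxs, ← pv_split]
    exact funext fun p => by simp [LinearMap.funLeft_apply]
  obtain ⟨z, hz⟩ := hle hmem
  refine ⟨z, ?_⟩
  rw [show pt x e = pv ![x, e] ∘ (sqE 4).symm from (pv_split ![x, e]).symm]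
  change (sqR F g).val *ᵥ _ = _
  rw [sqR_apply, ← hz, LinearMap.comp_apply, ptL_apply]
  exact funext fun p => by simp [LinearMap.funLeft_apply]

/-- Products of two of the reflections and the exchange lie in the group. -/
theorem class_mem {g h : GL (Idx 2 4) F}
    (hg : g = swp F ∨ ∃ (s : Fin 2) (v : Fin 4 → F), f v v ≠ 0 ∧ g = slotEl s (rG hf v))
    (hh : h = swp F ∨ ∃ (s : Fin 2) (v : Fin 4 → F), f v v ≠ 0 ∧ h = slotEl s (rG hf v)) : g * h ∈ M := by
  refine hS _ (class_mul hf h2 hn hpol hg hh) (isTW_mul ?_ ?_)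
  · rcases hg with rfl | ⟨s, v, -, rfl⟩
    · exact ⟨_, _, swp_data⟩
    · exact slotEl_tw s _
  · rcases hh with rfl | ⟨s, v, -, rfl⟩
    · exact ⟨_, _, swp_data⟩
    · exact slotEl_tw s _

omit [Fintype F] hn hpol hM hS in
/-- A reflection carrying one singular vector to another. -/
lemma refl_carry {z e : Fin 4 → F} (hzz : f z z = 0) (hee : f e e = 0) (hze : f z e ≠ 0) :
    f (z - e) (z - e) ≠ 0 ∧ (rG hf (z - e)).val *ᵥ z = e := by
  have hv : f (z - e) (z - e) = -(2 * f z e) := by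
    rw [sym_sub_left hf, sym_sub_right hf, sym_sub_right hf, hzz, hee, hf.symm e z]; ring
  have hv0 : f (z - e) (z - e) ≠ 0 := by rw [hv, neg_ne_zero]; exact mul_ne_zero h2 hze
  refine ⟨hv0, ?_⟩
  rw [rG_apply hf hv0]
  have hc : 2 / f (z - e) (z - e) * f z (z - e) = 1 := by
    rw [div_mul_eq_mul_div, div_eq_one_iff_eq hv0, hv, sym_sub_right hf, hzz]; ring
  rw [hc, one_smul, sub_sub_cancel]

omit [Fintype F] h2 hn hpol hM hS in
lemma gim_slotEl (s i : Fin 2) (A : GL (Fin 4) F) {u : Fin 4 → F} (hu : u ≠ 0) :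
    gim (slotEl s A) (slotW i u) = slotW i (if i = s then A.val *ᵥ u else u) := by
  have h := (slotEl_data s A).gim_slotW i hu
  rw [Equiv.Perm.one_apply] at h
  rw [h]
  by_cases hi : i = s
  · subst hi; simp
  · simp [hi]

omit [Fintype F] h2 hn hpol hM hS in
lemma gim_swp (i : Fin 2) {u : Fin 4 → F} (hu : u ≠ 0) :
    gim (swp F) (slotW (Equiv.swap (0 : Fin 2) 1 i) u) = slotW i u := by
  rw [(swp_data (F := F)).gim_slotW i hu, Units.val_one, one_mulVec]

/-- Singular vectors of one slot are moved to each other. -/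
theorem move_same (l : Fin 2) {z e : Fin 4 → F} (hz : z ≠ 0) (hzz : f z z = 0) (he : e ≠ 0) (hee : f e e = 0) :
    ∃ n ∈ M, IsTW n ∧ gim n (slotW l z) = slotW l e := by
  obtain ⟨r, hr⟩ : ∃ r : Fin 2, r ≠ l := ⟨Equiv.swap 0 1 l, by revert l; decide⟩
  obtain ⟨a, -, ha⟩ := exists_aniso hf h2 (nd_top hf) (by rw [finrank_top, Module.finrank_fin_fun]; norm_num)
  have step : ∀ {z e : Fin 4 → F}, z ≠ 0 → f z z = 0 → f e e = 0 → f z e ≠ 0 →
      ∃ n ∈ M, IsTW n ∧ gim n (slotW l z) = slotW l e := by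
    intro z e hz hzz hee hze
    obtain ⟨hv, hmap⟩ := refl_carry hf h2 hzz hee hze
    refine ⟨slotEl r (rG hf a) * slotEl l (rG hf (z - e)),
      class_mem hf h2 hn hpol hM hS (Or.inr ⟨r, a, ha, rfl⟩) (Or.inr ⟨l, _, hv, rfl⟩),
      isTW_mul (slotEl_tw r _) (slotEl_tw l _), ?_⟩
    rw [gim_mul, gim_slotEl hf l l _ hz, if_pos rfl, hmap,
      gim_slotEl hf r l _ (fun h => hze (by rw [h, SpO.sym_zero_right hf])), if_neg hr.symm]
  by_cases hze : f z e = 0
  · obtain ⟨c, hc⟩ := Submodule.mem_span_singleton.mp (hn z e hz hzz hee hze)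
    obtain ⟨z', hz'z', hzz', hz'z⟩ := exists_partner_sym hf h2 hz hzz
    obtain ⟨n₁, hn₁, t₁, g₁⟩ := step hz hzz hz'z' (by rw [hzz']; exact one_ne_zero)
    obtain ⟨n₂, hn₂, t₂, g₂⟩ := step (z := z') (e := e) (fun h => one_ne_zero (α := F) (by
      rw [← hzz', h, SpO.sym_zero_right hf])) hz'z' hee (by
      rw [← hc, hf.bilinear.smul_right, hz'z, mul_one]
      exact fun h => he (by rw [← hc, h, zero_smul]))
    exact ⟨n₂ * n₁, M.mul_mem hn₂ hn₁, isTW_mul t₂ t₁, by rw [gim_mul, g₁, g₂]⟩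
  · exact step hz hzz hee hze

/-- Singular vectors are moved between the slots. -/
theorem move_any (i l : Fin 2) {z e : Fin 4 → F} (hz : z ≠ 0) (hzz : f z z = 0) (he : e ≠ 0) (hee : f e e = 0) :
    ∃ n ∈ M, IsTW n ∧ gim n (slotW i z) = slotW l e := by
  by_cases hil : i = l
  · subst hil; exact move_same hf h2 hn hpol hM hS i hz hzz he hee
  obtain ⟨z', hz'z', hzz', hz'z⟩ := exists_partner_sym hf h2 hz hzz
  have hz'0 : z' ≠ 0 := fun h => one_ne_zero (α := F) (by rw [← hzz', h, SpO.sym_zero_right hf])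
  obtain ⟨hv, hmap⟩ := refl_carry hf h2 hzz hz'z' (by rw [hzz']; exact one_ne_zero)
  obtain ⟨n, hn', tn, gn⟩ := move_same hf h2 hn hpol hM hS l hz'0 hz'z' he hee
  refine ⟨n * (swp F * slotEl i (rG hf (z - z'))),
    M.mul_mem hn' (class_mem hf h2 hn hpol hM hS (Or.inl rfl) (Or.inr ⟨i, _, hv, rfl⟩)),
    isTW_mul tn (isTW_mul ⟨_, _, swp_data⟩ (slotEl_tw i _)), ?_⟩
  rw [gim_mul, gim_mul, gim_slotEl hf i i _ hz, if_pos rfl, hmap]
  have hsw : Equiv.swap (0 : Fin 2) 1 l = i :=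
    (by decide : ∀ a b : Fin 2, a ≠ b → Equiv.swap (0 : Fin 2) 1 b = a) i l hil
  rw [← hsw, gim_swp hf l hz'0, gn]

/-- Two slots: Omega, or the setting without involutive exchange. -/
theorem twoCtx_or : Cfsg.Geo.omegaGL ⇑Q ≤ M ∨ TwoCtx f M := by
  by_cases hnle : Cfsg.Geo.omegaGL ⇑Q ≤ M
  · exact Or.inl hnle
  refine Or.inr ⟨⟨hf, h2, hn, fun g hg => OPow.omega_piso hf h2 (by norm_num) hpol (hM hg),
    fun s A hA hd => hS _ (slot_omega hf h2 hn hpol s hA hd) (slotEl_tw s A), ?_,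
    fun i l z e hz hzz he hee => move_any hf h2 hn hpol hM hS i l hz hzz he hee⟩,
    fun sym v a hv ha => class_mem hf h2 hn hpol hM hS (Or.inr ⟨0, v, hv, rfl⟩) (Or.inr ⟨1, a, ha, rfl⟩),
    fun g hg σ gs hd hσ => no_swap hf h2 hn hpol (hM hg) hd hσ⟩
  intro g hg s e he hee hW
  obtain rfl | rfl : s = (0 : Fin 2) ∨ s = 1 := (by decide : ∀ j : Fin 2, j = 0 ∨ j = 1) s
  · obtain ⟨n, hn', tn, gn⟩ := move_any hf h2 hn hpol hM hS (0 : Fin 2) 1 he hee he hee
    have hback : gim n⁻¹ (slotW (1 : Fin 2) e) = slotW (0 : Fin 2) e := by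
      rw [← gn, ← gim_mul, inv_mul_cancel, gim_one]
    have h := flag_one hf h2 hn hpol hM hS hnle (M.mul_mem (M.mul_mem hn' hg) (M.inv_mem hn')) he hee
      (by rw [gim_mul, gim_mul, hback, hW, gn])
    have := isTW_mul (isTW_mul (isTW_inv tn) h) tn
    rwa [show n⁻¹ * (n * g * n⁻¹) * n = g by group] at this
  · exact flag_one hf h2 hn hpol hM hS hnle hg he hee hW

end CfsgLib.Classical22.OFour
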