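/-
Omega of a tensor power of at least three slots of dimension four contains the transpositions of the slots.
-/
import Cfsg.Agent.Lib.Classical22.OrthFour.FlagsOmega
import Cfsg.Agent.Lib.Classical22.OrthPower.Tens

set_option autoImplicit false
set_option linter.unusedSectionVars false
set_option linter.unusedSimpArgs false
set_option maxHeartbeats 800000

namespace CfsgLib.Classical22.OFour

open Matrix Cfsg CfsgLib.Transvec CfsgLib.Classical CfsgLib.Classical22.TensorMax
  CfsgLib.Classical22.TensorMax.SympO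
open CfsgLib.Classical22.TWMax (Idx pv permGL permGL_apply TWData twData_one slotEl slotEl_val slotEl_mul ext_pv
  emb_one)
open CfsgLib.Classical22.OPow (bil bil_pv PIso piso_of_pv piso_iff piso_slotEl isoF rG rG_iso rG_mul_self tens
  tens_apply tens_mul tens_one tens_transpose pG_tens tens_emb_other)
open scoped MatrixGroups

variable {F : Type*} [Field F]

/-- Adding an untouched last slot. -/
noncomputable def upEl (t : ℕ) : GL (Idx t 4) F →* GL (Idx (t + 1) 4) F where
  toFun g := ⟨tens (Fin.last t) 1 g.val, tens (Fin.last t) 1 g⁻¹.val,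
    by rw [tens_mul, one_mul, Units.mul_inv, tens_one], by rw [tens_mul, one_mul, Units.inv_mul, tens_one]⟩
  map_one' := Units.ext (by simp [tens_one])
  map_mul' g h := Units.ext (by simp [tens_mul])

lemma upEl_val (t : ℕ) (g : GL (Idx t 4) F) : (upEl t g).val = tens (Fin.last t) 1 g.val := rfl

lemma tens_mulVec_pv {t : ℕ} (s : Fin (t + 1)) (A : Matrix (Fin 4) (Fin 4) F)
    (G : Matrix (Idx t 4) (Idx t 4) F) (xs : Fin (t + 1) → Fin 4 → F) (q : Idx (t + 1) 4) :
    (tens s A G *ᵥ pv xs) q =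
      (G *ᵥ pv fun j => xs (s.succAbove j)) (fun j => q (s.succAbove j)) * (A *ᵥ xs s) (q s) := by
  rw [Matrix.mulVec, dotProduct, ← (Fin.insertNthEquiv (fun _ => Fin 4) s).sum_comp]
  simp only [Fintype.sum_prod_type, tens_apply, pv, Fin.insertNthEquiv_apply, Fin.insertNth_apply_same,
    Fin.insertNth_apply_succAbove, Fin.prod_univ_succAbove _ s, Matrix.mulVec, dotProduct, Finset.sum_mul_sum]
  rw [Finset.sum_comm]
  exact Finset.sum_congr rfl fun a _ => Finset.sum_congr rfl fun b _ => by ring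

lemma upEl_slot (t : ℕ) (j : Fin (t + 1)) (A : GL (Fin 4) F) :
    upEl (t + 1) (slotEl j A) = slotEl j.castSucc A := by
  refine Units.ext ?_
  rw [upEl_val, slotEl_val, slotEl_val, tens_emb_other, Fin.succAbove_last]

variable {f : (Fin 4 → F) → (Fin 4 → F) → F}

lemma upEl_piso (hf : Cfsg.Geo.IsSymmetricForm f) (t : ℕ) {g : GL (Idx t 4) F} (hg : PIso f g) :
    PIso f (upEl t g) := by
  rw [piso_iff] at hg ⊢
  rw [upEl_val, tens_transpose, ← pG_tens hf (Fin.last t), tens_mul, tens_mul, hg, transpose_one, one_mul, mul_one]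

/-- The elements permuting the slots. -/
lemma twData_perm {T : ℕ} (σ : Equiv.Perm (Fin T)) :
    TWData (permGL σ.symm : GL (Idx T 4) F) σ fun _ => 1 := fun xs => by
  rw [permGL_apply]
  simp

lemma permGL_piso (hf : Cfsg.Geo.IsSymmetricForm f) {T : ℕ} (σ : Equiv.Perm (Fin T)) :
    PIso f (permGL σ.symm : GL (Idx T 4) F) := piso_of_pv hf fun xs ys => by
  rw [permGL_apply, permGL_apply, bil_pv hf]
  exact Equiv.prod_comp σ fun i => f (xs i) (ys i)

lemma permGL_conj {T : ℕ} (π τ : Equiv.Perm (Fin T)) :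
    (permGL π.symm : GL (Idx T 4) F) * permGL τ.symm * (permGL π.symm)⁻¹ = permGL (π⁻¹ * τ * π).symm := by
  refine ext_pv fun xs => ?_
  rw [(((twData_perm (F := F) π).mul (twData_perm τ)).mul (twData_perm π).inv) xs, twData_perm (π⁻¹ * τ * π) xs]
  simp [mul_assoc]

/-- A transposition of the first two slots, seen one level up. -/
lemma upEl_swap (t : ℕ) :
    upEl (t + 2) (permGL (Equiv.swap (0 : Fin (t + 2)) 1).symm : GL (Idx (t + 2) 4) F) =
      permGL (Equiv.swap (0 : Fin (t + 3)) 1).symm := by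
  refine ext_pv fun xs => funext fun q => ?_
  rw [upEl_val, tens_mulVec_pv, twData_perm _ xs, twData_perm _ (fun j => xs ((Fin.last (t + 2)).succAbove j))]
  simp only [Units.val_one, one_mulVec, pv, Fin.prod_univ_castSucc, Fin.succAbove_last]
  have e : ∀ j : Fin (t + 2), (Equiv.swap (0 : Fin (t + 3)) 1) j.castSucc =
      ((Equiv.swap (0 : Fin (t + 2)) 1) j).castSucc := fun j => by
    rcases eq_or_ne j 0 with rfl | h0
    · simp
    rcases eq_or_ne j 1 with rfl | h1
    · simp
    rw [Equiv.swap_apply_of_ne_of_ne h0 h1, Equiv.swap_apply_of_ne_of_ne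
      (fun h => h0 (Fin.castSucc_injective _ (h.trans Fin.castSucc_zero.symm)))
      (fun h => h1 (Fin.castSucc_injective _ (h.trans Fin.castSucc_one.symm)))]
  have el : (Equiv.swap (0 : Fin (t + 3)) 1) (Fin.last (t + 2)) = Fin.last (t + 2) :=
    Equiv.swap_apply_of_ne_of_ne (by simp [Fin.ext_iff]) (by simp [Fin.ext_iff])
  simp only [e, el]

variable [Fintype F] (hf : Cfsg.Geo.IsSymmetricForm f) (h2 : (2 : F) ≠ 0) (hn : NoLine f)
include hf h2

lemma exists_quad (T : ℕ) :
    ∃ Q : QuadraticForm F (Idx T 4 → F), ∀ x y, QuadraticMap.polar Q x y = bil f x y := by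
  classical
  obtain ⟨B, hB⟩ : ∃ B : LinearMap.BilinMap F (Idx T 4 → F) F, ∀ x y, B x y = bil f x y / 2 :=
    ⟨LinearMap.mk₂ F (fun x y => bil f x y / 2) (fun x y z => by rw [OPow.bil_add_left, add_div])
      (fun a x y => by rw [OPow.bil_smul_left, smul_eq_mul, mul_div_assoc])
      (fun x y z => by rw [OPow.bil_add_right, add_div])
      (fun a x y => by rw [OPow.bil_smul_right, smul_eq_mul, mul_div_assoc]), fun x y => rfl⟩
  refine ⟨B.toQuadraticMap, fun v w => ?_⟩
  simp only [QuadraticMap.polar, LinearMap.BilinMap.toQuadraticMap_apply, hB, OPow.bil_add_left, OPow.bil_add_right,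
    OPow.bil_comm hf w v]
  field_simp
  ring

/-- Omega one level up contains the image of Omega. -/
lemma upEl_omega (t : ℕ) {Q : QuadraticForm F (Idx (t + 2) 4 → F)} {Q' : QuadraticForm F (Idx (t + 3) 4 → F)}
    (hQ : ∀ x y, QuadraticMap.polar Q x y = bil f x y) (hQ' : ∀ x y, QuadraticMap.polar Q' x y = bil f x y)
    {g : GL (Idx (t + 2) 4) F} (hg : g ∈ Cfsg.Geo.omegaGL ⇑Q) : upEl (t + 2) g ∈ Cfsg.Geo.omegaGL ⇑Q' := by
  rw [OrthSubfield.omegaGL_eq_commutator] at hg ⊢
  have hI : (isometryGroup F ⇑Q).map (upEl (t + 2)) ≤ isometryGroup F ⇑Q' := by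
    rintro _ ⟨y, hy, rfl⟩
    refine OPow.mem_iso hf h2 (by norm_num) hQ' (upEl_piso hf _ fun x x' => ?_)
    have hq : ∀ v, Q (y.val *ᵥ v) = Q v := fun v => hy v v
    rw [← hQ, ← hQ, QuadraticMap.polar, QuadraticMap.polar, ← mulVec_add, hq, hq, hq]
  have h := Subgroup.map_commutator (isometryGroup F ⇑Q) (isometryGroup F ⇑Q) (upEl (t + 2))
  exact Subgroup.commutator_mono hI hI (h ▸ ⟨g, hg, rfl⟩)

include hn

/-- The transposition of the first two slots. -/
theorem swap01_omega : ∀ (t : ℕ) (Q : QuadraticForm F (Idx (t + 3) 4 → F)),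
    (∀ x y, QuadraticMap.polar Q x y = bil f x y) →
      (permGL (Equiv.swap (0 : Fin (t + 3)) 1).symm : GL (Idx (t + 3) 4) F) ∈ Cfsg.Geo.omegaGL ⇑Q := by
  intro t
  induction t with
  | zero =>
    intro Q' hQ'
    obtain ⟨Q, hQ⟩ := exists_quad hf h2 2
    obtain ⟨u, hu, -⟩ := exists_frame hf h2 [] (by simp) (by simp)
    have h1 := upEl_omega hf h2 0 hQ hQ'
      (class_mul hf h2 hn hQ (Or.inl rfl) (Or.inr ⟨0, u 0, hu.aniso 0, rfl⟩))
    have h3 := (OPow.refl_omega (t := 1) hf h2 (by norm_num) (by decide) hQ' le_rfl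
      (Fin.castSucc (0 : Fin 2)) (hu.aniso 0)).1
    have h4 := Subgroup.mul_mem _ h1 h3
    rw [map_mul, upEl_slot 1 0, mul_assoc, slotEl_mul, rG_mul_self, slot_one, mul_one, swp,
      ← Equiv.symm_swap (0 : Fin 2) 1, upEl_swap 0] at h4
    exact h4
  | succ t ih =>
    intro Q' hQ'
    obtain ⟨Q, hQ⟩ := exists_quad hf h2 (t + 3)
    have h1 := upEl_omega hf h2 (t + 1) hQ hQ' (ih Q hQ)
    rwa [upEl_swap (t + 1)] at h1

variable {t : ℕ} {Q : QuadraticForm F (Idx (t + 2) 4 → F)} (hpol : ∀ x y, QuadraticMap.polar Q x y = bil f x y)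
include hpol

/-- All permutations of at least three slots are in Omega. -/
theorem perm4_omega (ht : 1 ≤ t) (σ : Equiv.Perm (Fin (t + 2))) :
    (permGL σ.symm : GL (Idx (t + 2) 4) F) ∈ Cfsg.Geo.omegaGL ⇑Q := by
  obtain ⟨t, rfl⟩ : ∃ t', t = t' + 1 := ⟨t - 1, by omega⟩
  induction σ using Equiv.Perm.swap_induction_on with
  | one =>
    rw [show (permGL (1 : Equiv.Perm (Fin (t + 1 + 2))).symm : GL (Idx (t + 1 + 2) 4) F) = 1 from ext_pv fun xs => by
      rw [twData_perm 1 xs, twData_one xs]]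
    exact Subgroup.one_mem _
  | swap_mul σ x y hxy ih =>
    have hswap : (permGL (Equiv.swap x y).symm : GL (Idx (t + 1 + 2) 4) F) ∈ Cfsg.Geo.omegaGL ⇑Q := by
      obtain ⟨π, hπ⟩ : ∃ π : Equiv.Perm (Fin (t + 1 + 2)),
          π⁻¹ * Equiv.swap (0 : Fin (t + 1 + 2)) 1 * π = Equiv.swap x y := by
        obtain ⟨π, hπ⟩ := isConj_iff.mp (Equiv.Perm.isConj_swap (show (0 : Fin (t + 1 + 2)) ≠ 1 by simp) hxy)
        exact ⟨π⁻¹, by rwa [inv_inv]⟩
      rw [← hπ, ← permGL_conj]
      exact OPow.omega_conj hf h2 (by norm_num) hpol (swap01_omega hf h2 hn t Q hpol) (permGL_piso hf π)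
    rw [show (permGL (Equiv.swap x y * σ).symm : GL (Idx (t + 1 + 2) 4) F) =
        permGL σ.symm * permGL (Equiv.swap x y).symm from ext_pv fun xs => by
      rw [twData_perm (Equiv.swap x y * σ) xs, ((twData_perm σ).mul (twData_perm (Equiv.swap x y))) xs]
      simp]
    exact Subgroup.mul_mem _ ih hswap

end CfsgLib.Classical22.OFour
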