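/-
Two slots: an element sending a slot root element into the tensor wreath group lies in it.
-/
import Cfsg.Agent.Lib.Classical22.OrthFour.Fix

set_option autoImplicit false
set_option linter.unusedSectionVars false
set_option linter.unusedSimpArgs false

namespace CfsgLib.Classical22.OFour

open Matrix CfsgLib.Transvec CfsgLib.Classical22.TensorMax CfsgLib.Classical22.TensorMax.SympO
open CfsgLib.Classical22.TensorMax.SpO (sym_zero_left sym_zero_right sym_sub_left sym_sub_right)
open CfsgLib.Classical22.TensorMax.OO (eA eA_mulVec exists_partner_sym)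
open CfsgLib.Classical22.TWMax (Idx pv slotEl slotEl_apply TWData IsTW twData_one_unique slotW gim finrank_gim
  finrank_slotW exists_notMem_span)
open CfsgLib.Classical22.OPow (PIso bil bil_pv bil_add_left bil_smul_left isoF eU eU_val)
open scoped MatrixGroups

variable {F : Type*} [Field F] [Fintype F] {f : (Fin 4 → F) → (Fin 4 → F) → F}

section Sym
variable (hf : Cfsg.Geo.IsSymmetricForm f) (h2 : (2 : F) ≠ 0)
include hf h2

/-- The vectors completing a root. -/
lemma exists_root_basis (hn : NoLine f) {e w : Fin 4 → F} (he : e ≠ 0) (hee : f e e = 0) (hew : f e w = 0)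
    (hw : f w w ≠ 0) :
    ∃ n m, f n e = 1 ∧ f n n = 0 ∧ f n w = 0 ∧ f m e = 0 ∧ f m w = 0 ∧ f m n = 0 ∧ f m m ≠ 0 := by
  obtain ⟨v, hvv, hev, hve⟩ := exists_partner_sym hf h2 he hee
  have hwe : f w e = 0 := (hf.symm w e).trans hew
  obtain ⟨n, hne, hnn, hnw⟩ : ∃ n, f n e = 1 ∧ f n n = 0 ∧ f n w = 0 := by
    refine ⟨v - (f v w / f w w) • w + (f v w * f v w / (2 * f w w)) • e, ?_, ?_, ?_⟩
    all_goals simp only [hf.bilinear.add_left, hf.bilinear.add_right, sym_sub_left hf, sym_sub_right hf,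
      hf.bilinear.smul_left, hf.bilinear.smul_right, hvv, hev, hve, hee, hew, hwe, hf.symm w v]
    all_goals field_simp
    all_goals ring
  obtain ⟨y, hy⟩ := exists_notMem_span (show 3 < 4 by norm_num) ![e, w, n]
  have hen : f e n = 1 := (hf.symm e n).trans hne
  have hwn : f w n = 0 := (hf.symm w n).trans hnw
  obtain ⟨m, hm⟩ : ∃ m, m = y - f y n • e - f y e • n - (f y w / f w w) • w := ⟨_, rfl⟩
  have hme : f m e = 0 := by
    rw [hm]; simp only [sym_sub_left hf, hf.bilinear.smul_left, hee, hne, hwe]; ring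
  have hmn : f m n = 0 := by
    rw [hm]; simp only [sym_sub_left hf, hf.bilinear.smul_left, hen, hnn, hwn]; ring
  have hmw : f m w = 0 := by
    rw [hm]; simp only [sym_sub_left hf, hf.bilinear.smul_left, hew, hnw]; field_simp; ring
  refine ⟨n, m, hne, hnn, hnw, hme, hmw, hmn, fun h0 => ?_⟩
  obtain ⟨c, hc⟩ := Submodule.mem_span_singleton.mp (hn e m he hee h0 ((hf.symm e m).trans hme))
  rw [← hc, hf.bilinear.smul_left, hen, mul_one] at hmn
  rw [hmn, zero_smul] at hc
  refine hy ?_
  have hy' : y = f y n • e + (f y w / f w w) • w + f y e • n := by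
    linear_combination (norm := module) hc.symm - hm
  rw [hy']
  exact Submodule.add_mem _ (Submodule.add_mem _ (Submodule.smul_mem _ _ (Submodule.subset_span ⟨0, rfl⟩))
    (Submodule.smul_mem _ _ (Submodule.subset_span ⟨1, rfl⟩)))
    (Submodule.smul_mem _ _ (Submodule.subset_span ⟨2, rfl⟩))

/-- The square of a product of two root elements, minus one, has rank at least five. -/
lemma five_le_rank (hn : NoLine f) {y : GL (Idx 2 4) F} {e w e' w' : Fin 4 → F}
    (he : e ≠ 0) (hee : f e e = 0) (hew : f e w = 0) (hw : f w w ≠ 0)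
    (he' : e' ≠ 0) (hee' : f e' e' = 0) (hew' : f e' w' = 0) (hw' : f w' w' ≠ 0)
    (hy : ∀ x z, y.val *ᵥ pv ![x, z] = pv ![(eU hf h2 e w).val *ᵥ x, (eU hf h2 e' w').val *ᵥ z]) :
    5 ≤ Module.finrank F (LinearMap.range (Matrix.mulVecLin ((y.val - 1) * (y.val - 1)))) := by
  obtain ⟨n, m, hne, hnn, hnw, hme, hmw, hmn, hmm⟩ := exists_root_basis hf h2 hn he hee hew hw
  obtain ⟨n', m', hne', hnn', hnw', hme', hmw', hmn', hmm'⟩ := exists_root_basis hf h2 hn he' hee' hew' hw'
  obtain ⟨X, hX⟩ : ∃ X, X = (y.val - 1) * (y.val - 1) := ⟨_, rfl⟩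
  rw [← hX]
  have hP : ∀ x z u v, bil f (X *ᵥ pv ![x, z]) (pv ![u, v]) =
      f (eA f e w *ᵥ (eA f e w *ᵥ x)) u * f (eA f e' w' *ᵥ (eA f e' w' *ᵥ z)) v -
        2 * (f (eA f e w *ᵥ x) u * f (eA f e' w' *ᵥ z) v) + f x u * f z v := by
    intro x z u v
    have e1 : X *ᵥ pv ![x, z] = y.val *ᵥ (y.val *ᵥ pv ![x, z]) + ((-2 : F) • (y.val *ᵥ pv ![x, z]) + pv ![x, z]) := by
      rw [hX, ← mulVec_mulVec, sub_mulVec, one_mulVec, sub_mulVec, one_mulVec, mulVec_sub]
      module
    rw [e1, hy, hy, eU_val hf h2 hee hew, eU_val hf h2 hee' hew', bil_add_left, bil_add_left, bil_smul_left,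
      bil_pv hf, bil_pv hf, bil_pv hf, Fin.prod_univ_two, Fin.prod_univ_two, Fin.prod_univ_two]
    simp only [Matrix.cons_val_zero, Matrix.cons_val_one]
    ring
  have hwe : f w e = 0 := (hf.symm w e).trans hew
  have hen : f e n = 1 := (hf.symm e n).trans hne
  have hwn : f w n = 0 := (hf.symm w n).trans hnw
  have hem : f e m = 0 := (hf.symm e m).trans hme
  have hwm : f w m = 0 := (hf.symm w m).trans hmw
  have hnm : f n m = 0 := (hf.symm n m).trans hmn
  have hwe' : f w' e' = 0 := (hf.symm w' e').trans hew'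
  have hen' : f e' n' = 1 := (hf.symm e' n').trans hne'
  have hwn' : f w' n' = 0 := (hf.symm w' n').trans hnw'
  have hem' : f e' m' = 0 := (hf.symm e' m').trans hme'
  have hwm' : f w' m' = 0 := (hf.symm w' m').trans hmw'
  have hnm' : f n' m' = 0 := (hf.symm n' m').trans hmn'
  have hli : LinearIndependent F ![X *ᵥ pv ![n, m'], X *ᵥ pv ![m, n'], X *ᵥ pv ![n, e'], X *ᵥ pv ![n, n'],
      X *ᵥ pv ![n, w']] := by
    rw [Fintype.linearIndependent_iff]
    intro c hc
    simp only [Fin.sum_univ_five, Matrix.cons_val_zero, Matrix.cons_val_one, Matrix.cons_val] at hc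
    have ht := fun u v => congrArg (fun z => bil f z (pv ![u, v])) hc
    simp only [bil_add_left, bil_smul_left, hP, OPow.bil_zero_left] at ht
    have t1 := ht n m'
    have t2 := ht m n'
    have t4 := ht n e'
    have t5 := ht n w'
    have t3 := ht n n'
    simp only [eA_mulVec hf, hf.bilinear.add_left, sym_sub_left hf, hf.bilinear.smul_left, hee, hew, hwe, hne, hen,
      hnn, hnw, hwn, hme, hem, hmw, hwm, hmn, hnm, hee', hew', hwe', hne', hen', hnn', hnw', hwn', hme', hem',
      hmw', hwm', hmn', hnm', mul_zero, zero_mul, mul_one, one_mul, add_zero, zero_add, sub_zero, zero_sub]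
      at t1 t2 t4 t5 t3
    have c0 : c 0 = 0 := by
      have : c 0 * (f w w * f m' m') = 0 := (mul_eq_zero.mp (show 2 * (c 0 * (f w w * f m' m')) = 0 by field_simp at t1; linear_combination -t1)).resolve_left h2
      simpa [hw, hmm'] using this
    have c1 : c 1 = 0 := by
      have : c 1 * (f w' w' * f m m) = 0 := (mul_eq_zero.mp (show 2 * (c 1 * (f w' w' * f m m)) = 0 by field_simp at t2; linear_combination -t2)).resolve_left h2
      simpa [hw', hmm] using this
    have c3 : c 3 = 0 := by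
      have : c 3 * f w w = 0 := (mul_eq_zero.mp (show 2 * (c 3 * f w w) = 0 by field_simp at t4; linear_combination -t4)).resolve_left h2
      simpa [hw] using this
    have c4 : c 4 = 0 := by
      rw [c3] at t5
      have : c 4 * (f w w * f w' w') = 0 := (mul_eq_zero.mp (show 2 * (c 4 * (f w w * f w' w')) = 0 by field_simp at t5; linear_combination -t5)).resolve_left h2
      simpa [hw, hw'] using this
    have c2 : c 2 = 0 := by
      rw [c3, c4] at t3
      have : c 2 * f w w = 0 := (mul_eq_zero.mp ((mul_eq_zero.mp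
        (show 2 * (2 * (c 2 * f w w)) = 0 by field_simp at t3; linear_combination -t3)).resolve_left h2)).resolve_left h2
      simpa [hw] using this
    intro i
    fin_cases i
    exacts [c0, c1, c2, c3, c4]
  refine le_trans (le_of_eq (finrank_span_eq_card hli).symm |> le_trans (le_of_eq (Fintype.card_fin 5).symm))
    (Submodule.finrank_mono (Submodule.span_le.mpr ?_))
  rintro _ ⟨i, rfl⟩
  fin_cases i <;> exact ⟨_, rfl⟩

end Sym

namespace Ctx4
variable {M : Subgroup (GL (Idx 2 4) F)} (C : Ctx4 (t := 0) f M)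
include C

/-- With two slots, the conjugate of a root element is a tensor wreath element only for such elements. -/
theorem tw_of_conj_root {g : GL (Idx 2 4) F} (hg : g ∈ M) {l : Fin 2} {e w : Fin 4 → F} (he : e ≠ 0)
    (hee : f e e = 0) (hew : f e w = 0) (hw : f w w ≠ 0)
    (h : IsTW (g * slotEl l (eU C.sym C.two e w) * g⁻¹)) : IsTW g := by
  classical
  have hf := C.sym
  have h2 := C.two
  obtain ⟨p, hpF⟩ := CharP.exists F
  haveI : Fact p.Prime := ⟨CharP.char_is_prime F p⟩
  have hodd : Odd p := by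
    refine (Fact.out : p.Prime).odd_of_ne_two fun hp => h2 ?_
    subst hp; exact CharP.cast_eq_zero F 2
  obtain ⟨u, hu⟩ : ∃ u, u = slotEl l (eU hf h2 e w) := ⟨_, rfl⟩
  obtain ⟨y, hy⟩ : ∃ y, y = g * u * g⁻¹ := ⟨_, rfl⟩
  have hyM : y ∈ M := by
    rw [hy, hu]; exact M.mul_mem (M.mul_mem hg (C.eU_mem l hee hew hw)) (M.inv_mem hg)
  have hyp : y ^ p = 1 := by
    rw [hy, hu, conj_pow, slot_pow, eU_pow_char hf h2 p hee hew, slot_one, mul_one, mul_inv_cancel]
  rw [← hu, ← hy] at h
  obtain ⟨σ, gs, hd⟩ := h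
  -- the slots are fixed
  have hσ : σ = 1 := by
    have hn : ∀ n : ℕ, ∃ hs, TWData (y ^ n) (σ ^ n) hs := fun n => by
      induction n with
      | zero => exact ⟨_, by rw [pow_zero, pow_zero]; exact TWMax.twData_one⟩
      | succ n ih =>
        obtain ⟨hs, ih⟩ := ih
        exact ⟨_, by rw [pow_succ', pow_succ]; exact hd.mul ih⟩
    obtain ⟨hs, h1⟩ := hn p
    rw [hyp] at h1
    have h1 := (twData_one_unique (by norm_num) h1).1
    obtain ⟨k, rfl⟩ := hodd
    have hinv : σ * σ = 1 := (by decide : ∀ τ : Equiv.Perm (Fin 2), τ * τ = 1) σ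
    rwa [pow_succ, pow_mul, sq, hinv, one_pow, one_mul] at h1
  subst hσ
  -- the scalars of the powers
  have hpn : ∀ n : ℕ, TWData (y ^ n) 1 (fun i => gs i ^ n) := fun n => by
    induction n with
    | zero => simpa using TWMax.twData_one (F := F) (t := 2) (m := 4)
    | succ n ih => simpa [pow_succ'] using hd.mul ih
  have hdp := hpn p
  rw [hyp] at hdp
  choose c hc using (twData_one_unique (by norm_num) hdp).2
  have hcc : c 0 * c 1 = 1 := by
    have e1 := congrFun (hdp fun _ => Pi.single 0 1) fun _ => 0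
    rw [Units.val_one, one_mulVec] at e1
    simp only [Equiv.Perm.one_apply, hc, pv, Fin.prod_univ_two, Pi.smul_apply, Pi.single_eq_same, smul_eq_mul,
      mul_one] at e1
    exact e1.symm
  obtain ⟨d, hdc⟩ := (Finite.injective_iff_bijective.mp (frobenius_inj F p)).2 (c 0)
  rw [frobenius_def] at hdc
  have hd0 : d ≠ 0 := fun h0 => by
    rw [h0, zero_pow (Fact.out : p.Prime).ne_zero] at hdc
    simp [← hdc] at hcc
  obtain ⟨A, hAv⟩ : ∃ A : GL (Fin 4) F, A.val = d⁻¹ • (gs 0).val :=
    ⟨⟨d⁻¹ • (gs 0).val, d • (gs 0)⁻¹.val, by simp [smul_smul, hd0], by simp [smul_smul, hd0]⟩, rfl⟩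
  obtain ⟨B, hBv⟩ : ∃ B : GL (Fin 4) F, B.val = d • (gs 1).val :=
    ⟨⟨d • (gs 1).val, d⁻¹ • (gs 1)⁻¹.val, by simp [smul_smul, hd0], by simp [smul_smul, hd0]⟩, rfl⟩
  have hAp : A ^ p = 1 := Transvec.gl_ext fun x => by
    rw [Units.val_pow_eq_pow_val, hAv, smul_pow, ← Units.val_pow_eq_pow_val, smul_mulVec, hc, smul_smul,
      inv_pow, hdc, inv_mul_cancel₀ (fun h0 => by simp [h0] at hcc), one_smul, Units.val_one, one_mulVec]
  have hBp : B ^ p = 1 := Transvec.gl_ext fun x => by
    rw [Units.val_pow_eq_pow_val, hBv, smul_pow, ← Units.val_pow_eq_pow_val, smul_mulVec, hc, smul_smul, hdc,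
      hcc, one_smul, Units.val_one, one_mulVec]
  have hpair : ∀ x z, y.val *ᵥ pv ![x, z] = pv ![A.val *ᵥ x, B.val *ᵥ z] := fun x z => by
    rw [hd]
    funext a
    simp only [pv, Fin.prod_univ_two, Equiv.Perm.one_apply, Matrix.cons_val_zero, Matrix.cons_val_one, hAv, hBv,
      smul_mulVec, Pi.smul_apply, smul_eq_mul]
    field_simp
  -- both factors are isometries
  have hiso : ∀ x x' z z', f (A.val *ᵥ x) (A.val *ᵥ x') * f (B.val *ᵥ z) (B.val *ᵥ z') = f x x' * f z z' := by
    intro x x' z z'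
    have := C.iso y hyM (pv ![x, z]) (pv ![x', z'])
    rwa [hpair, hpair, bil_pv hf, bil_pv hf, Fin.prod_univ_two, Fin.prod_univ_two] at this
  obtain ⟨n, -, hne, -⟩ := exists_root_basis hf h2 C.noline he hee hew hw
  obtain ⟨μ, hμ⟩ : ∃ μ, μ = f (B.val *ᵥ n) (B.val *ᵥ e) := ⟨_, rfl⟩
  have hμ0 : μ ≠ 0 := fun h0 => by
    have := hiso n e n e
    rw [← hμ, h0, mul_zero, hne, mul_one] at this
    exact one_ne_zero this.symm
  have hAs : ∀ x x', f (A.val *ᵥ x) (A.val *ᵥ x') = μ⁻¹ * f x x' := fun x x' => by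
    have := hiso x x' n e
    rw [← hμ, hne, mul_one] at this
    rw [← this]; field_simp
  have hμ1 : μ = 1 := by
    have hk : ∀ k x x', f ((A ^ k).val *ᵥ x) ((A ^ k).val *ᵥ x') = μ⁻¹ ^ k * f x x' := fun k => by
      induction k with
      | zero => simp
      | succ k ih =>
        intro x x'
        rw [pow_succ', Transvec.mul_mulVec, Transvec.mul_mulVec, hAs, ih, pow_succ']
        ring
    have := hk p n e
    rw [hAp, Units.val_one, one_mulVec, one_mulVec, hne, mul_one, inv_pow] at this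
    refine frobenius_inj F p ?_
    rw [frobenius_def, map_one]
    exact inv_eq_one.mp this.symm
  have hA : A ∈ isoF f := fun x x' => by rw [hAs, hμ1, inv_one, one_mul]
  have hB : B ∈ isoF f := fun z z' => by
    have := hiso n e z z'
    rwa [hA n e, hne, one_mul, one_mul] at this
  have hdata : TWData y 1 ![A, B] := fun xs => by
    have e1 : xs = ![xs 0, xs 1] := by funext i; fin_cases i <;> rfl
    conv_lhs => rw [e1, hpair]
    congr 1
    funext i; fin_cases i <;> rfl
  have hone : ∀ (j : Fin 2) (D : GL (Fin 4) F),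
      (![A, B] : Fin 2 → GL (Fin 4) F) = Function.update (fun _ => 1) j D → IsTW g := fun j D e1 => by
    refine C.root_conj' hg (l := l) he hee hew hw (j := j) (A := D) ?_ ?_
    · have e2 := congrFun e1 j
      rw [Function.update_self] at e2
      rw [← e2]; fin_cases j
      exacts [hA, hB]
    · rw [← hu, ← hy]
      exact TWMax.ext_pv fun xs => by rw [hdata, TWMax.slotEl_data, e1]
  by_cases hB1 : B = 1
  · exact hone 0 A (by funext i; fin_cases i <;> simp [hB1])
  by_cases hA1 : A = 1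
  · exact hone 1 B (by funext i; fin_cases i <;> simp [hA1])
  exfalso
  obtain ⟨e₁, w₁, he₁, hee₁, hew₁, hw₁, rfl⟩ := exists_eU hf h2 C.noline p hA hAp hA1
  obtain ⟨e₂, w₂, he₂, hee₂, hew₂, hw₂, rfl⟩ := exists_eU hf h2 C.noline p hB hBp hB1
  have h5 := five_le_rank hf h2 C.noline he₁ hee₁ hew₁ hw₁ he₂ hee₂ hew₂ hw₂ hpair
  have hX : (y.val - 1) * (y.val - 1) = g.val * ((-f w w) • TWMax.emb l (outer f e e)) * g⁻¹.val := by
    rw [← root_sq hf h2 l hee hew, ← hu]
    have e1 : y.val - 1 = g.val * (u.val - 1) * g⁻¹.val := by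
      rw [hy, Units.val_mul, Units.val_mul, mul_sub, sub_mul, mul_one, Units.mul_inv]
    rw [e1]
    simp only [mul_assoc, Units.inv_mul_cancel_left]
  rw [hX, range_conj, range_smul_mulVecLin (neg_ne_zero.mpr hw), range_emb_outer hf l he, finrank_gim,
    finrank_slotW l he] at h5
  norm_num at h5

end Ctx4

end CfsgLib.Classical22.OFour
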