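/-
The centralisers of reflection pairs, and the main theorem when all slot reflections are present.
-/
import Cfsg.Agent.Lib.Classical22.OrthFour.Calc
import Cfsg.Agent.Lib.Classical22.OrthFour.RPlus

set_option autoImplicit false
set_option linter.unusedSectionVars false
set_option linter.unusedSimpArgs false

namespace CfsgLib.Classical22.OFour

open Matrix CfsgLib.Transvec CfsgLib.Classical22.TensorMax CfsgLib.Classical22.TensorMax.SympO
open CfsgLib.Classical22.TensorMax.SpO (sym_zero_left sym_quad_add sym_quad_smul)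
open CfsgLib.Classical22.TWMax (Idx pv slotEl slotEl_mul slotEl_data TWData IsTW)
open CfsgLib.Classical22.OPow (PIso isoF rG rG_iso rG_mul_self eU isTW_mul isTW_inv slotEl_commute)
open scoped MatrixGroups

variable {F : Type*} [Field F] [Fintype F] {f : (Fin 4 → F) → (Fin 4 → F) → F} {t : ℕ}
  {M : Subgroup (GL (Idx (t + 2) 4) F)}

namespace Ctx4
variable (C : Ctx4 f M)
include C

/-- The signature of an element of three slots, times four. -/
theorem sig_three {s j m : Fin (t + 2)} (hsj : s ≠ j) (hsm : s ≠ m) (hjm : j ≠ m) {A B D : GL (Fin 4) F}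
    {u w z : Fin 4 → Fin 4 → F} {e e' e'' : Fin 4 → ℤ} (hu : Frame f u) (he : Eig A u e) (hw : Frame f w)
    (he' : Eig B w e') (hz : Frame f z) (he'' : Eig D z e'') :
    4 * sig (slotEl s A * slotEl j B * slotEl m D) = (∑ i, e i) * (∑ i, e' i) * (∑ i, e'' i) * 4 ^ t := by
  classical
  obtain ⟨v, hv⟩ := exists_any_frame C.sym C.two
  have hd := ((slotEl_data s A).mul (slotEl_data j B)).mul (slotEl_data m D)
  rw [mul_one, mul_one] at hd
  obtain ⟨us, hus⟩ : ∃ us, us = Function.update (Function.update (Function.update (fun _ : Fin (t + 2) => v) s u) j w) m z :=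
    ⟨_, rfl⟩
  obtain ⟨ss, hss⟩ : ∃ ss, ss = Function.update (Function.update (Function.update
      (fun _ : Fin (t + 2) => (1 : Fin 4 → ℤ)) s e) j e') m e'' := ⟨_, rfl⟩
  have hsig := sig_frames C.sym C.two hd us ss (fun l => ?_) (fun l => ?_)
  · have hm : m ∈ ((Finset.univ : Finset (Fin (t + 2))).erase s).erase j :=
      Finset.mem_erase.mpr ⟨hjm.symm, Finset.mem_erase.mpr ⟨hsm.symm, Finset.mem_univ m⟩⟩
    have hj : j ∈ (Finset.univ : Finset (Fin (t + 2))).erase s := Finset.mem_erase.mpr ⟨hsj.symm, Finset.mem_univ j⟩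
    rw [hsig, ← Finset.mul_prod_erase _ _ (Finset.mem_univ s), ← Finset.mul_prod_erase _ _ hj,
      ← Finset.mul_prod_erase _ _ hm, Finset.prod_congr rfl (g := fun _ => (4 : ℤ)) fun l hl => by
        simp only [Finset.mem_erase] at hl
        rw [hss, Function.update_of_ne hl.1, Function.update_of_ne hl.2.1, Function.update_of_ne hl.2.2.1]
        simp, Finset.prod_const, Finset.card_erase_of_mem hm, Finset.card_erase_of_mem hj,
      Finset.card_erase_of_mem (Finset.mem_univ s), Finset.card_univ, Fintype.card_fin]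
    simp only [hss, Function.update_self, Function.update_of_ne hsj, Function.update_of_ne hsm,
      Function.update_of_ne hjm]
    have ht : 1 ≤ t := by
      by_contra h0
      have h1 := s.isLt; have h2 := j.isLt; have h3 := m.isLt
      have a1 := Fin.val_ne_of_ne hsj; have a2 := Fin.val_ne_of_ne hsm; have a3 := Fin.val_ne_of_ne hjm
      omega
    obtain ⟨r, rfl⟩ : ∃ r, t = r + 1 := ⟨t - 1, by omega⟩
    rw [show r + 1 + 2 - 1 - 1 - 1 = r by omega, pow_succ]
    ring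
  · by_cases hl : l = m
    · subst hl; simpa [hus] using hz
    · by_cases hl' : l = j
      · subst hl'; simpa [hus, hl] using hw
      · by_cases hl'' : l = s
        · subst hl''; simpa [hus, hl, hl'] using hu
        · simpa [hus, hl, hl', hl''] using hv
  · by_cases hl : l = m
    · subst hl; simpa [hus, hss, hsm.symm, hjm.symm] using he''
    · by_cases hl' : l = j
      · subst hl'; simpa [hus, hss, hl, hsj.symm] using he'
      · by_cases hl'' : l = s
        · subst hl''; simpa [hus, hss, hl, hl'] using he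
        · simpa [hus, hss, hl, hl', hl''] using Eig.one v

end Ctx4

namespace MCtx
variable (C : MCtx f M)
include C

lemma refl_invol {s l : Fin (t + 2)} (hsl : s ≠ l) (v a : Fin 4 → F) :
    slotEl s (rG C.ctx.sym v) * slotEl l (rG C.ctx.sym a) *
      (slotEl s (rG C.ctx.sym v) * slotEl l (rG C.ctx.sym a)) = 1 :=
  invol_mul (slot_refl_sq C.ctx.sym s v) (slot_refl_sq C.ctx.sym l a) (slotEl_commute hsl _ _)

/-- An involution commuting with a reflection, whose product with it is a reflection. -/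
theorem comm_step {s : Fin (t + 2)} {v : Fin 4 → F} (hv : f v v ≠ 0) {c : GL (Idx (t + 2) 4) F} (hc : c ∈ M)
    (hc2 : c * c = 1) (hc1 : c ≠ 1) (hcv : c * slotEl s (rG C.ctx.sym v) = slotEl s (rG C.ctx.sym v) * c)
    (hsig : sig (slotEl s (rG C.ctx.sym v) * c) = 2 * 4 ^ (t + 1)) :
    (∃ u, Frame f u ∧ c = slotEl s (half C.ctx.sym u)) ∨
      ∃ m x, m ≠ s ∧ f x x ≠ 0 ∧ c = slotEl s (rG C.ctx.sym v) * slotEl m (rG C.ctx.sym x) := by
  have hf := C.ctx.sym
  obtain ⟨m, x, hx, hmx⟩ := C.ctx.refl_of_sig (M.mul_mem (C.refl_mem s hv) hc)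
    (isTW_mul (slotEl_tw s _) (C.ctx.tw_of_comm_refl (s := s) hv hc hcv))
    (invol_mul (slot_refl_sq hf s v) hc2 hcv.symm) hsig
  have hce : c = slotEl s (rG hf v) * slotEl m (rG hf x) := by rw [← hmx, slot_cancel (slot_refl_sq hf s v)]
  by_cases hms : m = s
  · subst hms
    have hcomm : rG hf v * rG hf x = rG hf x * rG hf v := by
      refine (slotEl_comm_iff m).mp ?_
      rw [← hmx, slot_cancel (slot_refl_sq hf m v), mul_assoc, hcv, slot_cancel (slot_refl_sq hf m v)]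
    rcases rG_comm hf C.ctx.two hv hx hcomm with h | h
    · obtain ⟨w, hw, -, -, hwe⟩ := exists_frame_end hf C.ctx.two hv hx (by rwa [hf.symm])
      exact Or.inl ⟨w, hw, by rw [hwe, ← slotEl_mul, hce]⟩
    · exact absurd (by rw [hce, h, slot_refl_sq hf]) hc1
  · exact Or.inr ⟨m, x, hms, hx, hce⟩

/-- The centraliser of a pair of reflections. -/
theorem tw_of_comm_pair {s l : Fin (t + 2)} (hsl : s ≠ l) {v a : Fin 4 → F} (hv : f v v ≠ 0) (ha : f a a ≠ 0)
    {g : GL (Idx (t + 2) 4) F} (hg : g ∈ M)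
    (hc : g * (slotEl s (rG C.ctx.sym v) * slotEl l (rG C.ctx.sym a)) =
      slotEl s (rG C.ctx.sym v) * slotEl l (rG C.ctx.sym a) * g) : IsTW g := by
  classical
  have hf := C.ctx.sym
  obtain ⟨P, hP⟩ : ∃ P, P = slotEl s (rG hf v) * slotEl l (rG hf a) := ⟨_, rfl⟩
  rw [← hP] at hc
  obtain ⟨u, hu, hu0⟩ := exists_extend_one hf C.ctx.two hv
  have hu1 := hu.aniso 1
  have huv : f v (u 1) = 0 := hu0 ▸ hu.orth 0 1 (by decide)
  obtain ⟨H, hHd⟩ : ∃ H : Subgroup (GL (Idx (t + 2) 4) F), H = M ⊓ Subgroup.centralizer {P} := ⟨_, rfl⟩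
  have memH : ∀ x, x ∈ H ↔ x ∈ M ∧ x * P = P * x := fun x => by
    rw [hHd, Subgroup.mem_inf, Subgroup.mem_centralizer_singleton_iff]
  have hvl : ∀ X : GL (Fin 4) F, slotEl s X * slotEl l (rG hf a) = slotEl l (rG hf a) * slotEl s X := fun X =>
    slotEl_commute hsl _ _
  have ht0 : slotEl s (rG hf v) ∈ H := (memH _).mpr ⟨C.refl_mem s hv, by
    rw [hP, slot_cancel (slot_refl_sq hf s v), mul_assoc, ← hvl, slot_cancel (slot_refl_sq hf s v)]⟩
  have hS : slotEl s (rG hf (u 1)) ∈ H := (memH _).mpr ⟨C.refl_mem s hu1, by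
    have e : rG hf (u 1) * rG hf v = rG hf v * rG hf (u 1) := hu0 ▸ hu.eig_comm hf (hu.eig_rG hf 1) (hu.eig_rG hf 0)
    rw [hP, ← mul_assoc, slotEl_mul, e, ← slotEl_mul, mul_assoc, hvl, ← mul_assoc]⟩
  have hgH : g ∈ H := (memH g).mpr ⟨hg, hc⟩
  have hgS : IsTW (g * slotEl s (rG hf (u 1)) * g⁻¹) → IsTW g := C.tw_of_conj_refl hu1 hg
  obtain ⟨T, hT⟩ : ∃ T, T = g * slotEl s (rG hf (u 1)) * g⁻¹ := ⟨_, rfl⟩
  have hTH : T ∈ H := hT ▸ H.mul_mem (H.mul_mem hgH hS) (H.inv_mem hgH)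
  have hPt : sig (P * slotEl s (rG hf v)) = 2 * 4 ^ (t + 1) := by
    rw [hP, mul_assoc, ← hvl, slot_cancel (slot_refl_sq hf s v), C.ctx.sig_refl l ha]
  have hPS : sig (P * slotEl s (rG hf (u 1))) = 0 := by
    rw [hP, mul_assoc, ← hvl, ← mul_assoc, slotEl_mul, C.ctx.sig_half_refl hsl hv hu1 huv ha]
  have hconjP : ∀ k ∈ H, ∀ x, sig (P * (k * x * k⁻¹)) = sig (P * x) := fun k hk x => by
    rw [show P * (k * x * k⁻¹) = P * k * x * k⁻¹ by group, ← ((memH k).mp hk).2,
      show k * P * x * k⁻¹ = k * (P * x) * k⁻¹ by group, sig_conj]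
  have hPT : sig (P * T) = 0 := by rw [hT, hconjP g hgH, hPS]
  have hpos : (0 : ℤ) < 4 ^ t := by positivity
  have hne : ∀ k ∈ H, k * slotEl s (rG hf v) * k⁻¹ ≠ T := fun k hk h => by
    have := hconjP k hk (slotEl s (rG hf v))
    rw [h, hPT, hPt, pow_succ] at this
    linarith
  obtain ⟨c, hcH, hc2, hc1, hct, hcT, hcl⟩ := exists_central ht0 hTH (slot_refl_sq hf s v)
    (by rw [hT, conj_mul, slot_refl_sq hf, mul_one, mul_inv_cancel]) hne
  have hcM := ((memH c).mp hcH).1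
  have hTsig : sig T = 2 * 4 ^ (t + 1) := by rw [hT, sig_conj, C.ctx.sig_refl s hu1]
  have hsig : sig (slotEl s (rG hf v) * c) = 2 * 4 ^ (t + 1) ∧ sig (T * c) = 2 * 4 ^ (t + 1) ∧
      (sig (P * (slotEl s (rG hf v) * c)) = 2 * 4 ^ (t + 1) ∨ sig (P * (slotEl s (rG hf v) * c)) = 0) := by
    rcases hcl with ⟨⟨k, hk, e⟩, k', hk', e'⟩ | ⟨⟨k, hk, e⟩, k', hk', e'⟩ <;>
      rw [← e, ← e', sig_conj, sig_conj, hconjP k hk]
    · exact ⟨C.ctx.sig_refl s hv, hTsig, Or.inl hPt⟩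
    · exact ⟨hTsig, C.ctx.sig_refl s hv, Or.inr hPT⟩
  refine hgS (hT ▸ ?_)
  rcases C.comm_step hv hcM hc2 hc1 hct hsig.1 with ⟨w, hw, hce⟩ | ⟨m, x, hms, hx, hce⟩
  · exact C.tw_of_comm_half hw ((memH T).mp hTH).1 (hce ▸ hcT.symm)
  have htc : slotEl s (rG hf v) * c = slotEl m (rG hf x) := by rw [hce, slot_cancel (slot_refl_sq hf s v)]
  have hmH : slotEl m (rG hf x) * P = P * slotEl m (rG hf x) := htc ▸ ((memH _).mp (H.mul_mem ht0 hcH)).2
  by_cases hml : m = l
  · subst hml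
    have hxa : rG hf x * rG hf a = rG hf a * rG hf x := Ctx4.comm_component C.ctx hsl.symm
      (show slotEl m (rG hf x) * (slotEl m (rG hf a) * slotEl s (rG hf v)) =
        slotEl m (rG hf a) * slotEl s (rG hf v) * slotEl m (rG hf x) by rwa [← hvl, ← hP])
    rcases rG_comm hf C.ctx.two hx ha hxa with h | h
    · obtain ⟨w, hw, -, -, hwe⟩ := exists_frame_end hf C.ctx.two hx ha (by rwa [hf.symm])
      refine C.tw_of_comm_half (s := m) hw ((memH T).mp hTH).1 ?_
      have e : slotEl m (half hf w) = c * P := by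
        rw [hwe, ← slotEl_mul, hce, hP, slotEl_commute hsl (rG hf v) (rG hf x), mul_assoc,
          slot_cancel (slot_refl_sq hf s v)]
      rw [e, ← mul_assoc, ← hcT, mul_assoc, ((memH T).mp hTH).2, mul_assoc]
    · exfalso
      have hcP : c = P := by rw [hce, hP, h]
      have h0 := hsig.2.1
      rw [hcP, ((memH T).mp hTH).2, hPT, pow_succ] at h0
      linarith
  · exfalso
    have h3 : 4 * sig (P * slotEl m (rG hf x)) = 8 * 4 ^ t := by
      obtain ⟨w₁, hw₁, -, he₁⟩ := C.ctx.exists_refl_eig hv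
      obtain ⟨w₂, hw₂, -, he₂⟩ := C.ctx.exists_refl_eig ha
      obtain ⟨w₃, hw₃, -, he₃⟩ := C.ctx.exists_refl_eig hx
      rw [hP, C.ctx.sig_three hsl (Ne.symm hms) (Ne.symm hml) hw₁ he₁ hw₂ he₂ hw₃ he₃]
      simp [Fin.sum_univ_four]
    have h4 := hsig.2.2
    rw [htc] at h4
    rw [pow_succ] at h4
    rcases h4 with h4 | h4 <;> rw [h4] at h3 <;> linarith

/-- An involution commuting with two reflections which it distinguishes. -/
theorem tw_of_comm_split {s l : Fin (t + 2)} {v x : Fin 4 → F} (hv : f v v ≠ 0) (hx : f x x ≠ 0)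
    {c : GL (Idx (t + 2) 4) F} (hcv : c * slotEl s (rG C.ctx.sym v) = slotEl s (rG C.ctx.sym v) * c)
    (hcx : c * slotEl l (rG C.ctx.sym x) = slotEl l (rG C.ctx.sym x) * c)
    (hsig : sig (slotEl s (rG C.ctx.sym v) * c) ≠ sig (slotEl l (rG C.ctx.sym x) * c))
    {g : GL (Idx (t + 2) 4) F} (hg : g ∈ M) (hgc : g * c = c * g) : IsTW g := by
  have hf := C.ctx.sym
  obtain ⟨H, hHd⟩ : ∃ H : Subgroup (GL (Idx (t + 2) 4) F), H = M ⊓ Subgroup.centralizer {c} := ⟨_, rfl⟩
  have memH : ∀ y, y ∈ H ↔ y ∈ M ∧ y * c = c * y := fun y => by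
    rw [hHd, Subgroup.mem_inf, Subgroup.mem_centralizer_singleton_iff]
  have ht0 : slotEl s (rG hf v) ∈ H := (memH _).mpr ⟨C.refl_mem s hv, hcv.symm⟩
  have hgH : g ∈ H := (memH g).mpr ⟨hg, hgc⟩
  obtain ⟨T, hT⟩ : ∃ T, T = g * slotEl l (rG hf x) * g⁻¹ := ⟨_, rfl⟩
  have hTH : T ∈ H := hT ▸ H.mul_mem (H.mul_mem hgH ((memH _).mpr ⟨C.refl_mem l hx, hcx.symm⟩)) (H.inv_mem hgH)
  have hconj : ∀ k ∈ H, ∀ y, sig (k * y * k⁻¹ * c) = sig (y * c) := fun k hk y => by
    have hk' : Commute k c := ((memH k).mp hk).2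
    rw [mul_assoc (k * y) k⁻¹ c, hk'.inv_left.eq, ← mul_assoc, mul_assoc k y c, sig_conj]
  have hne : ∀ k ∈ H, k * slotEl s (rG hf v) * k⁻¹ ≠ T := fun k hk h => hsig (by
    rw [← hconj k hk (slotEl s (rG hf v)), h, hT, hconj g hgH])
  obtain ⟨d, hdH, hd2, hd1, hdt, hdT, hdl⟩ := exists_central ht0 hTH (slot_refl_sq hf s v)
    (by rw [hT, conj_mul, slot_refl_sq hf, mul_one, mul_inv_cancel]) hne
  have hds : sig (slotEl s (rG hf v) * d) = 2 * 4 ^ (t + 1) := by
    rcases hdl with ⟨⟨k, hk, e⟩, -⟩ | ⟨⟨k, hk, e⟩, -⟩ <;> rw [← e, sig_conj]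
    · exact C.ctx.sig_refl s hv
    · rw [hT, sig_conj, C.ctx.sig_refl l hx]
  refine C.tw_of_conj_refl (s := l) hx hg ?_
  rw [← hT]
  rcases C.comm_step hv ((memH d).mp hdH).1 hd2 hd1 hdt hds with ⟨w, hw, hde⟩ | ⟨m, y, hms, hy, hde⟩
  · exact C.tw_of_comm_half hw ((memH T).mp hTH).1 (hde ▸ hdT.symm)
  · exact C.tw_of_comm_pair (Ne.symm hms) hv hy ((memH T).mp hTH).1 (hde ▸ hdT.symm)

/-- The centraliser of a product of a pair of reflections and a reflection of the first slot. -/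
theorem tw_of_comm_pair_refl {s l : Fin (t + 2)} (hsl : s ≠ l) {v a x : Fin 4 → F} (hv : f v v ≠ 0) (ha : f a a ≠ 0)
    (hx : f x x ≠ 0) (hxv : rG C.ctx.sym x * rG C.ctx.sym v = rG C.ctx.sym v * rG C.ctx.sym x)
    {g : GL (Idx (t + 2) 4) F} (hg : g ∈ M)
    (hc : g * (slotEl s (rG C.ctx.sym v) * slotEl l (rG C.ctx.sym a) * slotEl s (rG C.ctx.sym x)) =
      slotEl s (rG C.ctx.sym v) * slotEl l (rG C.ctx.sym a) * slotEl s (rG C.ctx.sym x) * g) : IsTW g := by
  have hf := C.ctx.sym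
  have e0 : slotEl s (rG hf v) * slotEl l (rG hf a) * slotEl s (rG hf x) =
      slotEl s (rG hf v * rG hf x) * slotEl l (rG hf a) := by
    rw [mul_assoc, slotEl_commute hsl.symm, ← mul_assoc, slotEl_mul]
  rw [e0] at hc
  rcases rG_comm hf C.ctx.two hx hv hxv with h | h
  · refine C.tw_of_comm_split (s := s) (l := l) hv ha ?_ ?_ ?_ hg hc
    · have hX : rG hf v * rG hf x * rG hf v = rG hf v * (rG hf v * rG hf x) := by rw [mul_assoc, hxv]
      rw [mul_assoc, ← slotEl_commute hsl, ← mul_assoc, slotEl_mul, hX, ← slotEl_mul, mul_assoc]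
    · rw [mul_assoc, slotEl_mul, rG_mul_self, slot_one, mul_one, ← mul_assoc, ← slotEl_commute hsl, mul_assoc,
        slotEl_mul, rG_mul_self, slot_one, mul_one]
    · have e1 : slotEl s (rG hf v) * (slotEl s (rG hf v * rG hf x) * slotEl l (rG hf a)) =
          slotEl s (rG hf x) * slotEl l (rG hf a) := by
        rw [← mul_assoc, slotEl_mul, ← mul_assoc, rG_mul_self, one_mul]
      have e2 : slotEl l (rG hf a) * (slotEl s (rG hf v * rG hf x) * slotEl l (rG hf a)) =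
          slotEl s (rG hf v * rG hf x) := by
        rw [← mul_assoc, ← slotEl_commute hsl, mul_assoc, slot_refl_sq hf, mul_one]
      rw [e1, e2, C.ctx.sig_pair hsl hx ha, C.ctx.sig_half s hv hx h]
      positivity
  · refine C.ctx.tw_of_comm_refl (s := l) ha hg ?_
    rwa [h, rG_mul_self, slot_one, one_mul] at hc

/-- An involution whose product with a pair of reflections is a reflection. -/
theorem tw_of_comm_prod {s l : Fin (t + 2)} (hsl : s ≠ l) {v a : Fin 4 → F} (hv : f v v ≠ 0) (ha : f a a ≠ 0)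
    {m : Fin (t + 2)} {x : Fin 4 → F} (hx : f x x ≠ 0)
    (hcomm : slotEl m (rG C.ctx.sym x) * (slotEl s (rG C.ctx.sym v) * slotEl l (rG C.ctx.sym a)) =
      slotEl s (rG C.ctx.sym v) * slotEl l (rG C.ctx.sym a) * slotEl m (rG C.ctx.sym x))
    {g : GL (Idx (t + 2) 4) F} (hg : g ∈ M)
    (hc : g * (slotEl s (rG C.ctx.sym v) * slotEl l (rG C.ctx.sym a) * slotEl m (rG C.ctx.sym x)) =
      slotEl s (rG C.ctx.sym v) * slotEl l (rG C.ctx.sym a) * slotEl m (rG C.ctx.sym x) * g) : IsTW g := by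
  have hf := C.ctx.sym
  by_cases hms : m = s
  · subst hms
    exact C.tw_of_comm_pair_refl hsl hv ha hx (Ctx4.comm_component C.ctx hsl hcomm) hg hc
  by_cases hml : m = l
  · subst hml
    rw [slotEl_commute hsl] at hc hcomm
    exact C.tw_of_comm_pair_refl hsl.symm ha hv hx (Ctx4.comm_component C.ctx hsl.symm hcomm) hg hc
  -- three slots
  obtain ⟨u, hu, hu0⟩ := exists_extend_one hf C.ctx.two hv
  have hu1 := hu.aniso 1
  have huv : f v (u 1) = 0 := hu0 ▸ hu.orth 0 1 (by decide)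
  have euv : rG hf (u 1) * rG hf v = rG hf v * rG hf (u 1) := hu0 ▸ hu.eig_comm hf (hu.eig_rG hf 1) (hu.eig_rG hf 0)
  obtain ⟨c, hce⟩ : ∃ c, c = slotEl s (rG hf v) * slotEl l (rG hf a) * slotEl m (rG hf x) := ⟨_, rfl⟩
  have hcs : ∀ X : GL (Fin 4) F, X * rG hf v = rG hf v * X → slotEl s X * c = c * slotEl s X := fun X hX => by
    have c1 : Commute (slotEl s X) (slotEl s (rG hf v)) := (slotEl_comm_iff s).mpr hX
    exact hce ▸ ((c1.mul_right (slotEl_commute hsl X _)).mul_right (slotEl_commute (Ne.symm hms) X _)).eq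
  rw [← hce] at hc
  refine C.tw_of_comm_split (s := s) (l := s) hv hu1 (hcs _ rfl).symm (hcs _ euv).symm ?_ hg hc
  have e1 : slotEl s (rG hf v) * c = slotEl l (rG hf a) * slotEl m (rG hf x) := by
    rw [hce, mul_assoc, slot_cancel (slot_refl_sq hf s v)]
  have e2 : slotEl s (rG hf (u 1)) * c = slotEl s (rG hf (u 1) * rG hf v) * slotEl l (rG hf a) * slotEl m (rG hf x) := by
    rw [hce, ← mul_assoc, ← mul_assoc, slotEl_mul]
  obtain ⟨w, hw, -, -, hwe⟩ := exists_frame_end hf C.ctx.two hu1 hv (by rwa [hf.symm])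
  obtain ⟨w₂, hw₂, -, he₂⟩ := C.ctx.exists_refl_eig ha
  obtain ⟨w₃, hw₃, -, he₃⟩ := C.ctx.exists_refl_eig hx
  have h0 := C.ctx.sig_three hsl (Ne.symm hms) (Ne.symm hml) hw (half_eig hf hw) hw₂ he₂ hw₃ he₃
  rw [hwe] at h0
  rw [e1, e2, C.ctx.sig_pair (Ne.symm hml) ha hx]
  intro h
  rw [← h] at h0
  simp [Fin.sum_univ_four] at h0

/-- One step: an element, or the image of a pair of reflections, is a tensor wreath element. -/
theorem top_step {g : GL (Idx (t + 2) 4) F} (hg : g ∈ M) {s l : Fin (t + 2)} (hsl : s ≠ l) {v a : Fin 4 → F}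
    (hv : f v v ≠ 0) (ha : f a a ≠ 0) :
    IsTW g ∨ IsTW (g * (slotEl s (rG C.ctx.sym v) * slotEl l (rG C.ctx.sym a)) * g⁻¹) := by
  have hf := C.ctx.sym
  obtain ⟨P, hP⟩ : ∃ P, P = slotEl s (rG hf v) * slotEl l (rG hf a) := ⟨_, rfl⟩
  rw [← hP]
  have hPM : P ∈ M := hP ▸ M.mul_mem (C.refl_mem s hv) (C.refl_mem l ha)
  have hP2 : P * P = 1 := hP ▸ C.refl_invol hsl v a
  have hPs : sig P = 4 ^ (t + 1) := hP ▸ C.ctx.sig_pair hsl hv ha
  obtain ⟨T, hT⟩ : ∃ T, T = g * P * g⁻¹ := ⟨_, rfl⟩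
  rw [← hT]
  have hTM : T ∈ M := hT ▸ M.mul_mem (M.mul_mem hg hPM) (M.inv_mem hg)
  have hTs : sig T = 4 ^ (t + 1) := by rw [hT, sig_conj, hPs]
  have hpos : (0 : ℤ) < 4 ^ (t + 1) := by positivity
  obtain ⟨c, hcM, hc2, hc1, hct, hcT, hcl⟩ := exists_central (C.refl_mem s hv) hTM (slot_refl_sq hf s v)
    (by rw [hT, conj_mul, hP2, mul_one, mul_inv_cancel]) fun k _ h => by
      have := sig_conj (slotEl s (rG hf v)) k
      rw [h, hTs, C.ctx.sig_refl s hv] at this
      linarith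
  rcases hcl with ⟨⟨k, hk, e⟩, -⟩ | ⟨-, k', hk', e'⟩
  · right
    rcases C.comm_step hv hcM hc2 hc1 hct (by rw [← e, sig_conj, C.ctx.sig_refl s hv]) with
      ⟨w, hw, hce⟩ | ⟨m, x, hms, hx, hce⟩
    · exact C.tw_of_comm_half hw hTM (hce ▸ hcT.symm)
    · exact C.tw_of_comm_pair (Ne.symm hms) hv hx hTM (hce ▸ hcT.symm)
  · left
    obtain ⟨d, hd⟩ : ∃ d, d = g⁻¹ * c * g := ⟨_, rfl⟩
    have hdM : d ∈ M := hd ▸ M.mul_mem (M.mul_mem (M.inv_mem hg) hcM) hg
    have hdP : d * P = P * d := by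
      rw [show P = g⁻¹ * T * g by rw [hT]; group, hd]
      simp only [mul_assoc, mul_inv_cancel_left]
      rw [← mul_assoc c, hcT, mul_assoc]
    have hdtw : IsTW d := by subst hP; exact C.tw_of_comm_pair hsl hv ha hdM hdP
    have hd2 : d * d = 1 := by
      rw [hd, show g⁻¹ * c * g * (g⁻¹ * c * g) = g⁻¹ * (c * c) * g by group, hc2, mul_one, inv_mul_cancel]
    obtain ⟨m, x, hx, hmx⟩ := C.ctx.refl_of_sig (M.mul_mem hPM hdM) (isTW_mul
      (hP ▸ isTW_mul (slotEl_tw s _) (slotEl_tw l _)) hdtw) (invol_mul hP2 hd2 hdP.symm) (by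
        have e2 : P * d = g⁻¹ * (k' * slotEl s (rG hf v) * k'⁻¹) * g⁻¹⁻¹ := by rw [e', hd, hT]; group
        rw [e2, sig_conj, sig_conj, C.ctx.sig_refl s hv])
    have hde : d = P * slotEl m (rG hf x) := by rw [← hmx, slot_cancel hP2]
    have hcomm : slotEl m (rG hf x) * P = P * slotEl m (rG hf x) := by rw [← hmx, mul_assoc, hdP]
    have htwd : ∀ y ∈ M, y * d = d * y → IsTW y := fun y hy hyd => by
      subst hP
      exact C.tw_of_comm_prod hsl hv ha hx hcomm hy (hde ▸ hyd)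
    have h1 : IsTW (g⁻¹ * slotEl s (rG hf v) * g⁻¹⁻¹) := by
      refine htwd _ (M.mul_mem (M.mul_mem (M.inv_mem hg) (C.refl_mem s hv)) (by rw [inv_inv]; exact hg)) ?_
      rw [hd, inv_inv]
      simp only [mul_assoc, mul_inv_cancel_left]
      rw [← mul_assoc c, hct, mul_assoc]
    simpa using isTW_inv (C.tw_of_conj_refl hv (M.inv_mem hg) h1)

/-- All elements are tensor wreath elements. -/
theorem main {g : GL (Idx (t + 2) 4) F} (hg : g ∈ M) : IsTW g := by
  classical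
  have hf := C.ctx.sym
  have h2 := C.ctx.two
  by_contra hng
  obtain ⟨u, hu⟩ := exists_any_frame hf h2
  have hv := hu.aniso 0
  by_cases ht : t = 0
  · subst ht
    obtain ⟨e, w, he, hee, hew, hw, -, -⟩ := exists_root_perp hf h2 hv
    have hb : f (w + (f w w / 2) • e) (w + (f w w / 2) • e) ≠ 0 := by
      rw [sym_quad_add hf, sym_quad_smul hf, hf.bilinear.smul_right, hee, hf.symm w e, hew]
      simpa using hw
    refine hng (C.ctx.tw_of_conj_root hg he hee hew hw (l := 0) ?_)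
    have e1 : slotEl (0 : Fin 2) (eU hf h2 e w) = slotEl 0 (rG hf w) * slotEl 1 (rG hf (u 0)) *
        (slotEl 0 (rG hf (w + (f w w / 2) • e)) * slotEl 1 (rG hf (u 0))) := by
      rw [show slotEl (0 : Fin 2) (rG hf (w + (f w w / 2) • e)) * slotEl 1 (rG hf (u 0)) =
        slotEl 1 (rG hf (u 0)) * slotEl 0 (rG hf (w + (f w w / 2) • e)) from slotEl_commute (by decide) _ _,
        mul_assoc, slot_cancel (slot_refl_sq hf 1 (u 0)), slotEl_mul, eU_eq_rG hf h2 hee hew hw]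
    rw [e1, ← conj_mul]
    exact isTW_mul ((C.top_step hg (by decide) hw hv).resolve_left hng)
      ((C.top_step hg (by decide) hb hv).resolve_left hng)
  obtain ⟨t', ht'⟩ : ∃ t', t = t' + 1 := ⟨t - 1, by omega⟩
  have hsl : (0 : Fin (t + 2)) ≠ 1 := by simp [Fin.ext_iff]
  obtain ⟨P, hP⟩ : ∃ P, P = slotEl (0 : Fin (t + 2)) (rG hf (u 0)) * slotEl 1 (rG hf (u 0)) := ⟨_, rfl⟩
  obtain ⟨T, hT⟩ : ∃ T, T = g * P * g⁻¹ := ⟨_, rfl⟩
  have hTtw : IsTW T := hT ▸ hP ▸ (C.top_step hg hsl hv hv).resolve_left hng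
  have hTM : T ∈ M := hT ▸ M.mul_mem (M.mul_mem hg (hP ▸ M.mul_mem (C.refl_mem _ hv) (C.refl_mem _ hv))) (M.inv_mem hg)
  have hT2 : T * T = 1 := by rw [hT, hP, conj_mul, C.refl_invol hsl, mul_one, mul_inv_cancel]
  have hTs : sig T = 4 ^ (t + 1) := by rw [hT, hP, sig_conj, C.ctx.sig_pair hsl hv hv]
  have hpos : (0 : ℤ) < 4 ^ (t + 1) := by positivity
  obtain ⟨σ, gs, hd⟩ := hTtw
  obtain ⟨l, hl⟩ : ∃ l, σ l = l := by
    by_contra hno
    push Not at hno
    obtain ⟨q, hq1, hq2⟩ : ∃ q, q ≠ (0 : Fin (t + 2)) ∧ q ≠ σ 0 := by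
      by_contra h
      push Not at h
      have hsub : (Finset.univ : Finset (Fin (t + 2))) ⊆ {0, σ 0} := fun q _ => by
        rw [Finset.mem_insert, Finset.mem_singleton]
        by_cases h0 : q = 0
        exacts [Or.inl h0, Or.inr (h q h0)]
      have := Finset.card_le_card hsub
      rw [Finset.card_univ, Fintype.card_fin] at this
      have := this.trans Finset.card_le_two
      omega
    have h := (sig_perm_le hd hT2 h2 (hno 0)).2 q (hno q) hq1 fun h => hq2 (by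
      have := congrArg σ h
      rw [(invol_struct hd hT2).1] at this
      exact this)
    rw [card_idx, hTs, abs_of_pos hpos, pow_succ _ (t + 1)] at h
    linarith
  obtain ⟨ν, hν0, hν⟩ := (invol_struct hd hT2).2 l
  rw [hl] at hν
  obtain ⟨a, ha⟩ : IsSquare ν := by
    by_contra hns
    rw [sig_eq_zero_of_nonsq hd hT2 h2 hl hns hν] at hTs
    linarith
  have ha0 : a ≠ 0 := fun h => hν0 (by rw [ha, h, mul_zero])
  obtain ⟨B, hB⟩ := exists_smul_gl (gs l) (inv_ne_zero ha0)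
  have hB2 : B * B = 1 := Units.ext (by
    rw [Units.val_mul, hB, smul_mul_smul_comm, hν, ha, smul_smul, Units.val_one,
      show a⁻¹ * a⁻¹ * (a * a) = 1 by field_simp, one_smul])
  obtain ⟨μ, -, hμ⟩ := OPow.sim_of_tw hf h2 (by norm_num) hd (C.ctx.iso T hTM) l
  have hBi : B ∈ isoF f := isoF_of_invol hf h2 C.ctx.noline (μ := a⁻¹ * a⁻¹ * μ) (fun x y => by
    rw [hB, smul_mulVec, smul_mulVec, hf.bilinear.smul_left, hf.bilinear.smul_right, hμ]; ring) hB2
  obtain ⟨w, hw, hwB⟩ := exists_frame hf h2 [B] (fun B' hB' => by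
    rw [List.mem_singleton.mp hB']; exact ⟨hBi, hB2⟩) (fun B' hB' B'' hB'' => by
    rw [List.mem_singleton.mp hB', List.mem_singleton.mp hB''])
  obtain ⟨ss, hss⟩ := hwB B List.mem_cons_self
  have hcomm : gs l * rG hf (w 0) = rG hf (w 0) * gs l := by
    have h := hw.eig_comm hf hss (hw.eig_rG hf 0)
    refine Units.ext ?_
    have h' := congrArg Units.val h
    rw [Units.val_mul, Units.val_mul, hB, Matrix.smul_mul, Matrix.mul_smul] at h'
    rw [Units.val_mul, Units.val_mul]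
    have h'' := congrArg (fun X => a • X) h'
    simpa [smul_smul, ha0] using h''
  obtain ⟨d, hdd⟩ : ∃ d, d = slotEl l (rG hf (w 0)) := ⟨_, rfl⟩
  have hTd : T * d = d * T := by
    have h := hd.conj_slotEl l (rG hf (w 0))
    rw [hl, hcomm, mul_inv_cancel_right, ← hdd] at h
    conv_rhs => rw [← h, inv_mul_cancel_right]
  have h1 : IsTW (g⁻¹ * slotEl l (rG hf (w 0)) * g⁻¹⁻¹) := by
    rw [inv_inv]
    refine C.tw_of_comm_pair hsl hv hv (M.mul_mem (M.mul_mem (M.inv_mem hg) (C.refl_mem l (hw.aniso 0))) hg) ?_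
    rw [← hP, ← hdd, show P = g⁻¹ * T * g by rw [hT]; group]
    simp only [mul_assoc, mul_inv_cancel_left]
    rw [← mul_assoc d, ← hTd, mul_assoc]
  exact hng (by simpa using isTW_inv (C.tw_of_conj_refl (hw.aniso 0) (M.inv_mem hg) h1))

end MCtx

end CfsgLib.Classical22.OFour
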