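/-
The dichotomy for tensor powers of at least three slots of dimension four of minus type.
-/
import Cfsg.Agent.Lib.Classical22.OrthFour.FlagsPerm
import Cfsg.Agent.Lib.Classical22.OrthFour.MTop
import Cfsg.Agent.Lib.Classical22.OrthPower.Dich

set_option autoImplicit false
set_option linter.unusedSectionVars false
set_option linter.unusedSimpArgs false

namespace CfsgLib.Classical22.OFour

open Matrix CfsgLib.Transvec CfsgLib.Classical22.TensorMax CfsgLib.Classical22.TensorMax.SympO
open CfsgLib.Classical22.TensorMax.SpO (sym_outer sym_zero_left)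
open CfsgLib.Classical22.TWMax (Idx pv emb emb_one emb_mulVec_pv slotEl slotEl_val slotEl_mul slotEl_data TWData
  IsTW slotW pv_mem_slotW slotW_le gim mem_gim gim_mul)
open CfsgLib.Classical22.OPow (PIso isoF rG rG_iso rG_mul_self eG eG_mul bil Big)
open scoped MatrixGroups

variable {F : Type*} [Field F] {f : (Fin 4 → F) → (Fin 4 → F) → F} {t : ℕ}

/-- A scalar multiple gives the same slot subspace. -/
lemma slotW_smul (s : Fin (t + 1)) {c : F} (hc : c ≠ 0) {e : Fin 4 → F} (he : e ≠ 0) :
    slotW s (c • e) = slotW s e := by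
  refine TWMax.slotW_eq_of_le (smul_ne_zero hc he) he (slotW_le fun xs hxs => ?_)
  have h : pv xs = c • pv (Function.update xs s e) := by
    rw [← OPow.pv_smul, ← hxs, Function.update_eq_self]
  rw [h]
  refine Submodule.smul_mem _ _ ?_
  simpa using pv_mem_slotW s (Function.update xs s e)

variable [Fintype F] {M : Subgroup (GL (Idx (t + 2) 4) F)}

/-- Every slot isometry is in a group of the setting. -/
theorem slot_mem4 (C : OPow.Ctx f M) (s : Fin (t + 2)) {A : GL (Fin 4) F} (hA : A ∈ isoF f) : slotEl s A ∈ M := by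
  have hf := C.sym
  have h2 := C.two
  have hev : Even 4 := by decide
  obtain ⟨H, hH⟩ : ∃ H : Subgroup (GL (Fin 4) F), ∀ B, B ∈ H ↔ slotEl s B ∈ M :=
    ⟨M.comap { toFun := slotEl s, map_one' := slot_one s, map_mul' := fun x y => (slotEl_mul s x y).symm },
      fun B => Iff.rfl⟩
  have hneg : (-1 : GL (Fin 4) F) ∈ H := by
    refine isoF_one_le_of_pairs hf h2 (fun v w hv hw => ?_) (fun x y => ?_) ?_
    · rw [← eG_mul hf, hH, ← slotEl_mul]
      exact M.mul_mem (C.refl hev s v hv) (C.refl hev s w hw)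
    · rw [Units.val_neg, Units.val_one, neg_mulVec, neg_mulVec, one_mulVec, one_mulVec, SpO.sym_neg_left hf,
        OO.sym_neg_right hf, neg_neg]
    · rw [Units.val_neg, Units.val_one, det_neg, det_one, Fintype.card_fin]; norm_num
  refine (hH A).mp (isoF_le_of_refl hf h2 (fun v hv => ?_) hA)
  have h := H.mul_mem hneg ((hH _).mpr (C.refl hev s v hv))
  rwa [eG, neg_one_mul, neg_neg] at h

/-- A group of the setting with the flag property is one of the engine. -/
theorem mctx_of_flags (C : OPow.Ctx f M) (hn : NoLine f) (hflag : OPow.Flags C) : MCtx f M := by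
  classical
  have hf := C.sym
  have h2 := C.two
  have hfr : ∀ e : Fin 4 → F, e ≠ 0 → f e e = 0 → ∃ e' c, OPow.Fr C e e' c := fun e he hee => by
    obtain ⟨e', he', hee', -⟩ := OO.exists_partner_sym hf h2 he hee
    exact ⟨e', C.exists_fr hee he' hee'⟩
  refine ⟨⟨hf, h2, hn, C.iso, fun s A hA _ => slot_mem4 C s hA, ?_, ?_⟩,
    fun _ s v hv => slot_mem4 C s (rG_iso hf v)⟩
  · intro g hg s e he hee hgim
    obtain ⟨e', c, H⟩ := hfr e he hee
    refine hflag e e' c H s g hg (TWMax.mat_ext_pv fun xs => ?_)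
    have hfix : ∀ w ∈ slotW s e, H.pe s *ᵥ w = w := by
      have hle : slotW s e ≤ LinearMap.ker (Matrix.mulVecLin (H.pe s) - LinearMap.id) := slotW_le fun ys hys => by
        rw [LinearMap.mem_ker, LinearMap.sub_apply, LinearMap.id_apply, Matrix.mulVecLin_apply, sub_eq_zero,
          OPow.Fr.pe, emb_mulVec_pv, sym_outer hf, hys, H.pair, one_smul, ← hys, Function.update_eq_self]
      intro w hw
      have := hle hw
      rwa [LinearMap.mem_ker, LinearMap.sub_apply, LinearMap.id_apply, Matrix.mulVecLin_apply, sub_eq_zero] at this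
    have hpe : H.pe s *ᵥ pv xs ∈ slotW s e := by
      rw [OPow.Fr.pe, emb_mulVec_pv, sym_outer hf, OPow.pv_smul]
      exact Submodule.smul_mem _ _ (by simpa using pv_mem_slotW s (Function.update xs s e))
    rw [← mulVec_mulVec, ← mulVec_mulVec, ← mulVec_mulVec]
    exact (hfix _ (hgim ▸ mem_gim.mpr ⟨_, hpe, rfl⟩)).symm
  · intro i l z e hz hzz he hee
    obtain ⟨g, hg, gs, hgs, hd⟩ := C.perm (Equiv.swap i l) (Or.inr (Or.inl rfl))
    obtain ⟨e', c, H⟩ := hfr e he hee
    have hy0 : (gs l).val *ᵥ z ≠ 0 := mulVec_ne_zero _ hz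
    obtain ⟨A, -, hAM, α, hAy⟩ := H.exists_move l (z := (gs l).val *ᵥ z) (by rw [hgs l, hzz]) hy0
    have hα : α ≠ 0 := fun h0 => mulVec_ne_zero A hy0 (by rw [hAy, h0, zero_smul])
    refine ⟨slotEl l A * g, M.mul_mem hAM hg, OPow.isTW_mul (slotEl_tw l A) ⟨_, _, hd⟩, ?_⟩
    have h1 := hd.gim_slotW l hz
    rw [Equiv.swap_apply_right] at h1
    have h3 := (slotEl_data l A).gim_slotW l hy0
    rw [Equiv.Perm.one_apply, Function.update_self] at h3
    rw [gim_mul, h1, h3, hAy, slotW_smul l hα he]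

/-- Tensor wreath elements or a big group, for slots of dimension four of minus type. -/
theorem four_pow_dich (hn : NoLine f) :
    ∀ (t : ℕ) (M : Subgroup (GL (Idx (t + 1) 4) F)), OPow.Ctx f M → (∀ g ∈ M, IsTW g) ∨ Big f M := by
  intro t
  induction t with
  | zero => exact fun M C => Or.inl fun g hg => OPow.tw_one C hg
  | succ t ih =>
    intro M C
    by_cases hbig : Big f M
    · exact Or.inr hbig
    · exact Or.inl fun g hg => MCtx.main
        (mctx_of_flags C hn fun e e' c H s y hy hs => H.flag hbig (fun _ => ih _ H.ctx_Ms) hy hs) hg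

section Top
variable (hf : Cfsg.Geo.IsSymmetricForm f) (h2 : (2 : F) ≠ 0) (hn : NoLine f)
  {Q : QuadraticForm F (Idx (t + 2) 4 → F)} (hpol : ∀ x y, QuadraticMap.polar Q x y = bil f x y)
  (hM : M ≤ Cfsg.Geo.omegaGL ⇑Q) (hS : ∀ g ∈ Cfsg.Geo.omegaGL ⇑Q, IsTW g → g ∈ M)
include hf h2 hn hpol hM hS

/-- The setting, for at least three slots. -/
theorem ctx_four (ht : 1 ≤ t) : OPow.Ctx f M := by
  have hev : Even 4 := by decide
  have hr : ∀ (s : Fin (t + 2)) v, f v v ≠ 0 → slotEl s (eG hf v) ∈ M := fun s v hv =>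
    hS _ (OPow.refl_omega hf h2 (by norm_num) hev hpol ht s hv).2 (slotEl_tw s _)
  have hall : ∀ (s : Fin (t + 2)), ∀ A ∈ isoF f, slotEl s A ∈ M := fun s A hA => by
    obtain ⟨H, hH⟩ : ∃ H : Subgroup (GL (Fin 4) F), ∀ B, B ∈ H ↔ slotEl s B ∈ M :=
      ⟨M.comap { toFun := slotEl s, map_one' := slot_one s, map_mul' := fun x y => (slotEl_mul s x y).symm },
        fun B => Iff.rfl⟩
    exact (hH A).mp (isoF_le_of_refl hf h2 (fun v hv => (hH _).mpr
      (hS _ (OPow.refl_omega hf h2 (by norm_num) hev hpol ht s hv).1 (slotEl_tw s _))) hA)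
  exact
    { sym := hf
      two := h2
      dim := by norm_num
      four := fun _ => hn
      small := fun h => absurd h (by norm_num)
      iso := fun g hg => OPow.omega_piso hf h2 (by norm_num) hpol (hM hg)
      sq := fun s B hB => hall s B (OPow.isoSq_le hB)
      pair := fun v s l hv _ => M.mul_mem (hr s v hv) (hr l v hv)
      perm := fun σ _ => ⟨_, hS _ (perm4_omega hf h2 hn hpol ht σ) ⟨σ, _, twData_perm σ⟩, fun _ => 1,
        fun _ => one_mem _, twData_perm σ⟩
      sim := fun _ s l A μ hsl hA => hS _ (OPow.sim_omega hf h2 (by norm_num) hpol ht hsl hA)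
        ⟨_, _, (slotEl_data s A).mul (slotEl_data l A⁻¹)⟩
      refl := fun _ s v hv => hr s v hv
      adm := ⟨1, one_ne_zero, fun s v hv _ => hr s v hv⟩ }

/-- A group above the stabiliser consists of tensor wreath elements or is Omega, for at least three slots. -/
theorem four_dich_ge (ht : 1 ≤ t) : (∀ g ∈ M, IsTW g) ∨ Cfsg.Geo.omegaGL ⇑Q ≤ M := by
  have C := ctx_four hf h2 hn hpol hM hS ht
  exact (four_pow_dich hn (t + 1) M C).imp id (OPow.omega_le_of_big hf h2 (by norm_num) hpol C)

end Top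

end CfsgLib.Classical22.OFour
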