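/-
Vectors of two slots, common eigenvectors of a half turn and a pair, and roots moving a vector.
-/
import Cfsg.Agent.Lib.Classical22.OrthFour.Two

set_option autoImplicit false
set_option linter.unusedSectionVars false
set_option linter.unusedSimpArgs false

namespace CfsgLib.Classical22.OFour

open Matrix CfsgLib.Transvec CfsgLib.Classical22.TensorMax CfsgLib.Classical22.TensorMax.SympO
open CfsgLib.Classical22.TensorMax.SpO (sym_zero_left sym_zero_right sym_quad_add sym_quad_smul NdSub mem_perpIn)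
open CfsgLib.Classical22.TWMax (Idx pv slotEl slotEl_mul slotEl_data TWData IsTW gim mem_gim slotW slotW_le)
open CfsgLib.Classical22.OPow (bil bil_pv rG rG_apply eU isoF)
open scoped MatrixGroups

variable {F : Type*} [Field F] {f : (Fin 4 → F) → (Fin 4 → F) → F}

/-- The pure vector with factor `x` in slot `s` and `y` in the other. -/
def pt2 (s : Fin 2) (x y : Fin 4 → F) : Idx 2 4 → F := pv fun i => if i = s then x else y

lemma pt2_apply (s : Fin 2) (x y : Fin 4 → F) (q : Idx 2 4) :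
    pt2 s x y q = x (q s) * y (q (1 - s)) := by
  rcases (show s = 0 ∨ s = 1 by fin_cases s <;> simp) with rfl | rfl <;>
    simp [pt2, pv, Fin.prod_univ_two, mul_comm]

lemma pt2_add_left (s : Fin 2) (x x' y : Fin 4 → F) : pt2 s (x + x') y = pt2 s x y + pt2 s x' y :=
  funext fun q => by simp [pt2_apply, add_mul]

lemma pt2_add_right (s : Fin 2) (x y y' : Fin 4 → F) : pt2 s x (y + y') = pt2 s x y + pt2 s x y' :=
  funext fun q => by simp [pt2_apply, mul_add]

lemma pt2_smul_left (s : Fin 2) (c : F) (x y : Fin 4 → F) : pt2 s (c • x) y = c • pt2 s x y :=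
  funext fun q => by simp [pt2_apply, mul_assoc]

lemma pt2_smul_right (s : Fin 2) (c : F) (x y : Fin 4 → F) : pt2 s x (c • y) = c • pt2 s x y :=
  funext fun q => by simp [pt2_apply]; ring

lemma pt2_zero_right (s : Fin 2) (x : Fin 4 → F) : pt2 s x 0 = 0 := funext fun q => by simp [pt2_apply]

lemma pt2_neg_left (s : Fin 2) (x y : Fin 4 → F) : pt2 s (-x) y = -pt2 s x y :=
  funext fun q => by simp [pt2_apply]

lemma pt2_sub_right (s : Fin 2) (x y y' : Fin 4 → F) : pt2 s x (y - y') = pt2 s x y - pt2 s x y' :=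
  funext fun q => by simp [pt2_apply, mul_sub]

lemma slot_pt2 (s : Fin 2) (A : GL (Fin 4) F) (x y : Fin 4 → F) :
    (slotEl s A).val *ᵥ pt2 s x y = pt2 s (A.val *ᵥ x) y := by
  rw [pt2, TWMax.slotEl_apply, pt2]
  congr 1
  funext i
  by_cases hi : i = s
  · subst hi; simp
  · simp [hi]

lemma slot_pt2' {s l : Fin 2} (hsl : s ≠ l) (A : GL (Fin 4) F) (x y : Fin 4 → F) :
    (slotEl l A).val *ᵥ pt2 s x y = pt2 s x (A.val *ᵥ y) := by
  rw [pt2, TWMax.slotEl_apply, pt2]
  congr 1
  funext i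
  by_cases hi : i = l
  · subst hi; simp [hsl.symm]
  · obtain rfl : i = s := by omega
    simp [hsl]

variable (hf : Cfsg.Geo.IsSymmetricForm f)
include hf

lemma bil_pt2 (s : Fin 2) (x y x' y' : Fin 4 → F) : bil f (pt2 s x y) (pt2 s x' y') = f x x' * f y y' := by
  rw [pt2, pt2, bil_pv hf, Fin.prod_univ_two]
  rcases (show s = 0 ∨ s = 1 by fin_cases s <;> simp) with rfl | rfl <;> simp [mul_comm]

/-- The expansion along a frame in one slot. -/
lemma exists_expand (s : Fin 2) {u : Fin 4 → Fin 4 → F} (hu : Frame f u) (x : Idx 2 4 → F) :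
    ∃ w : Fin 4 → Fin 4 → F, x = ∑ i, pt2 s (u i) (w i) := by
  classical
  refine OPow.pv_induction (G := Set.univ) (fun y => ⟨y, trivial, 0, trivial, 0, trivial, by simp⟩)
    (P := fun z => ∃ w : Fin 4 → Fin 4 → F, z = ∑ i, pt2 s (u i) (w i)) ⟨0, by simp [pt2_zero_right]⟩
    ?_ ?_ (fun xs _ => ?_) x
  · rintro _ _ ⟨w, rfl⟩ ⟨w', rfl⟩
    exact ⟨w + w', by simp [pt2_add_right, Finset.sum_add_distrib]⟩
  · rintro c _ ⟨w, rfl⟩
    exact ⟨c • w, by simp [pt2_smul_right, Finset.smul_sum]⟩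
  · refine ⟨fun i => (f (xs s) (u i) / f (u i) (u i)) • xs (1 - s), ?_⟩
    have e : pv xs = pt2 s (xs s) (xs (1 - s)) := by
      rw [pt2]
      congr 1
      funext i
      by_cases hi : i = s
      · simp [hi]
      · rw [if_neg hi, show i = 1 - s by omega]
    rw [e]
    conv_lhs => rw [OO.eq_sum_of_orth hf u hu.orth hu.aniso (xs s)]
    simp only [pt2_smul_right, ← pt2_smul_left, Fin.sum_univ_four, pt2_add_left]

/-- Vectors negated by a half turn and fixed by a pair of reflections at its negated plane. -/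
theorem eigvec [Fintype F] (h2 : (2 : F) ≠ 0) {s l : Fin 2} (hsl : s ≠ l) {u : Fin 4 → Fin 4 → F} (hu : Frame f u) {a : Fin 4 → F}
    (ha : f a a ≠ 0) {x : Idx 2 4 → F} (hz : (slotEl s (half hf u)).val *ᵥ x = -x)
    (hP : (slotEl s (rG hf (u 2)) * slotEl l (rG hf a)).val *ᵥ x = x) :
    ∃ (α : F) (w : Fin 4 → F), f w a = 0 ∧ x = α • pt2 s (u 2) a + pt2 s (u 3) w := by
  obtain ⟨w, hw⟩ := exists_expand hf s hu x
  have hH := half_eig hf hu
  rw [Fin.sum_univ_four] at hw
  have h01 : x = pt2 s (u 2) (w 2) + pt2 s (u 3) (w 3) := by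
    rw [hw] at hz ⊢
    simp only [mulVec_add, slot_pt2, hH.act, pt2_smul_left] at hz
    simp only [Matrix.cons_val, Matrix.cons_val_zero, Matrix.cons_val_one, Int.cast_one, one_smul, Int.cast_neg,
      neg_smul] at hz
    have h0 : (2 : F) • (pt2 s (u 0) (w 0) + pt2 s (u 1) (w 1)) = 0 := by linear_combination (norm := module) hz
    rw [(smul_eq_zero.mp h0).resolve_left h2, zero_add]
  rw [h01, mulVec_add, Transvec.mul_mulVec, Transvec.mul_mulVec, slot_pt2' hsl, slot_pt2' hsl, slot_pt2, slot_pt2,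
    rG_self hf (hu.aniso 2), rG_fix hf (hu.aniso 2) (hu.orth 3 2 (by decide)), pt2_neg_left] at hP
  refine ⟨(2 : F)⁻¹ * (2 / f a a * f (w 2) a), (2 : F)⁻¹ • (w 3 + (rG hf a).val *ᵥ w 3), ?_, ?_⟩
  · rw [hf.bilinear.smul_left, hf.bilinear.add_left,
      show f ((rG hf a).val *ᵥ w 3) a = -f (w 3) a by
        have h := OPow.rG_iso hf a (w 3) a
        rw [rG_self hf ha, OO.sym_neg_right hf] at h
        linear_combination -h, add_neg_cancel, mul_zero]
  · have hrw : w 2 - (rG hf a).val *ᵥ w 2 = (2 / f a a * f (w 2) a) • a := by rw [rG_apply hf ha]; abel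
    rw [mul_smul, ← pt2_smul_right s (2 / f a a * f (w 2) a), ← hrw, pt2_smul_right, ← smul_add, pt2_sub_right,
      pt2_add_right, h01, eq_inv_smul_iff₀ h2]
    linear_combination (norm := module) -hP

/-- A root moving a vector to a prescribed inner product. -/
theorem exists_root_to [Fintype F] (h2 : (2 : F) ≠ 0) (hn : NoLine f) {a v b : Fin 4 → F} (ha : f a a ≠ 0)
    (hv : f v v ≠ 0) (hb : f b b ≠ 0) (hP : ¬ IsSquare (-(f v v * f b b))) {w : Fin 4 → F} (hw : w ≠ 0)
    (hwa : f w a = 0) :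
    ∃ e d, e ≠ 0 ∧ f e e = 0 ∧ f e d = 0 ∧ f d d ≠ 0 ∧ f e a = 0 ∧ f d a = 0 ∧
      f d d / 2 * (f w e * f w e) = 2 * (f v v * f a a) / f b b := by
  obtain ⟨e, d₀, he, hee, hed₀, hd₀, hea, hd₀a⟩ := exists_root_perp hf h2 ha
  -- a partner of the singular vector
  obtain ⟨W, hW, -, hp⟩ := exists_perp hf h2 [a] (by simp) (by simp [ha])
  have memW : ∀ x, x ∈ W ↔ f x a = 0 := fun x => by rw [hp]; simp
  obtain ⟨m, hm, hme⟩ : ∃ m ∈ W, f e m ≠ 0 := by
    by_contra hno
    push Not at hno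
    obtain ⟨m, hm, hem⟩ := hW e ((memW e).mpr hea) he
    exact hem (hno m hm)
  obtain ⟨n, hn'⟩ : ∃ n, n = (f e m)⁻¹ • m := ⟨_, rfl⟩
  have hen : f e n = 1 := by rw [hn', hf.bilinear.smul_right, inv_mul_cancel₀ hme]
  have hna : f n a = 0 := by rw [hn', hf.bilinear.smul_left, (memW m).mp hm, mul_zero]
  obtain ⟨e', he'⟩ : ∃ e', e' = n - (f n n / 2) • e := ⟨_, rfl⟩
  have hee' : f e e' = 1 := by rw [he', SpO.sym_sub_right hf, hf.bilinear.smul_right, hee, hen]; ring
  have he'e' : f e' e' = 0 := by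
    rw [he', SpO.sym_sub_left hf, SpO.sym_sub_right hf, SpO.sym_sub_right hf, hf.bilinear.smul_left,
      hf.bilinear.smul_left, hf.bilinear.smul_right, hf.bilinear.smul_right, hee, hen, hf.symm n e, hen]
    field_simp
    ring
  have he'a : f e' a = 0 := by rw [he', SpO.sym_sub_left hf, hf.bilinear.smul_left, hna, hea]; ring
  obtain ⟨d, hd⟩ : ∃ d, d = d₀ - f d₀ e' • e := ⟨_, rfl⟩
  have hde : f e d = 0 := by rw [hd, SpO.sym_sub_right hf, hf.bilinear.smul_right, hed₀, hee]; ring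
  have hde' : f d e' = 0 := by rw [hd, SpO.sym_sub_left hf, hf.bilinear.smul_left, hee']; ring
  have hdd : f d d = f d₀ d₀ := by
    rw [hd, SpO.sym_sub_left hf, SpO.sym_sub_right hf, SpO.sym_sub_right hf, hf.bilinear.smul_left,
      hf.bilinear.smul_left, hf.bilinear.smul_right, hf.bilinear.smul_right, hee, hed₀, hf.symm d₀ e, hed₀]
    ring
  have hda : f d a = 0 := by rw [hd, SpO.sym_sub_left hf, hf.bilinear.smul_left, hd₀a, hea]; ring
  have hdq : f d d ≠ 0 := by rwa [hdd]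
  -- a singular vector not orthogonal to the given one
  obtain ⟨e₁, he₁, hee₁, he₁a, hwe₁⟩ : ∃ e₁, e₁ ≠ 0 ∧ f e₁ e₁ = 0 ∧ f e₁ a = 0 ∧ f w e₁ ≠ 0 := by
    by_cases hwe : f w e = 0
    swap
    · exact ⟨e, he, hee, hea, hwe⟩
    by_cases hwe' : f w e' = 0
    swap
    · exact ⟨e', fun h => by rw [h, sym_zero_right hf] at hee'; exact zero_ne_one hee', he'e', he'a, hwe'⟩
    refine ⟨e + d - (f d d / 2) • e', fun h => ?_, ?_, ?_, fun h => hw ?_⟩
    · have h' := congrArg (fun z => f z d) h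
      simp only [SpO.sym_sub_left hf, hf.bilinear.add_left, hf.bilinear.smul_left, hde, hf.symm e' d, hde',
        sym_zero_left hf] at h'
      exact hdq (by linear_combination h')
    · simp only [SpO.sym_sub_left hf, SpO.sym_sub_right hf, hf.bilinear.add_left, hf.bilinear.add_right,
        hf.bilinear.smul_left, hf.bilinear.smul_right, hee, he'e', hee', hde, hde', hf.symm e' e, hf.symm d e,
        hf.symm e' d]
      field_simp
      ring
    · simp only [SpO.sym_sub_left hf, hf.bilinear.add_left, hf.bilinear.smul_left, hea, he'a, hda]; ring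
    · simp only [SpO.sym_sub_right hf, hf.bilinear.add_right, hf.bilinear.smul_right, hwe, hwe', zero_add,
        mul_zero, sub_zero] at h
      have hF : Frame f ![e + e', e - e', d, a] := by
        refine ⟨fun i j hij => ?_, fun i => ?_⟩
        · fin_cases i <;> fin_cases j <;>
            simp [SpO.sym_sub_left hf, SpO.sym_sub_right hf, hf.bilinear.add_left, hf.bilinear.add_right, hee,
              he'e', hee', hde, hde', hda, hea, he'a, hf.symm e' e, hf.symm d e, hf.symm e' d, hf.symm a e,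
              hf.symm a e', hf.symm a d] at hij ⊢
        · fin_cases i <;>
            simp [SpO.sym_sub_left hf, SpO.sym_sub_right hf, hf.bilinear.add_left, hf.bilinear.add_right, hee,
              he'e', hee', hf.symm e' e, hdq, ha, h2, one_add_one_eq_two, ← sub_eq_add_neg]
          all_goals (intro h0; exact h2 (by linear_combination -h0))
      have hs := eq_sum_of_orth_four hf hF w
      simpa [hf.bilinear.add_right, SpO.sym_sub_right hf, hwe, hwe', h, hwa] using hs
  -- an orthogonal vector of the needed class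
  obtain ⟨d₁, hd₁e, hd₁a, hd₁q, hcl⟩ : ∃ d₁, f e₁ d₁ = 0 ∧ f d₁ a = 0 ∧ f d₁ d₁ ≠ 0 ∧
      ¬ IsSquare (-(f d₁ d₁ * f a a)) := by
    obtain ⟨n₁, hn₁, hn₁e⟩ : ∃ n₁ ∈ W, f e₁ n₁ ≠ 0 := by
      by_contra hno
      push Not at hno
      obtain ⟨m₁, hm₁, hem₁⟩ := hW e₁ ((memW e₁).mpr he₁a) he₁
      exact hem₁ (hno m₁ hm₁)
    obtain ⟨r, hr⟩ : ∃ r, r = (f e₁ n₁)⁻¹ • n₁ - ((f e₁ n₁)⁻¹ * (f e₁ n₁)⁻¹ * f n₁ n₁ / 2) • e₁ := ⟨_, rfl⟩
    have her : f e₁ r = 1 := by
      rw [hr, SpO.sym_sub_right hf, hf.bilinear.smul_right, hf.bilinear.smul_right, hee₁, inv_mul_cancel₀ hn₁e]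
      ring
    have hrr : f r r = 0 := by
      rw [hr, SpO.sym_sub_left hf, SpO.sym_sub_right hf, SpO.sym_sub_right hf]
      simp only [hf.bilinear.smul_left, hf.bilinear.smul_right, hee₁, hf.symm n₁ e₁]
      field_simp
      ring
    have hra : f r a = 0 := by
      rw [hr, SpO.sym_sub_left hf, hf.bilinear.smul_left, hf.bilinear.smul_left, (memW n₁).mp hn₁, he₁a]; ring
    have hp₁ : f (e₁ + r) (e₁ + r) = 2 ∧ f (e₁ - r) (e₁ - r) = -2 := by
      simp only [SpO.sym_sub_left hf, SpO.sym_sub_right hf, hf.bilinear.add_left, hf.bilinear.add_right, hee₁, hrr,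
        her, hf.symm r e₁]
      constructor <;> ring
    obtain ⟨u, hu, hu0, hu1⟩ := exists_extend_two hf h2 (x := e₁ + r) (y := e₁ - r) (by rw [hp₁.1]; exact h2)
      (by rw [hp₁.2]; exact neg_ne_zero.mpr h2) (by
        simp only [SpO.sym_sub_right hf, hf.bilinear.add_left, hee₁, hrr, her, hf.symm r e₁]; ring)
    have o : ∀ i, i = 2 ∨ i = 3 → f e₁ (u i) = 0 := fun i hi => by
      have ha1 := hu.orth 0 i (by rcases hi with rfl | rfl <;> decide)
      have ha2 := hu.orth 1 i (by rcases hi with rfl | rfl <;> decide)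
      rw [hu0, hf.bilinear.add_left] at ha1
      rw [hu1, SpO.sym_sub_left hf] at ha2
      exact mul_left_cancel₀ h2 (by linear_combination ha1 + ha2)
    have hpl : ¬ IsSquare (-(f (u 2) (u 2) * f (u 3) (u 3))) := fun h => Frame.planes hf h2 hu hn
      ⟨by rw [hu0, hu1, hp₁.1, hp₁.2]; exact ⟨2, by ring⟩, h⟩
    -- rotate the frame so that one vector is along `a`
    obtain ⟨α, β, hab⟩ : ∃ α β : F, a = α • u 2 + β • u 3 := by
      refine ⟨f a (u 2) / f (u 2) (u 2), f a (u 3) / f (u 3) (u 3), ?_⟩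
      have hs := eq_sum_of_orth_four hf hu a
      have z0 : f a (u 0) = 0 := by rw [hu0, hf.bilinear.add_right, hf.symm a e₁, he₁a, hf.symm a r, hra, add_zero]
      have z1 : f a (u 1) = 0 := by rw [hu1, SpO.sym_sub_right hf, hf.symm a e₁, he₁a, hf.symm a r, hra, sub_zero]
      rw [z0, z1] at hs
      simpa using hs
    refine ⟨(-(β * f (u 3) (u 3))) • u 2 + (α * f (u 2) (u 2)) • u 3, ?_, ?_, ?_⟩
    · rw [hf.bilinear.add_right, hf.bilinear.smul_right, hf.bilinear.smul_right, o 2 (Or.inl rfl), o 3 (Or.inr rfl)]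
      ring
    · rw [hab]
      simp only [hf.bilinear.add_left, hf.bilinear.add_right, hf.bilinear.smul_left, hf.bilinear.smul_right,
        hu.orth 2 3 (by decide), hu.orth 3 2 (by decide)]
      ring
    have e2 : f ((-(β * f (u 3) (u 3))) • u 2 + (α * f (u 2) (u 2)) • u 3)
        ((-(β * f (u 3) (u 3))) • u 2 + (α * f (u 2) (u 2)) • u 3) = f (u 2) (u 2) * f (u 3) (u 3) * f a a := by
      rw [hab]
      simp only [hf.bilinear.add_left, hf.bilinear.add_right, hf.bilinear.smul_left, hf.bilinear.smul_right,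
        hu.orth 2 3 (by decide), hu.orth 3 2 (by decide)]
      ring
    refine ⟨by rw [e2]; exact mul_ne_zero (mul_ne_zero (hu.aniso 2) (hu.aniso 3)) ha, ?_⟩
    rintro ⟨r', hr'⟩
    exact hpl ⟨r' / f a a, by rw [e2] at hr'; field_simp; linear_combination hr'⟩
  -- scaling
  obtain ⟨q, hq⟩ := CfsgLib.Classical.isSquare_mul_of_not_isSquare h2 hcl hP
  have hq0 : q ≠ 0 := fun h => by
    rw [h, mul_zero, neg_mul_neg] at hq
    exact mul_ne_zero (mul_ne_zero hd₁q ha) (mul_ne_zero hv hb) hq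
  obtain ⟨lam, hlam⟩ : ∃ lam, lam = 2 * q / (f b b * f d₁ d₁ * f w e₁) := ⟨_, rfl⟩
  refine ⟨e₁, lam • d₁, he₁, hee₁, by rw [hf.bilinear.smul_right, hd₁e, mul_zero], ?_, he₁a,
    by rw [hf.bilinear.smul_left, hd₁a, mul_zero], ?_⟩
  · rw [sym_quad_smul hf, hlam]
    exact mul_ne_zero (mul_ne_zero (div_ne_zero (mul_ne_zero h2 hq0) (mul_ne_zero (mul_ne_zero hb hd₁q) hwe₁))
      (div_ne_zero (mul_ne_zero h2 hq0) (mul_ne_zero (mul_ne_zero hb hd₁q) hwe₁))) hd₁q
  · rw [sym_quad_smul hf, hlam]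
    field_simp
    linear_combination -hq

/-- An anisotropic vector orthogonal to a singular vector in a subspace of dimension three. -/
lemma exists_aniso_perp_singular [Fintype F] (h2 : (2 : F) ≠ 0) {W : Submodule F (Fin 4 → F)} (hW : NdSub f W)
    (hd : 3 ≤ Module.finrank F W) {w : Fin 4 → F} (hw : w ∈ W) (hw0 : w ≠ 0) (hww : f w w = 0) :
    ∃ x ∈ W, f w x = 0 ∧ f x x ≠ 0 := by
  obtain ⟨m, hm, hwm⟩ := hW w hw hw0
  obtain ⟨n, hn⟩ : ∃ n, n = m - (f m m / (2 * f w m)) • w := ⟨_, rfl⟩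
  have hnW : n ∈ W := hn ▸ sub_mem hm (W.smul_mem _ hw)
  have hwn : f w n = f w m := by rw [hn, SpO.sym_sub_right hf, hf.bilinear.smul_right, hww, mul_zero, sub_zero]
  have hnn : f n n = 0 := by
    rw [hn, SpO.sym_sub_left hf, SpO.sym_sub_right hf, SpO.sym_sub_right hf]
    simp only [hf.bilinear.smul_left, hf.bilinear.smul_right, hww, hf.symm m w]
    field_simp
    ring
  have hpn : f (w + n) (w + n) ≠ 0 := by
    rw [sym_quad_add hf, hww, hnn, hwn]
    simpa using mul_ne_zero h2 hwm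
  have hmn : f (w - n) (w - n) ≠ 0 := by
    rw [SpO.sym_sub_left hf, SpO.sym_sub_right hf, SpO.sym_sub_right hf, hww, hnn, hf.symm n w, hwn]
    simpa [← neg_add', ← two_mul] using mul_ne_zero h2 hwm
  have hpW : w + n ∈ W := add_mem hw hnW
  have hmW : w - n ∈ SpO.perpIn f W (w + n) := (mem_perpIn hf).mpr ⟨sub_mem hw hnW, by
    rw [SpO.sym_sub_left hf, hf.bilinear.add_right, hf.bilinear.add_right, hww, hnn, hf.symm n w]; ring⟩
  have hd1 := SpO.finrank_perpIn hf W (w + n)
  have hd2 := SpO.finrank_perpIn hf (SpO.perpIn f W (w + n)) (w - n)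
  obtain ⟨x, hx, hxq⟩ := SpO.exists_aniso hf h2 (SpO.nd_perpIn hf (SpO.nd_perpIn hf hW hpW hpn) hmW hmn) (by omega)
  obtain ⟨hx', hxm⟩ := (mem_perpIn hf).mp hx
  obtain ⟨hxW, hxp⟩ := (mem_perpIn hf).mp hx'
  rw [SpO.sym_sub_right hf] at hxm
  rw [hf.bilinear.add_right] at hxp
  exact ⟨x, hxW, by rw [hf.symm]; exact mul_left_cancel₀ h2 (by linear_combination hxm + hxp), hxq⟩

/-- The slot subspace of an anisotropic vector is stabilised once it is mapped into itself. -/
lemma gim_slotW_of_le {s : Fin 2} {v : Fin 4 → F} {g : GL (Idx 2 4) F}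
    (h : ∀ w, g.val *ᵥ pt2 s v w ∈ slotW s v) : gim g (slotW s v) = slotW s v := by
  refine Submodule.eq_of_le_of_finrank_eq ?_ (TWMax.finrank_gim g _)
  rintro z hz
  obtain ⟨x, hx, rfl⟩ := mem_gim.mp hz
  have : slotW s v ≤ (slotW s v).comap (Matrix.mulVecLin g.val) := slotW_le fun xs hxs => by
    rw [Submodule.mem_comap, Matrix.mulVecLin_apply,
      show pv xs = pt2 s v (xs (1 - s)) by
        rw [pt2]; congr 1; funext i
        by_cases hi : i = s
        · rw [if_pos hi, hi, hxs]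
        · rw [if_neg hi, (by decide : ∀ a b : Fin 2, ¬a = b → a = 1 - b) i s hi]]
    exact h _
  exact this hx

lemma pt2_mem_slotW (s : Fin 2) (v w : Fin 4 → F) : pt2 s v w ∈ slotW s v := by
  have := TWMax.pv_mem_slotW s (fun i => if i = s then v else w)
  simpa [pt2] using this

end CfsgLib.Classical22.OFour
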