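/-
The common centraliser of a half turn and a pair of reflections.
-/
import Cfsg.Agent.Lib.Classical22.OrthFour.Vec
import Cfsg.Agent.Lib.Classical22.OrthFour.RPlus

set_option autoImplicit false
set_option linter.unusedSectionVars false
set_option linter.unusedSimpArgs false

namespace CfsgLib.Classical22.OFour

open Matrix CfsgLib.Transvec CfsgLib.Classical22.TensorMax CfsgLib.Classical22.TensorMax.SympO
open CfsgLib.Classical22.TensorMax.SpO (sym_zero_left sym_zero_right sym_quad_smul)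
open CfsgLib.Classical22.TWMax (Idx pv slotEl slotEl_mul slotEl_data TWData IsTW gim slotW)
open CfsgLib.Classical22.OFour.MCtx (slot_refl_sq)
open CfsgLib.Classical22.OPow (bil rG rG_iso rG_mul_self eU eU_val isoF isTW_mul isTW_inv slotEl_commute)
open scoped MatrixGroups

variable {F : Type*} [Field F] [Fintype F] {f : (Fin 4 → F) → (Fin 4 → F) → F}
  {M : Subgroup (GL (Idx 2 4) F)}

lemma eU_fix (hf : Cfsg.Geo.IsSymmetricForm f) (h2 : (2 : F) ≠ 0) {e d x : Fin 4 → F} (hee : f e e = 0)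
    (hed : f e d = 0) (hx : f x e = 0) (hx' : f x d = 0) : (eU hf h2 e d).val *ᵥ x = x := by
  rw [eU_val hf h2 hee hed, OO.eA_mulVec hf, hx, hx']; simp

lemma eU_quad (hf : Cfsg.Geo.IsSymmetricForm f) (h2 : (2 : F) ≠ 0) {e d w : Fin 4 → F} (hee : f e e = 0)
    (hed : f e d = 0) :
    f ((eU hf h2 e d).val *ᵥ w) w = f w w - f d d / 2 * (f w e * f w e) := by
  rw [eU_val hf h2 hee hed, OO.eA_mulVec hf]
  simp only [SpO.sym_sub_left hf, hf.bilinear.add_left, hf.bilinear.smul_left, hf.symm e w, hf.symm d w]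
  ring

lemma slot_comm_other {s l : Fin 2} (hsl : s ≠ l) (X A B Y : GL (Fin 4) F) (hXA : X * A = A * X) (hYB : Y * B = B * Y) :
    slotEl s X * slotEl l Y * (slotEl s A * slotEl l B) = slotEl s A * slotEl l B * (slotEl s X * slotEl l Y) := by
  rw [mul_assoc, ← mul_assoc (slotEl l Y), slotEl_commute hsl.symm, mul_assoc (slotEl s A), ← mul_assoc,
    slotEl_mul, slotEl_mul, hXA, hYB, ← slotEl_mul, ← slotEl_mul, mul_assoc (slotEl s A),
    ← mul_assoc (slotEl s X), slotEl_commute hsl, mul_assoc (slotEl l B), ← mul_assoc]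

namespace TwoCtx
variable (C : TwoCtx f M)
include C

lemma bil_iso {g : GL (Idx 2 4) F} (hg : g ∈ M) (x y : Idx 2 4 → F) :
    bil f (g.val *ᵥ x) (g.val *ᵥ y) = bil f x y := C.ctx.iso g hg x y

/-- An element fixing the two lines. -/
theorem gamma_stab {s l : Fin 2} (hsl : s ≠ l) {u : Fin 4 → Fin 4 → F} (hu : Frame f u) {a : Fin 4 → F}
    (ha : f a a ≠ 0) {g : GL (Idx 2 4) F} (hg : g ∈ M)
    (hgz : g * slotEl s (half C.ctx.sym u) = slotEl s (half C.ctx.sym u) * g)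
    (hgP : g * (slotEl s (rG C.ctx.sym (u 2)) * slotEl l (rG C.ctx.sym a)) =
      slotEl s (rG C.ctx.sym (u 2)) * slotEl l (rG C.ctx.sym a) * g)
    {δ ε : F} (hy : g.val *ᵥ pt2 s (u 2) a = δ • pt2 s (u 2) a)
    (hx : g.val *ᵥ pt2 s (u 3) a = ε • pt2 s (u 3) a) : IsTW g := by
  have hf := C.ctx.sym
  refine C.ctx.stab_tw (s := s) (hu.aniso 2) hg (gim_slotW_of_le hf fun w => ?_)
  obtain ⟨c, w₀, hw₀, rfl⟩ : ∃ (c : F) (w₀ : Fin 4 → F), f w₀ a = 0 ∧ w = c • a + w₀ :=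
    ⟨f w a / f a a, w - (f w a / f a a) • a, by
      rw [SpO.sym_sub_left hf, hf.bilinear.smul_left, div_mul_cancel₀ _ ha, sub_self], by abel⟩
  rw [pt2_add_right, pt2_smul_right, mulVec_add, mulVec_smul, hy, smul_smul]
  refine add_mem (Submodule.smul_mem _ _ (pt2_mem_slotW hf s _ _)) ?_
  obtain ⟨u', hu'⟩ : ∃ u', u' = u ∘ Equiv.swap (2 : Fin 4) 3 := ⟨_, rfl⟩
  have hF : Frame f u' := hu' ▸ hu.perm hf _
  have hh : half hf u' = half hf u := by
    rw [half, half, hu']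
    simpa [Equiv.swap_apply_def] using hu.eig_comm hf (hu.eig_rG hf 3) (hu.eig_rG hf 2)
  have hu2 : u' 2 = u 3 := by simp [hu']
  have hu3 : u' 3 = u 2 := by simp [hu', Equiv.swap_apply_def]
  have e3 : rG hf (u 3) = half hf u * rG hf (u 2) := by
    rw [half, show rG hf (u 2) * rG hf (u 3) = rG hf (u 3) * rG hf (u 2) from
      hu.eig_comm hf (hu.eig_rG hf 2) (hu.eig_rG hf 3), mul_assoc, rG_mul_self, mul_one]
  have hz : (slotEl s (half hf u')).val *ᵥ (g.val *ᵥ pt2 s (u 2) w₀) = -(g.val *ᵥ pt2 s (u 2) w₀) := by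
    rw [hh, ← Transvec.mul_mulVec, ← hgz, Transvec.mul_mulVec, slot_pt2,
      show (half hf u).val *ᵥ u 2 = -u 2 by rw [(half_eig hf hu).act]; simp, pt2_neg_left, mulVec_neg]
  have hP : (slotEl s (rG hf (u' 2)) * slotEl l (rG hf a)).val *ᵥ (g.val *ᵥ pt2 s (u 2) w₀) =
      g.val *ᵥ pt2 s (u 2) w₀ := by
    rw [hu2, ← Transvec.mul_mulVec, show slotEl s (rG hf (u 3)) * slotEl l (rG hf a) * g =
      g * (slotEl s (rG hf (u 3)) * slotEl l (rG hf a)) by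
        rw [e3, ← slotEl_mul, mul_assoc (slotEl s (half hf u)), mul_assoc (slotEl s (half hf u)),
          ← hgP, ← mul_assoc, ← hgz, mul_assoc],
      Transvec.mul_mulVec, Transvec.mul_mulVec, slot_pt2' hsl, slot_pt2, rG_fix hf ha hw₀,
      rG_fix hf (hu.aniso 3) (hu.orth 2 3 (by decide))]
  obtain ⟨α, w', hw', he⟩ := eigvec hf C.ctx.two hsl hF ha hz hP
  rw [hu2, hu3] at he
  have h0 : bil f (g.val *ᵥ pt2 s (u 2) w₀) (g.val *ᵥ pt2 s (u 3) a) = 0 := by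
    rw [C.bil_iso hg, bil_pt2 hf, hu.orth 2 3 (by decide), zero_mul]
  have hε : ε ≠ 0 := fun h => by
    have := congrArg (fun z => bil f z z) hx
    simp only [C.bil_iso hg, bil_pt2 hf, h, OPow.bil_smul_left, zero_mul] at this
    exact mul_ne_zero (hu.aniso 3) ha this
  rw [he, hx, OPow.bil_smul_right, OPow.bil_add_left, OPow.bil_smul_left, bil_pt2 hf, bil_pt2 hf, hw', mul_zero,
    add_zero] at h0
  rw [he, show α = 0 by
    rcases mul_eq_zero.mp h0 with h | h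
    · exact absurd h hε
    · exact (mul_eq_zero.mp h).resolve_right (mul_ne_zero (hu.aniso 3) ha), zero_smul, zero_add]
  exact pt2_mem_slotW hf s _ _

/-- The shape of an image of the pure vector at the negated plane. -/
lemma image_shape {s l : Fin 2} (hsl : s ≠ l) {u : Fin 4 → Fin 4 → F} (hu : Frame f u) {a : Fin 4 → F}
    (ha : f a a ≠ 0) {g : GL (Idx 2 4) F} (hg : g ∈ M)
    (hgz : g * slotEl s (half C.ctx.sym u) = slotEl s (half C.ctx.sym u) * g)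
    (hgP : g * (slotEl s (rG C.ctx.sym (u 2)) * slotEl l (rG C.ctx.sym a)) =
      slotEl s (rG C.ctx.sym (u 2)) * slotEl l (rG C.ctx.sym a) * g) :
    ∃ (α : F) (w : Fin 4 → F), f w a = 0 ∧ g.val *ᵥ pt2 s (u 2) a = α • pt2 s (u 2) a + pt2 s (u 3) w ∧
      f (u 2) (u 2) * f a a = α * α * (f (u 2) (u 2) * f a a) + f (u 3) (u 3) * f w w := by
  have hf := C.ctx.sym
  obtain ⟨α, w, hw, he⟩ := eigvec hf C.ctx.two hsl hu ha (x := g.val *ᵥ pt2 s (u 2) a)
    (by rw [← Transvec.mul_mulVec, ← hgz, Transvec.mul_mulVec, slot_pt2,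
      show (half hf u).val *ᵥ u 2 = -u 2 by rw [(half_eig hf hu).act]; simp, pt2_neg_left, mulVec_neg])
    (by rw [← Transvec.mul_mulVec, ← hgP, Transvec.mul_mulVec, Transvec.mul_mulVec, slot_pt2' hsl, slot_pt2,
      rG_self hf ha, rG_self hf (hu.aniso 2), show pt2 s (-u 2) (-a) = pt2 s (u 2) a from
        funext fun q => by simp [pt2_apply]])
  refine ⟨α, w, hw, he, ?_⟩
  have h := C.bil_iso hg (pt2 s (u 2) a) (pt2 s (u 2) a)
  simp only [he, OPow.bil_add_left, OPow.bil_add_right, OPow.bil_smul_left, OPow.bil_smul_right, bil_pt2 hf,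
    hu.orth 2 3 (by decide), hu.orth 3 2 (by decide)] at h
  linear_combination -h

/-- The orbit argument for an anisotropic negated plane. -/
theorem orbit_aniso {s l : Fin 2} (hsl : s ≠ l) {u : Fin 4 → Fin 4 → F} (hu : Frame f u) {a : Fin 4 → F}
    (ha : f a a ≠ 0) (hpl : ¬ IsSquare (-(f (u 2) (u 2) * f (u 3) (u 3)))) (K : Subgroup (GL (Idx 2 4) F))
    (hK : ∀ g ∈ K, g ∈ M ∧ g * slotEl s (half C.ctx.sym u) = slotEl s (half C.ctx.sym u) * g ∧
      g * (slotEl s (rG C.ctx.sym (u 2)) * slotEl l (rG C.ctx.sym a)) =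
        slotEl s (rG C.ctx.sym (u 2)) * slotEl l (rG C.ctx.sym a) * g)
    (hroot : ∀ e d : Fin 4 → F, f e e = 0 → f e d = 0 → f d d ≠ 0 → f e a = 0 → f d a = 0 →
      slotEl l (eU C.ctx.sym C.ctx.two e d) ∈ K)
    (hy : ∀ g ∈ K, (∃ δ : F, g.val *ᵥ pt2 s (u 2) a = δ • pt2 s (u 2) a) → IsTW g) :
    ∀ g ∈ K, IsTW g := by
  intro g hgK
  have hf := C.ctx.sym
  have h2 := C.ctx.two
  obtain ⟨hgM, hgz, hgP⟩ := hK g hgK
  obtain ⟨α, w, hwa, hgy, hnorm⟩ := C.image_shape hsl hu ha hgM hgz hgP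
  by_cases hw : w = 0
  · exact hy g hgK ⟨α, by rw [hgy, hw, pt2_zero_right, add_zero]⟩
  obtain ⟨e, d, he, hee, hed, hd, hea, hda, hval⟩ :=
    exists_root_to hf h2 C.ctx.noline ha (hu.aniso 2) (hu.aniso 3) hpl hw hwa
  obtain ⟨r, hr⟩ : ∃ r, r = slotEl l (eU hf h2 e d) := ⟨_, rfl⟩
  have hrK : r ∈ K := hr ▸ hroot e d hee hed hd hea hda
  have hra : (eU hf h2 e d).val *ᵥ a = a := eU_fix hf h2 hee hed (by rw [hf.symm, hea]) (by rw [hf.symm, hda])
  obtain ⟨g', hg'⟩ : ∃ g', g' = g⁻¹ * r * g := ⟨_, rfl⟩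
  have hg'K : g' ∈ K := hg' ▸ K.mul_mem (K.mul_mem (K.inv_mem hgK) hrK) hgK
  suffices IsTW g' by
    have h1 := C.ctx.tw_of_conj_root (M.inv_mem hgM) he hee hed hd (l := l) (by
      rw [inv_inv, ← hr, ← hg']; exact this)
    simpa using isTW_inv h1
  obtain ⟨hg'M, hg'z, hg'P⟩ := hK g' hg'K
  obtain ⟨α', w', hw'a, hg'y, hnorm'⟩ := C.image_shape hsl hu ha hg'M hg'z hg'P
  have hα : α' = -1 := by
    have h1 : bil f (g'.val *ᵥ pt2 s (u 2) a) (pt2 s (u 2) a) =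
        bil f (r.val *ᵥ (g.val *ᵥ pt2 s (u 2) a)) (g.val *ᵥ pt2 s (u 2) a) := by
      conv_rhs => rw [show r.val *ᵥ (g.val *ᵥ pt2 s (u 2) a) = g.val *ᵥ (g'.val *ᵥ pt2 s (u 2) a) by
        simp only [hg', Transvec.mul_mulVec, Transvec.mulVec_inv_cancel]]
      rw [C.bil_iso hgM]
    simp only [hg'y, hgy, hr, mulVec_add, mulVec_smul, slot_pt2' hsl, hra, OPow.bil_add_left, OPow.bil_add_right,
      OPow.bil_smul_left, OPow.bil_smul_right, bil_pt2 hf, hu.orth 2 3 (by decide), hu.orth 3 2 (by decide),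
      eU_quad hf h2 hee hed, hval] at h1
    refine mul_right_cancel₀ (mul_ne_zero (hu.aniso 2) ha) ?_
    have := hu.aniso 3
    field_simp at h1
    refine mul_left_cancel₀ this ?_
    linear_combination f (u 3) (u 3) * h1 - f (u 3) (u 3) * hnorm
  have hw'q : f w' w' = 0 := by
    rw [hα] at hnorm'
    exact (mul_eq_zero.mp (by linear_combination -hnorm' : f (u 3) (u 3) * f w' w' = 0)).resolve_left (hu.aniso 3)
  by_cases hw' : w' = 0
  · exact hy g' hg'K ⟨α', by rw [hg'y, hw', pt2_zero_right, add_zero]⟩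
  obtain ⟨W, hW, hd', hp⟩ := exists_perp hf h2 [a] (by simp) (by simp [ha])
  -- an anisotropic vector orthogonal to both
  obtain ⟨d', hd'e, hd'a, hd'q⟩ : ∃ d', f w' d' = 0 ∧ f d' a = 0 ∧ f d' d' ≠ 0 := by
    obtain ⟨d₁, hd₁W, hd₁e, hd₁q⟩ := exists_aniso_perp_singular hf h2 hW (by simpa using hd')
      (show w' ∈ W by rw [hp]; simpa using hw'a) hw' hw'q
    exact ⟨d₁, hd₁e, by simpa using (hp d₁).mp hd₁W, hd₁q⟩
  have hu'K := hroot w' d' hw'q hd'e hd'q hw'a hd'a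
  have hfixa : (eU hf h2 w' d').val *ᵥ a = a :=
    eU_fix hf h2 hw'q hd'e (by rw [hf.symm, hw'a]) (by rw [hf.symm, hd'a])
  have hfixw : (eU hf h2 w' d').val *ᵥ w' = w' := eU_fix hf h2 hw'q hd'e hw'q hd'e
  have h1 : IsTW (g'⁻¹ * slotEl l (eU hf h2 w' d') * g'⁻¹⁻¹) := by
    refine hy _ (K.mul_mem (K.mul_mem (K.inv_mem hg'K) hu'K) (by rw [inv_inv]; exact hg'K)) ⟨1, ?_⟩
    rw [inv_inv, Transvec.mul_mulVec, Transvec.mul_mulVec, hg'y, mulVec_add, mulVec_smul, slot_pt2' hsl,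
      slot_pt2' hsl, hfixa, hfixw, ← hg'y, Transvec.inv_mulVec_cancel, one_smul]
  simpa using isTW_inv (C.ctx.tw_of_conj_root (M.inv_mem hg'M) hw' hw'q hd'e hd'q (l := l) h1)

/-- The orbit argument for an isotropic negated plane. -/
theorem orbit_iso {s l : Fin 2} (hsl : s ≠ l) {u : Fin 4 → Fin 4 → F} (hu : Frame f u) {a : Fin 4 → F}
    (ha : f a a ≠ 0) (hpl : IsSquare (-(f (u 2) (u 2) * f (u 3) (u 3)))) (K : Subgroup (GL (Idx 2 4) F))
    (hK : ∀ g ∈ K, g ∈ M ∧ g * slotEl s (half C.ctx.sym u) = slotEl s (half C.ctx.sym u) * g ∧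
      g * (slotEl s (rG C.ctx.sym (u 2)) * slotEl l (rG C.ctx.sym a)) =
        slotEl s (rG C.ctx.sym (u 2)) * slotEl l (rG C.ctx.sym a) * g)
    (hpair : ∀ w : Fin 4 → F, f w w ≠ 0 → f w a = 0 →
      slotEl s (rG C.ctx.sym (u 0)) * slotEl l (rG C.ctx.sym w) ∈ K)
    (hgood : ∀ (v : Fin 4 → Fin 4 → F), Frame f v → ¬ IsSquare (-(f (v 2) (v 2) * f (v 3) (v 3))) →
      ∀ c, f c c ≠ 0 → ∀ g ∈ M, g * slotEl s (half C.ctx.sym v) = slotEl s (half C.ctx.sym v) * g →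
      g * (slotEl s (rG C.ctx.sym (v 2)) * slotEl l (rG C.ctx.sym c)) =
        slotEl s (rG C.ctx.sym (v 2)) * slotEl l (rG C.ctx.sym c) * g → IsTW g)
    (hy : ∀ g ∈ K, (∃ δ : F, g.val *ᵥ pt2 s (u 2) a = δ • pt2 s (u 2) a) → IsTW g) :
    ∀ g ∈ K, IsTW g := by
  intro g hgK
  have hf := C.ctx.sym
  have h2 := C.ctx.two
  obtain ⟨hgM, hgz, hgP⟩ := hK g hgK
  obtain ⟨α, w, hwa, hgy, -⟩ := C.image_shape hsl hu ha hgM hgz hgP
  by_cases hw : w = 0
  · exact hy g hgK ⟨α, by rw [hgy, hw, pt2_zero_right, add_zero]⟩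
  obtain ⟨W, hW, hd', hp⟩ := exists_perp hf h2 [a] (by simp) (by simp [ha])
  obtain ⟨w₁, hw₁W, hw₁w, hw₁q⟩ : ∃ w₁ ∈ W, f w w₁ = 0 ∧ f w₁ w₁ ≠ 0 := by
    have hwW : w ∈ W := by rw [hp]; simpa using hwa
    by_cases hwq : f w w = 0
    · exact exists_aniso_perp_singular hf h2 hW (by simpa using hd') hwW hw hwq
    · have hd1 := SpO.finrank_perpIn hf W w
      have hd2 : 3 ≤ Module.finrank F W := by simpa using hd'
      obtain ⟨x, hx, hxq⟩ := SpO.exists_aniso hf h2 (SpO.nd_perpIn hf hW hwW hwq) (by omega)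
      obtain ⟨hxW, hxw⟩ := (SpO.mem_perpIn hf).mp hx
      exact ⟨x, hxW, by rw [hf.symm, hxw], hxq⟩
  have hw₁a : f w₁ a = 0 := by simpa using (hp w₁).mp hw₁W
  obtain ⟨n, hn⟩ : ∃ n, n = slotEl s (rG hf (u 0)) * slotEl l (rG hf w₁) := ⟨_, rfl⟩
  have hnK : n ∈ K := hn ▸ hpair w₁ hw₁q hw₁a
  obtain ⟨m, hm⟩ : ∃ m, m = g⁻¹ * n * g := ⟨_, rfl⟩
  have hmK : m ∈ K := hm ▸ K.mul_mem (K.mul_mem (K.inv_mem hgK) hnK) hgK
  have hmtw : IsTW m := by
    refine hy m hmK ⟨1, ?_⟩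
    have hny : n.val *ᵥ (g.val *ᵥ pt2 s (u 2) a) = g.val *ᵥ pt2 s (u 2) a := by
      rw [hgy, hn]
      simp only [mulVec_add, mulVec_smul, Transvec.mul_mulVec, slot_pt2, slot_pt2' hsl,
        rG_fix hf (hu.aniso 0) (hu.orth 2 0 (by decide)), rG_fix hf (hu.aniso 0) (hu.orth 3 0 (by decide)),
        rG_fix hf hw₁q (show f a w₁ = 0 by rw [hf.symm, hw₁a]), rG_fix hf hw₁q hw₁w]
    rw [one_smul, hm, Transvec.mul_mulVec, Transvec.mul_mulVec, hny, Transvec.inv_mulVec_cancel]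
  obtain ⟨hmM, hmz, -⟩ := hK m hmK
  obtain ⟨-, hnz, -⟩ := hK n hnK
  have hH := half_eig hf hu
  have hX : IsHalf hf (half hf u) := ⟨u, hu, rfl⟩
  have hu0 : (half hf u).val *ᵥ u 0 = u 0 := hH.fix (by simp)
  have hm2 : m * m = 1 := by
    rw [hm, show g⁻¹ * n * g * (g⁻¹ * n * g) = g⁻¹ * (n * n) * g by group, hn, pair_invol hf hsl, mul_one,
      inv_mul_cancel]
  have hms : sig m = 4 := by
    rw [hm, show g⁻¹ * n * g = g⁻¹ * n * g⁻¹⁻¹ by group, sig_conj, hn, C.ctx.sig_pair hsl (hu.aniso 0) hw₁q]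
    norm_num
  obtain ⟨p, c, hpq, hcq, hmpc⟩ := C.pair_of_sig hmM hmtw hm2 hms hsl
  have hcomm := Ctx4.comm_component C.ctx hsl (X := half hf u) (A := rG hf p) (B := rG hf c) (hmpc ▸ hmz.symm)
  have hXp : (half hf u).val *ᵥ p = p := by
    refine (hX.comm_cases hf h2 hpq hcomm.symm).resolve_right fun hneg => ?_
    have h1 : sig (slotEl s (half hf u) * m) = 4 := by
      rw [hmpc, C.ctx.sig_half_pair_neg hsl hX hpq hcq hneg]; norm_num
    have h4 : sig (slotEl s (half hf u) * n) = -4 := by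
      rw [hn, C.ctx.sig_half_pair_fix hsl hX (hu.aniso 0) hw₁q hu0]; norm_num
    have h3 : slotEl s (half hf u) * m = g⁻¹ * (slotEl s (half hf u) * n) * g⁻¹⁻¹ := by
      rw [hm, inv_inv, ← mul_assoc, ← mul_assoc, show slotEl s (half hf u) * g⁻¹ = g⁻¹ * slotEl s (half hf u) from
        ((show Commute g (slotEl s (half hf u)) from hgz).inv_left.eq).symm, mul_assoc g⁻¹]
    rw [h3, sig_conj, h4] at h1
    norm_num at h1
  -- both new pairs have anisotropic negated planes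
  obtain ⟨v, hv, hv2, hve⟩ := (hX.neg hf h2).adapt_neg hf h2 hpq (by rw [Units.val_neg, neg_mulVec, hXp])
  have hiso : IsoNeg f (half hf u) := (isoNeg_iff hf h2 hu hH (i := 2) (j := 3) (by decide) (by simp) (by simp)
    (fun i h1 h3 => by fin_cases i <;> simp_all)).mpr hpl
  have hrot : ¬ IsSquare (-(f ((u ∘ ![2, 3, 0, 1]) 2) ((u ∘ ![2, 3, 0, 1]) 2) *
      f ((u ∘ ![2, 3, 0, 1]) 3) ((u ∘ ![2, 3, 0, 1]) 3))) := fun h => Frame.planes hf h2 hu C.ctx.noline ⟨h, hpl⟩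
  have hvn : ¬ IsSquare (-(f (v 2) (v 2) * f (v 3) (v 3))) := fun h => by
    have h1 : IsoNeg f (half hf v) := (isoNeg_iff hf h2 hv (half_eig hf hv) (i := 2) (j := 3) (by decide) (by simp)
      (by simp) (fun i h1 h3 => by fin_cases i <;> simp_all)).mpr h
    obtain ⟨hw, hwe⟩ := half_rot hf h2 hu
    rw [← hve, ← hwe, isoNeg_iff hf h2 hw (half_eig hf hw) (i := 2) (j := 3) (by decide) (by simp) (by simp)
      (fun i h1 h3 => by fin_cases i <;> simp_all)] at h1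
    exact hrot h1
  obtain ⟨e, d, he, hee, hed, hd, hec, hdc⟩ := exists_root_perp hf h2 hcq
  obtain ⟨r, hr⟩ : ∃ r, r = slotEl l (eU hf h2 e d) := ⟨_, rfl⟩
  have hrM : r ∈ M := hr ▸ C.ctx.eU_mem l hee hed hd
  have hrz : r * slotEl s (half hf u) = slotEl s (half hf u) * r := hr ▸ slotEl_commute hsl.symm _ _
  have hrm : r * m = m * r := by
    have hfix : (eU hf h2 e d).val *ᵥ c = c := eU_fix hf h2 hee hed (by rw [hf.symm, hec]) (by rw [hf.symm, hdc])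
    have hcm : eU hf h2 e d * rG hf c = rG hf c * eU hf h2 e d := by
      have h := OPow.rG_conj hf (OPow.eU_iso hf h2 e d) c
      rw [hfix] at h
      conv_rhs => rw [← h, inv_mul_cancel_right]
    rw [hr, hmpc, ← mul_assoc, slotEl_commute hsl.symm, mul_assoc, slotEl_mul, hcm, ← slotEl_mul, ← mul_assoc]
  have hrtw : IsTW (g * r * g⁻¹) := by
    refine hgood _ (half_rot hf h2 hu).1 hrot w₁ hw₁q _ (M.mul_mem (M.mul_mem hgM hrM) (M.inv_mem hgM)) ?_ ?_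
    · rw [(half_rot hf h2 hu).2, ← neg_slotEl, mul_neg, neg_mul]
      congr 1
      have h1 : Commute g (slotEl s (half hf u)) := hgz
      exact ((h1.mul_left hrz).mul_left h1.inv_left).eq
    · rw [show (u ∘ ![2, 3, 0, 1]) 2 = u 0 from rfl, ← hn, show n = g * m * g⁻¹ by rw [hm]; group, conj_mul,
        conj_mul, hrm]
  exact C.ctx.tw_of_conj_root hgM he hee hed hd (hr ▸ hrtw)

/-- The two stages of the orbit argument. -/
theorem gamma_core {s l : Fin 2} (hsl : s ≠ l) {u : Fin 4 → Fin 4 → F} (hu : Frame f u) {a : Fin 4 → F}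
    (ha : f a a ≠ 0)
    (orb : ∀ (v : Fin 4 → Fin 4 → F), v = u ∨ v = u ∘ Equiv.swap (2 : Fin 4) 3 → ∀ K : Subgroup (GL (Idx 2 4) F),
      (∀ g ∈ K, g ∈ M ∧ g * slotEl s (half C.ctx.sym v) = slotEl s (half C.ctx.sym v) * g ∧
        g * (slotEl s (rG C.ctx.sym (v 2)) * slotEl l (rG C.ctx.sym a)) =
          slotEl s (rG C.ctx.sym (v 2)) * slotEl l (rG C.ctx.sym a) * g) →
      (∀ e d : Fin 4 → F, f e e = 0 → f e d = 0 → f d d ≠ 0 → f e a = 0 → f d a = 0 →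
        slotEl l (eU C.ctx.sym C.ctx.two e d) ∈ K) →
      (∀ w : Fin 4 → F, f w w ≠ 0 → f w a = 0 →
        slotEl s (rG C.ctx.sym (v 0)) * slotEl l (rG C.ctx.sym w) ∈ K) →
      (∀ g ∈ K, (∃ δ : F, g.val *ᵥ pt2 s (v 2) a = δ • pt2 s (v 2) a) → IsTW g) → ∀ g ∈ K, IsTW g)
    {g : GL (Idx 2 4) F} (hg : g ∈ M)
    (hgz : g * slotEl s (half C.ctx.sym u) = slotEl s (half C.ctx.sym u) * g)
    (hgP : g * (slotEl s (rG C.ctx.sym (u 2)) * slotEl l (rG C.ctx.sym a)) =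
      slotEl s (rG C.ctx.sym (u 2)) * slotEl l (rG C.ctx.sym a) * g) : IsTW g := by
  classical
  have hf := C.ctx.sym
  have h2 := C.ctx.two
  obtain ⟨u', hu'⟩ : ∃ u', u' = u ∘ Equiv.swap (2 : Fin 4) 3 := ⟨_, rfl⟩
  have hF : Frame f u' := hu' ▸ hu.perm hf _
  have hu2 : u' 2 = u 3 := by simp [hu']
  have hu0 : u' 0 = u 0 := by simp [hu', Equiv.swap_apply_def]
  have c23 := hu.eig_comm hf (hu.eig_rG hf 2) (hu.eig_rG hf 3)
  have hh : half hf u' = half hf u := by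
    rw [half, half, hu']
    simpa [Equiv.swap_apply_def] using c23.symm
  obtain ⟨z, hz⟩ : ∃ z, z = slotEl s (half hf u) := ⟨_, rfl⟩
  obtain ⟨P, hP⟩ : ∃ P, P = slotEl s (rG hf (u 2)) * slotEl l (rG hf a) := ⟨_, rfl⟩
  obtain ⟨P', hP'⟩ : ∃ P', P' = slotEl s (rG hf (u 3)) * slotEl l (rG hf a) := ⟨_, rfl⟩
  have hzP : P' = z * P := by
    rw [hP', hz, hP, ← mul_assoc, slotEl_mul, half, c23, mul_assoc (rG hf (u 3)), rG_mul_self, mul_one]
  obtain ⟨H, hHd⟩ : ∃ H : Subgroup (GL (Idx 2 4) F), H = M ⊓ Subgroup.centralizer {z} ⊓ Subgroup.centralizer {P} :=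
    ⟨_, rfl⟩
  have memH : ∀ x, x ∈ H ↔ x ∈ M ∧ x * z = z * x ∧ x * P = P * x := fun x => by
    rw [hHd, Subgroup.mem_inf, Subgroup.mem_inf, Subgroup.mem_centralizer_singleton_iff,
      Subgroup.mem_centralizer_singleton_iff, and_assoc]
  obtain ⟨x₀, hx₀⟩ : ∃ x₀, x₀ = pt2 s (u 3) a := ⟨_, rfl⟩
  obtain ⟨S, hS⟩ : ∃ S : Subgroup (GL (Idx 2 4) F), ∀ g, g ∈ S ↔ g.val *ᵥ x₀ = x₀ :=
    ⟨{ carrier := {g | g.val *ᵥ x₀ = x₀}
       one_mem' := by simp
       mul_mem' := fun {g h} hg hh => by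
         change (g * h).val *ᵥ x₀ = x₀
         rw [Transvec.mul_mulVec, hh, hg]
       inv_mem' := fun {g} hg => by
         change g⁻¹.val *ᵥ x₀ = x₀
         conv_lhs => rw [← (show g.val *ᵥ x₀ = x₀ from hg)]
         rw [Transvec.inv_mulVec_cancel] }, fun g => Iff.rfl⟩
  have hrootH : ∀ e d : Fin 4 → F, f e e = 0 → f e d = 0 → f d d ≠ 0 → f e a = 0 → f d a = 0 →
      slotEl l (eU hf h2 e d) ∈ H ⊓ S := fun e d hee hed hd hea hda => by
    have hfix : (eU hf h2 e d).val *ᵥ a = a := eU_fix hf h2 hee hed (by rw [hf.symm, hea]) (by rw [hf.symm, hda])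
    have hcm : eU hf h2 e d * rG hf a = rG hf a * eU hf h2 e d := by
      have h := OPow.rG_conj hf (OPow.eU_iso hf h2 e d) a
      rw [hfix] at h
      conv_rhs => rw [← h, inv_mul_cancel_right]
    refine Subgroup.mem_inf.mpr ⟨(memH _).mpr ⟨C.ctx.eU_mem l hee hed hd, hz ▸ slotEl_commute hsl.symm _ _, ?_⟩,
      (hS _).mpr (by rw [hx₀, slot_pt2' hsl, hfix])⟩
    rw [hP, ← mul_assoc, slotEl_commute hsl.symm, mul_assoc, slotEl_mul, hcm, ← slotEl_mul, ← mul_assoc]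
  have hpairH : ∀ w : Fin 4 → F, f w w ≠ 0 → f w a = 0 →
      slotEl s (rG hf (u 0)) * slotEl l (rG hf w) ∈ H ⊓ S := fun w hw hwa => by
    have hcm : rG hf w * rG hf a = rG hf a * rG hf w := by
      have h := OPow.rG_conj hf (rG_iso hf w) a
      rw [rG_fix hf hw (show f a w = 0 by rw [hf.symm, hwa])] at h
      conv_rhs => rw [← h, inv_mul_cancel_right]
    refine Subgroup.mem_inf.mpr ⟨(memH _).mpr ⟨C.pair_mem hsl (hu.aniso 0) hw, ?_, ?_⟩, (hS _).mpr ?_⟩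
    · rw [hz, mul_assoc, slotEl_commute hsl.symm, ← mul_assoc, slotEl_mul,
        hu.eig_comm hf (hu.eig_rG hf 0) (half_eig hf hu), ← slotEl_mul, mul_assoc]
    · rw [hP]
      exact slot_comm_other hsl _ _ _ _ (hu.eig_comm hf (hu.eig_rG hf 0) (hu.eig_rG hf 2)) hcm
    · rw [hx₀, Transvec.mul_mulVec, slot_pt2' hsl, slot_pt2, rG_fix hf (hu.aniso 0) (hu.orth 3 0 (by decide)),
        rG_fix hf hw (show f a w = 0 by rw [hf.symm, hwa])]
  have htwo : ∀ k ∈ H, (∃ δ : F, k.val *ᵥ pt2 s (u 2) a = δ • pt2 s (u 2) a) →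
      (∃ ε : F, k.val *ᵥ pt2 s (u 3) a = ε • pt2 s (u 3) a) → IsTW k := fun k hk ⟨δ, hδ⟩ ⟨ε, hε⟩ => by
    obtain ⟨hkM, hkz, hkP⟩ := (memH k).mp hk
    exact C.gamma_stab hsl hu ha hkM (hz ▸ hkz) (hP ▸ hkP) hδ hε
  -- the stabiliser of one vector
  have hstage : ∀ k ∈ H ⊓ S, IsTW k := by
    refine orb u (Or.inl rfl) (H ⊓ S) (fun k hk => ?_) hrootH hpairH (fun k hk hδ => ?_)
    · obtain ⟨hkM, hkz, hkP⟩ := (memH k).mp (Subgroup.mem_inf.mp hk).1
      exact ⟨hkM, hz ▸ hkz, hP ▸ hkP⟩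
    · exact htwo k (Subgroup.mem_inf.mp hk).1 hδ ⟨1, by
        rw [one_smul, ← hx₀]; exact (hS k).mp (Subgroup.mem_inf.mp hk).2⟩
  refine orb u' (Or.inr hu') H (fun k hk => ?_) (fun e d h1 h3 h4 h5 h6 => (Subgroup.mem_inf.mp (hrootH e d h1 h3 h4 h5 h6)).1)
    (fun w h1 h3 => by rw [hu0]; exact (Subgroup.mem_inf.mp (hpairH w h1 h3)).1) (fun k hk hδ => ?_) g
    ((memH g).mpr ⟨hg, hz ▸ hgz, hP ▸ hgP⟩)
  · obtain ⟨hkM, hkz, hkP⟩ := (memH k).mp hk
    refine ⟨hkM, by rw [hh, ← hz]; exact hkz, ?_⟩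
    rw [hu2, ← hP', hzP, ← mul_assoc, hkz, mul_assoc, hkP, ← mul_assoc]
  · rw [hu2] at hδ
    obtain ⟨δ, hδ⟩ := hδ
    obtain ⟨hkM, -, -⟩ := (memH k).mp hk
    have hδ2 : δ * δ = 1 := by
      have h := C.bil_iso hkM (pt2 s (u 3) a) (pt2 s (u 3) a)
      rw [hδ, OPow.bil_smul_left, OPow.bil_smul_right, bil_pt2 hf, ← mul_assoc] at h
      exact mul_right_cancel₀ (mul_ne_zero (hu.aniso 3) ha) (by rw [one_mul]; exact h)
    rcases mul_self_eq_one_iff.mp hδ2 with hd1 | hd1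
    · exact hstage k (Subgroup.mem_inf.mpr ⟨hk, (hS k).mpr (by rw [hx₀, hδ, hd1, one_smul])⟩)
    · -- the negative of the element fixes the vector
      obtain ⟨m, hm⟩ : ∃ m, m = slotEl s (half hf u) * k := ⟨_, rfl⟩
      have hmH : m ∈ H := by
        rw [hm, ← hz]
        refine H.mul_mem ((memH z).mpr ⟨hz ▸ C.ctx.half_mem s hu, rfl, ?_⟩) hk
        rw [hz, hP, ← mul_assoc, slotEl_mul, hu.eig_comm hf (half_eig hf hu) (hu.eig_rG hf 2), mul_assoc,
          slotEl_commute hsl.symm, ← mul_assoc, slotEl_mul]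
      have := hstage m (Subgroup.mem_inf.mpr ⟨hmH, (hS m).mpr (by
        rw [hx₀, hm, Transvec.mul_mulVec, hδ, hd1, neg_one_smul, mulVec_neg, slot_pt2,
          show (half hf u).val *ᵥ u 3 = -u 3 by rw [(half_eig hf hu).act]; simp, pt2_neg_left, neg_neg])⟩)
      have h1 := isTW_mul (slotEl_tw s (half hf u)) this
      rwa [hm, ← mul_assoc, slotEl_mul, (half_iso hf hu).2.2, slot_one, one_mul] at h1

/-- The centraliser of a half turn and a pair negated by it, with an anisotropic plane. -/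
theorem gamma_aniso {s l : Fin 2} (hsl : s ≠ l) {u : Fin 4 → Fin 4 → F} (hu : Frame f u)
    (hpl : ¬ IsSquare (-(f (u 2) (u 2) * f (u 3) (u 3)))) {a : Fin 4 → F} (ha : f a a ≠ 0)
    {g : GL (Idx 2 4) F} (hg : g ∈ M)
    (hgz : g * slotEl s (half C.ctx.sym u) = slotEl s (half C.ctx.sym u) * g)
    (hgP : g * (slotEl s (rG C.ctx.sym (u 2)) * slotEl l (rG C.ctx.sym a)) =
      slotEl s (rG C.ctx.sym (u 2)) * slotEl l (rG C.ctx.sym a) * g) : IsTW g :=
  C.gamma_core hsl hu ha (fun v hv K hK hroot _ hy => by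
    refine C.orbit_aniso hsl ?_ ha ?_ K hK hroot hy
    · rcases hv with rfl | rfl
      exacts [hu, hu.perm C.ctx.sym _]
    · rcases hv with rfl | rfl
      · exact hpl
      · simpa [Equiv.swap_apply_def, mul_comm] using hpl) hg hgz hgP

/-- The centraliser of a half turn and a pair of reflections commuting with it. -/
theorem gamma {s l : Fin 2} (hsl : s ≠ l) {X : GL (Fin 4) F} (hX : IsHalf C.ctx.sym X) {v a : Fin 4 → F}
    (hv : f v v ≠ 0) (ha : f a a ≠ 0) (hXv : rG C.ctx.sym v * X = X * rG C.ctx.sym v)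
    {g : GL (Idx 2 4) F} (hg : g ∈ M) (hgz : g * slotEl s X = slotEl s X * g)
    (hgP : g * (slotEl s (rG C.ctx.sym v) * slotEl l (rG C.ctx.sym a)) =
      slotEl s (rG C.ctx.sym v) * slotEl l (rG C.ctx.sym a) * g) : IsTW g := by
  have hf := C.ctx.sym
  have h2 := C.ctx.two
  obtain ⟨Y, hY, hYv, hgY⟩ : ∃ Y, IsHalf hf Y ∧ Y.val *ᵥ v = -v ∧ g * slotEl s Y = slotEl s Y * g := by
    rcases hX.comm_cases hf h2 hv hXv with h | h
    · exact ⟨-X, hX.neg hf h2, by rw [Units.val_neg, neg_mulVec, h], by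
        rw [← neg_slotEl, mul_neg, neg_mul, hgz]⟩
    · exact ⟨X, hX, h, hgz⟩
  obtain ⟨u, hu, hu2, rfl⟩ := hY.adapt_neg hf h2 hv hYv
  subst hu2
  by_cases hpl : IsSquare (-(f (u 2) (u 2) * f (u 3) (u 3)))
  · refine C.gamma_core hsl hu ha (fun v hv K hK _ hpair hy => ?_) hg hgY hgP
    refine C.orbit_iso hsl ?_ ha ?_ K hK hpair (fun w hw hn c hc g hg h1 h3 => C.gamma_aniso hsl hw hn hc hg h1 h3) hy
    · rcases hv with rfl | rfl
      exacts [hu, hu.perm hf _]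
    · rcases hv with rfl | rfl
      · exact hpl
      · simpa [Equiv.swap_apply_def, mul_comm] using hpl
  · exact C.gamma_aniso hsl hu hpl ha hg hgY hgP

end TwoCtx

end CfsgLib.Classical22.OFour
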