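/-
Involutions commuting with a pair of reflections of two slots.
-/
import Cfsg.Agent.Lib.Classical22.OrthFour.Gamma

set_option autoImplicit false
set_option linter.unusedSectionVars false
set_option linter.unusedSimpArgs false

namespace CfsgLib.Classical22.OFour

open Matrix CfsgLib.Transvec CfsgLib.Classical22.TensorMax CfsgLib.Classical22.TensorMax.SympO
open CfsgLib.Classical22.TensorMax.SpO (sym_zero_left)
open CfsgLib.Classical22.TWMax (Idx pv slotEl slotEl_mul slotEl_data TWData IsTW)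
open CfsgLib.Classical22.OFour.MCtx (slot_refl_sq)
open CfsgLib.Classical22.OPow (rG rG_iso rG_mul_self eU isoF isTW_mul isTW_inv slotEl_commute)
open scoped MatrixGroups

variable {F : Type*} [Field F] {f : (Fin 4 → F) → (Fin 4 → F) → F}

/-- The negative of an involution. -/
lemma sig_neg {ι : Type} [Fintype ι] [DecidableEq ι] (h2 : (2 : F) ≠ 0) {g : GL ι F} (hg : g * g = 1) :
    sig (-g) = -sig g := by
  obtain ⟨A, hA⟩ : ∃ A, A = LinearMap.ker (Matrix.mulVecLin g.val - LinearMap.id) := ⟨_, rfl⟩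
  obtain ⟨B, hB⟩ : ∃ B, B = LinearMap.ker (Matrix.mulVecLin (-g).val - LinearMap.id) := ⟨_, rfl⟩
  have memA : ∀ x, x ∈ A ↔ g.val *ᵥ x = x := fun x => by simp [hA, sub_eq_zero]
  have memB : ∀ x, x ∈ B ↔ g.val *ᵥ x = -x := fun x => by
    simp [hB, sub_eq_zero, neg_mulVec, neg_eq_iff_eq_neg]
  have hgg : ∀ x, g.val *ᵥ (g.val *ᵥ x) = x := fun x => by
    rw [← Transvec.mul_mulVec, hg, Units.val_one, one_mulVec]
  have hsup : A ⊔ B = ⊤ := by
    rw [eq_top_iff]
    intro x _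
    refine Submodule.mem_sup.mpr ⟨(2 : F)⁻¹ • (x + g.val *ᵥ x), (memA _).mpr ?_, (2 : F)⁻¹ • (x - g.val *ᵥ x),
      (memB _).mpr ?_, ?_⟩
    · rw [mulVec_smul, mulVec_add, hgg, add_comm]
    · rw [mulVec_smul, mulVec_sub, hgg, ← smul_neg, neg_sub]
    · rw [← smul_add, show x + g.val *ᵥ x + (x - g.val *ᵥ x) = (2 : F) • x by rw [two_smul]; abel,
        inv_smul_smul₀ h2]
  have hinf : A ⊓ B = ⊥ := by
    rw [eq_bot_iff]
    intro x hx
    obtain ⟨h1, h3⟩ := Submodule.mem_inf.mp hx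
    have h4 : (2 : F) • x = 0 := by
      have e : x = -x := ((memA x).mp h1).symm.trans ((memB x).mp h3)
      rw [two_smul]; nth_rewrite 2 [e]; rw [add_neg_cancel]
    exact (Submodule.mem_bot F).mpr ((smul_eq_zero.mp h4).resolve_left h2)
  have h := Submodule.finrank_sup_add_finrank_inf_eq A B
  rw [hsup, hinf, finrank_bot, finrank_top, Module.finrank_pi] at h
  unfold sig
  rw [← hA, ← hB]
  omega

variable [Fintype F]

/-- An involution with two signs of each kind on a frame is a half turn. -/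
lemma isHalf_of_sum (hf : Cfsg.Geo.IsSymmetricForm f) (h2 : (2 : F) ≠ 0) {u : Fin 4 → Fin 4 → F} (hu : Frame f u)
    {A : GL (Fin 4) F} {e : Fin 4 → ℤ} (hA : Eig A u e) (hs : ∑ i, e i = 0) : IsHalf hf A := by
  obtain ⟨i, j, hij, hi, hj, hr⟩ : ∃ i j, i ≠ j ∧ e i = -1 ∧ e j = -1 ∧ ∀ l, l ≠ i → l ≠ j → e l = 1 := by
    rw [Fin.sum_univ_four] at hs
    rcases hA.sgn 0 with a | a <;> rcases hA.sgn 1 with b | b <;> rcases hA.sgn 2 with c | c <;>
      rcases hA.sgn 3 with d | d <;> rw [a, b, c, d] at hs <;> norm_num at hs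
    · exact ⟨2, 3, by decide, c, d, fun l h1 h3 => by fin_cases l <;> simp_all⟩
    · exact ⟨1, 3, by decide, b, d, fun l h1 h3 => by fin_cases l <;> simp_all⟩
    · exact ⟨1, 2, by decide, b, c, fun l h1 h3 => by fin_cases l <;> simp_all⟩
    · exact ⟨0, 3, by decide, a, d, fun l h1 h3 => by fin_cases l <;> simp_all⟩
    · exact ⟨0, 2, by decide, a, c, fun l h1 h3 => by fin_cases l <;> simp_all⟩
    · exact ⟨0, 1, by decide, a, b, fun l h1 h3 => by fin_cases l <;> simp_all⟩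
  rw [hu.eig_ext hf hA (B := rG hf (u i) * rG hf (u j)) ?_]
  · exact isHalf_refl_refl hf h2 (hu.aniso i) (hu.aniso j) (hu.orth i j hij)
  · have h := (hu.eig_rG hf i).mul (hu.eig_rG hf j)
    rw [show (fun l => if l = i then (-1 : ℤ) else 1) * (fun l => if l = j then (-1 : ℤ) else 1) = e from
      funext fun l => by
        by_cases h1 : l = i
        · subst h1; simp [hi, hij]
        · by_cases h3 : l = j
          · subst h3; simp [hj, h1]
          · simp [hr l h1 h3, h1, h3]] at h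
    exact h

/-- Reflections agreeing up to a scalar commuting with two reflections. -/
lemma refl_mul_cases (hf : Cfsg.Geo.IsSymmetricForm f) (h2 : (2 : F) ≠ 0) {v p : Fin 4 → F} (hv : f v v ≠ 0)
    (hp : f p p ≠ 0) (h : rG hf p * rG hf v = rG hf v * rG hf p) :
    rG hf v * rG hf p = 1 ∨ (IsHalf hf (rG hf v * rG hf p) ∧ rG hf v * (rG hf v * rG hf p) = rG hf v * rG hf p * rG hf v) := by
  rcases rG_comm hf h2 hp hv h with h1 | h1
  · exact Or.inr ⟨isHalf_refl_refl hf h2 hv hp h1, by rw [mul_assoc, h]⟩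
  · exact Or.inl (by rw [h1, rG_mul_self])

variable {M : Subgroup (GL (Idx 2 4) F)}

/-- An element whose centraliser together with that of `P` consists of tensor wreath elements, and which commutes
with some root together with `P`. -/
def Good (hf : Cfsg.Geo.IsSymmetricForm f) (h2 : (2 : F) ≠ 0) (M : Subgroup (GL (Idx 2 4) F))
    (P y : GL (Idx 2 4) F) : Prop :=
  (∀ g ∈ M, g * y = y * g → g * P = P * g → IsTW g) ∧
    ∃ (l : Fin 2) (e d : Fin 4 → F), e ≠ 0 ∧ f e e = 0 ∧ f e d = 0 ∧ f d d ≠ 0 ∧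
      slotEl l (eU hf h2 e d) * y = y * slotEl l (eU hf h2 e d) ∧
      slotEl l (eU hf h2 e d) * P = P * slotEl l (eU hf h2 e d)

namespace TwoCtx
variable (C : TwoCtx f M)
include C

omit C in
lemma neg_mem_of (hf : Cfsg.Geo.IsSymmetricForm f) {g : GL (Idx 2 4) F} (C : TwoCtx f M) (hg : g ∈ M) : -g ∈ M := by
  have h1 : slotEl (0 : Fin 2) (-1 : GL (Fin 4) F) ∈ M := C.ctx.slot 0 _ (fun x y => by
    rw [Units.val_neg, Units.val_one, neg_mulVec, neg_mulVec, one_mulVec, one_mulVec, SpO.sym_neg_left hf,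
      OO.sym_neg_right hf, neg_neg]) (by rw [Units.val_neg, Units.val_one, det_neg, det_one]; norm_num)
  have h2 : slotEl (0 : Fin 2) (-1 : GL (Fin 4) F) * g = -g := by
    rw [← neg_slotEl, slot_one, neg_one_mul]
  exact h2 ▸ M.mul_mem h1 hg

lemma neg_mem {g : GL (Idx 2 4) F} (hg : g ∈ M) : -g ∈ M := neg_mem_of C.ctx.sym C hg

omit C in
lemma isTW_neg {g : GL (Idx 2 4) F} (hg : IsTW g) : IsTW (-g) := by
  have h2 : slotEl (0 : Fin 2) (-1 : GL (Fin 4) F) * g = -g := by rw [← neg_slotEl, slot_one, neg_one_mul]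
  exact h2 ▸ isTW_mul (slotEl_tw 0 _) hg

/-- A half turn of one slot commuting with the pair. -/
lemma good_single {s l : Fin 2} (hsl : s ≠ l) {X : GL (Fin 4) F} (hX : IsHalf C.ctx.sym X) {v a : Fin 4 → F}
    (hv : f v v ≠ 0) (ha : f a a ≠ 0) (hXv : rG C.ctx.sym v * X = X * rG C.ctx.sym v) :
    Good C.ctx.sym C.ctx.two M (slotEl s (rG C.ctx.sym v) * slotEl l (rG C.ctx.sym a)) (slotEl s X) := by
  refine ⟨fun g hg h1 h3 => C.gamma hsl hX hv ha hXv hg h1 h3, ?_⟩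
  have hf := C.ctx.sym
  obtain ⟨e, d, he, hee, hed, hd, hea, hda⟩ := exists_root_perp hf C.ctx.two ha
  refine ⟨l, e, d, he, hee, hed, hd, slotEl_commute hsl.symm _ _, ?_⟩
  have hfix : (eU hf C.ctx.two e d).val *ᵥ a = a :=
    eU_fix hf C.ctx.two hee hed (by rw [hf.symm, hea]) (by rw [hf.symm, hda])
  have hcm : eU hf C.ctx.two e d * rG hf a = rG hf a * eU hf C.ctx.two e d := by
    have h := OPow.rG_conj hf (OPow.eU_iso hf C.ctx.two e d) a
    rw [hfix] at h
    conv_rhs => rw [← h, inv_mul_cancel_right]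
  rw [← mul_assoc, slotEl_commute hsl.symm, mul_assoc, slotEl_mul, hcm, ← slotEl_mul, ← mul_assoc]

/-- An element conjugating a good element to a good element. -/
theorem tw_of_good_conj {P x : GL (Idx 2 4) F} {d : GL (Idx 2 4) F} (hd : d ∈ M) (hdP : d * P = P * d)
    (hx : Good C.ctx.sym C.ctx.two M P x) (hy : Good C.ctx.sym C.ctx.two M P (d * x * d⁻¹)) : IsTW d := by
  obtain ⟨-, l, e, w, he, hee, hew, hw, hcx, hcP⟩ := hx
  refine C.ctx.tw_of_conj_root hd he hee hew hw (hy.1 _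
    (M.mul_mem (M.mul_mem hd (C.ctx.eU_mem l hee hew hw)) (M.inv_mem hd)) ?_ ?_)
  · rw [conj_mul, conj_mul, hcx]
  · have hP : d * P * d⁻¹ = P := by rw [hdP, mul_inv_cancel_right]
    rw [← hP, conj_mul, conj_mul, hcP]

omit C in
/-- The eigenvalue on the pure vector of the pair, as a sign. -/
lemma half_sign (hf : Cfsg.Geo.IsSymmetricForm f) (h2 : (2 : F) ≠ 0) {X : GL (Fin 4) F} (hX : IsHalf hf X)
    {v : Fin 4 → F} (hv : f v v ≠ 0) (hXv : rG hf v * X = X * rG hf v) :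
    ∃ ε : ℤ, (ε = 1 ∨ ε = -1) ∧ X.val *ᵥ v = (ε : F) • v := by
  rcases hX.comm_cases hf h2 hv hXv with h | h
  · exact ⟨1, Or.inl rfl, by simp [h]⟩
  · exact ⟨-1, Or.inr rfl, by simp [h]⟩

lemma sig_single {s l : Fin 2} (hsl : s ≠ l) {X : GL (Fin 4) F} (hX : IsHalf C.ctx.sym X) {v a : Fin 4 → F}
    (hv : f v v ≠ 0) (ha : f a a ≠ 0) (hXv : rG C.ctx.sym v * X = X * rG C.ctx.sym v) :
    ∃ ε : ℤ, (ε = 1 ∨ ε = -1) ∧ (slotEl s X).val *ᵥ pt2 s v a = (ε : F) • pt2 s v a ∧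
      sig (slotEl s X * (slotEl s (rG C.ctx.sym v) * slotEl l (rG C.ctx.sym a))) = -4 * ε := by
  rcases hX.comm_cases C.ctx.sym C.ctx.two hv hXv with h | h
  · exact ⟨1, Or.inl rfl, by rw [slot_pt2, h]; simp,
      by rw [C.ctx.sig_half_pair_fix hsl hX hv ha h]; norm_num⟩
  · exact ⟨-1, Or.inr rfl, by rw [slot_pt2, h, pt2_neg_left]; simp,
      by rw [C.ctx.sig_half_pair_neg hsl hX hv ha h]; norm_num⟩

lemma sum_half_refl {X : GL (Fin 4) F} (hX : IsHalf C.ctx.sym X) {v : Fin 4 → F}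
    (hv : f v v ≠ 0) {ε : ℤ} (hε : ε = 1 ∨ ε = -1) (h : X.val *ᵥ v = (ε : F) • v) :
    ∃ u e, Frame f u ∧ Eig (X * rG C.ctx.sym v) u e ∧ ∑ i, e i = -2 * ε := by
  have hf := C.ctx.sym
  rcases hε with rfl | rfl
  · obtain ⟨u, hu, h0, rfl⟩ := hX.adapt_fix hf C.ctx.two hv (by simpa using h)
    exact ⟨u, _, hu, h0 ▸ (half_eig hf hu).mul (hu.eig_rG hf 0), by simp [Fin.sum_univ_four]⟩
  · obtain ⟨u, hu, h0, rfl⟩ := hX.adapt_neg hf C.ctx.two hv (by simpa using h)
    exact ⟨u, _, hu, h0 ▸ (half_eig hf hu).mul (hu.eig_rG hf 2), by simp [Fin.sum_univ_four]⟩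

lemma sig_double {s l : Fin 2} (hsl : s ≠ l) {X Y : GL (Fin 4) F} (hX : IsHalf C.ctx.sym X)
    (hY : IsHalf C.ctx.sym Y) {v a : Fin 4 → F} (hv : f v v ≠ 0) (ha : f a a ≠ 0)
    (hXv : rG C.ctx.sym v * X = X * rG C.ctx.sym v) (hYa : rG C.ctx.sym a * Y = Y * rG C.ctx.sym a) :
    ∃ ε : ℤ, (ε = 1 ∨ ε = -1) ∧ (slotEl s X * slotEl l Y).val *ᵥ pt2 s v a = (ε : F) • pt2 s v a ∧
      sig (slotEl s X * slotEl l Y * (slotEl s (rG C.ctx.sym v) * slotEl l (rG C.ctx.sym a))) = 4 * ε := by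
  have hf := C.ctx.sym
  obtain ⟨ε, hε, he⟩ := half_sign hf C.ctx.two hX hv hXv
  obtain ⟨η, hη, he'⟩ := half_sign hf C.ctx.two hY ha hYa
  obtain ⟨u, e, hu, hue, hus⟩ := C.sum_half_refl hX hv hε he
  obtain ⟨w, e', hw, hwe, hws⟩ := C.sum_half_refl hY ha hη he'
  refine ⟨ε * η, by rcases hε with rfl | rfl <;> rcases hη with rfl | rfl <;> simp, ?_, ?_⟩
  · rw [Transvec.mul_mulVec, slot_pt2' hsl, slot_pt2, he, he', pt2_smul_left, pt2_smul_right, smul_smul,
      Int.cast_mul]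
  · have e1 : slotEl s X * slotEl l Y * (slotEl s (rG hf v) * slotEl l (rG hf a)) =
        slotEl s (X * rG hf v) * slotEl l (Y * rG hf a) := by
      rw [mul_assoc, ← mul_assoc (slotEl l Y), slotEl_commute hsl.symm, mul_assoc (slotEl s (rG hf v)), slotEl_mul,
        ← mul_assoc, slotEl_mul]
    rw [e1, C.ctx.sig_two hsl hu hue hw hwe, hus, hws]
    ring

/-- A half turn in either slot, or half turns in both. -/
theorem sort {s l : Fin 2} (hsl : s ≠ l) {v a : Fin 4 → F} (hv : f v v ≠ 0) (ha : f a a ≠ 0)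
    {y : GL (Idx 2 4) F} (hy : y ∈ M) (htw : IsTW y) (hy2 : y * y = 1)
    (hyP : y * (slotEl s (rG C.ctx.sym v) * slotEl l (rG C.ctx.sym a)) =
      slotEl s (rG C.ctx.sym v) * slotEl l (rG C.ctx.sym a) * y)
    (hsig : sig (y * (slotEl s (rG C.ctx.sym v) * slotEl l (rG C.ctx.sym a))) = 4 ∨
      sig (y * (slotEl s (rG C.ctx.sym v) * slotEl l (rG C.ctx.sym a))) = -4) (h0 : sig y = 0) :
    (∃ X, IsHalf C.ctx.sym X ∧ ((rG C.ctx.sym v * X = X * rG C.ctx.sym v ∧ y = slotEl s X) ∨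
      (rG C.ctx.sym a * X = X * rG C.ctx.sym a ∧ y = slotEl l X))) ∨
    ∃ X Y, IsHalf C.ctx.sym X ∧ IsHalf C.ctx.sym Y ∧ rG C.ctx.sym v * X = X * rG C.ctx.sym v ∧
      rG C.ctx.sym a * Y = Y * rG C.ctx.sym a ∧ y = slotEl s X * slotEl l Y := by
  have hf := C.ctx.sym
  have h2 := C.ctx.two
  obtain ⟨P, hP⟩ : ∃ P, P = slotEl s (rG hf v) * slotEl l (rG hf a) := ⟨_, rfl⟩
  rw [← hP] at hyP hsig
  have hPM : P ∈ M := hP ▸ C.pair_mem hsl hv ha
  have hP2 : P * P = 1 := hP ▸ pair_invol hf hsl v a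
  have hPtw : IsTW P := hP ▸ isTW_mul (slotEl_tw s _) (slotEl_tw l _)
  have hq2 : y * P * (y * P) = 1 := invol_mul hy2 hP2 hyP
  obtain ⟨ε, hε, q, hq, hqM, hqtw, hqq, hqs, hye⟩ : ∃ (ε : F) (_ : ε = 1 ∨ ε = -1) (q : GL (Idx 2 4) F)
      (_ : q * P = P * q), q ∈ M ∧ IsTW q ∧ q * q = 1 ∧ sig q = 4 ∧ (y = q * P ∧ ε = 1 ∨ y = -(q * P) ∧ ε = -1) := by
    rcases hsig with h | h
    · exact ⟨1, Or.inl rfl, y * P, by rw [mul_assoc, hP2, mul_one, ← mul_assoc, ← hyP, mul_assoc, hP2, mul_one],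
        M.mul_mem hy hPM, isTW_mul htw hPtw, hq2, h, Or.inl ⟨by rw [mul_assoc, hP2, mul_one], rfl⟩⟩
    · refine ⟨-1, Or.inr rfl, -(y * P), ?_, C.neg_mem (M.mul_mem hy hPM), isTW_neg (isTW_mul htw hPtw),
        by rw [neg_mul_neg, hq2], by rw [sig_neg h2 hq2, h, neg_neg],
        Or.inr ⟨by rw [neg_mul, neg_neg, mul_assoc, hP2, mul_one], rfl⟩⟩
      rw [neg_mul, mul_neg, mul_assoc, hP2, mul_one, ← mul_assoc, ← hyP, mul_assoc, hP2, mul_one]
  obtain ⟨p, c, hp, hc, hqpc⟩ := C.pair_of_sig hqM hqtw hqq hqs hsl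
  have e0 : q * P = slotEl s (rG hf p * rG hf v) * slotEl l (rG hf c * rG hf a) := by
    rw [hqpc, hP, mul_assoc, ← mul_assoc (slotEl l (rG hf c)), slotEl_commute hsl.symm,
      mul_assoc (slotEl s (rG hf v)), slotEl_mul, ← mul_assoc, slotEl_mul]
  have e1 : P * q = slotEl s (rG hf v * rG hf p) * slotEl l (rG hf a * rG hf c) := by
    rw [hqpc, hP, mul_assoc, ← mul_assoc (slotEl l (rG hf a)), slotEl_commute hsl.symm,
      mul_assoc (slotEl s (rG hf p)), slotEl_mul, ← mul_assoc, slotEl_mul]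
  have hcomm : rG hf p * rG hf v = rG hf v * rG hf p ∧ rG hf c * rG hf a = rG hf a * rG hf c := by
    have h := e0.symm.trans (hq.trans e1)
    have key : ∀ {s' l' : Fin 2} {x z x' z' : Fin 4 → F}, s' ≠ l' → f x x ≠ 0 → f z z ≠ 0 →
        slotEl s' (rG hf x * rG hf z) * slotEl l' (rG hf x' * rG hf z') =
          slotEl s' (rG hf z * rG hf x) * slotEl l' (rG hf z' * rG hf x') →
        rG hf x * rG hf z = rG hf z * rG hf x := by
      intro s' l' x z x' z' hne hx hz he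
      obtain ⟨k, hk0, hk⟩ := pair_slot_eq hne he
      -- the determinant forces a sign; a negative sign would negate a fixed vector
      obtain ⟨W, hW, hd, hWp⟩ := exists_perp hf h2 [z] (by simp) (by simp [hz])
      obtain ⟨n, hn, hn0, hnx⟩ : ∃ n, n ∈ W ∧ n ≠ 0 ∧ f n x = 0 := by
        let φ : W →ₗ[F] F :=
          { toFun := fun n => f (n : Fin 4 → F) x
            map_add' := fun a b => by simp [hf.bilinear.add_left]
            map_smul' := fun a b => by simp [hf.bilinear.smul_left] }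
        have hr := LinearMap.finrank_range_add_finrank_ker φ
        have hr1 : Module.finrank F (LinearMap.range φ) ≤ 1 :=
          (Submodule.finrank_le _).trans_eq (Module.finrank_self F)
        have hW3 : 3 ≤ Module.finrank F W := by simpa using hd
        obtain ⟨⟨n, hnW⟩, hnk, hn0⟩ := Submodule.exists_mem_ne_zero_of_ne_bot
          (show LinearMap.ker φ ≠ ⊥ from fun hbot => by rw [hbot, finrank_bot] at hr; omega)
        exact ⟨n, hnW, fun h0 => hn0 (Subtype.ext h0), LinearMap.mem_ker.mp hnk⟩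
      have hnz : f n z = 0 := by simpa using (hWp n).mp hn
      have := congrArg (fun A => A *ᵥ n) hk
      simp only [Units.val_mul, smul_mulVec, ← mulVec_mulVec, rG_fix hf hz hnz, rG_fix hf hx hnx] at this
      have hk1 : k = 1 := by
        have h3 : (k - 1) • n = 0 := by rw [sub_smul, one_smul, ← this, sub_self]
        exact sub_eq_zero.mp ((smul_eq_zero.mp h3).resolve_right hn0)
      exact (Units.ext (by rw [hk, hk1, one_smul])).symm
    refine ⟨key hsl hp hv h, key (x' := p) (z' := v) hsl.symm hc ha ?_⟩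
    rwa [slotEl_commute hsl.symm, slotEl_commute hsl.symm (rG hf a * rG hf c)]
  obtain ⟨hpv, hca⟩ := hcomm
  rw [hpv, hca] at e0
  -- absorb the sign into a component
  have hyform : y = slotEl s (rG hf v * rG hf p) * slotEl l (rG hf a * rG hf c) ∨
      y = slotEl s (-(rG hf v * rG hf p)) * slotEl l (rG hf a * rG hf c) := by
    rcases hye with ⟨h, -⟩ | ⟨h, -⟩
    · exact Or.inl (h.trans e0)
    · exact Or.inr (by rw [h, e0, ← neg_slotEl, neg_mul])
  have hcs := refl_mul_cases hf h2 hv hp hpv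
  have hcl := refl_mul_cases hf h2 ha hc hca
  obtain ⟨σ, hσ, hyσ⟩ : ∃ X : GL (Fin 4) F, ((X = 1 ∨ X = -1) ∨ (IsHalf hf X ∧ rG hf v * X = X * rG hf v)) ∧
      y = slotEl s X * slotEl l (rG hf a * rG hf c) := by
    rcases hyform with h | h
    · exact ⟨_, hcs.imp (fun e => Or.inl e) id, h⟩
    · refine ⟨_, ?_, h⟩
      rcases hcs with e | ⟨e, e'⟩
      · exact Or.inl (Or.inr (by rw [e]))
      · exact Or.inr ⟨e.neg hf h2, by rw [mul_neg, neg_mul, e']⟩
  rcases hcl with hl | ⟨hl, hla⟩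
  · rcases hσ with hσ | ⟨hσ, hσv⟩
    · exfalso
      have hs4 : sig y ≠ 0 := by
        obtain ⟨u, hu⟩ := exists_any_frame hf h2
        rw [hyσ, hl, slot_one, mul_one]
        rcases hσ with e | e <;> rw [e]
        · rw [C.ctx.sig_slot s hu (Eig.one u)]; simp
        · rw [C.ctx.sig_slot s hu (Eig.one u).neg]; simp
      exact hs4 h0
    · exact Or.inl ⟨σ, hσ, Or.inl ⟨hσv, by rw [hyσ, hl, slot_one, mul_one]⟩⟩
  · rcases hσ with hσ | ⟨hσ, hσv⟩
    · rcases hσ with rfl | rfl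
      · exact Or.inl ⟨_, hl, Or.inr ⟨hla, by rw [hyσ, slot_one, one_mul]⟩⟩
      · refine Or.inl ⟨_, hl.neg hf h2, Or.inr ⟨by rw [mul_neg, neg_mul, hla], ?_⟩⟩
        rw [hyσ, ← neg_slotEl, ← neg_slotEl, slot_one, neg_one_mul]
    · exact Or.inr ⟨σ, _, hσ, hl, hσv, hla, hyσ⟩

end TwoCtx

end CfsgLib.Classical22.OFour
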