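/-
The centraliser of a pair of reflections, and elements conjugating it into the tensor wreath group.
-/
import Cfsg.Agent.Lib.Classical22.OrthFour.Sort

set_option autoImplicit false
set_option linter.unusedSectionVars false
set_option linter.unusedSimpArgs false

namespace CfsgLib.Classical22.OFour

open Matrix CfsgLib.Transvec CfsgLib.Classical22.TensorMax CfsgLib.Classical22.TensorMax.SympO
open CfsgLib.Classical22.TensorMax.SpO (sym_zero_left)
open CfsgLib.Classical22.TWMax (Idx pv slotEl slotEl_mul slotEl_data TWData IsTW)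
open CfsgLib.Classical22.OFour.MCtx (slot_refl_sq)
open CfsgLib.Classical22.OPow (rG rG_iso rG_mul_self eU isoF isTW_mul isTW_inv slotEl_commute)
open scoped MatrixGroups

variable {F : Type*} [Field F] [Fintype F] {f : (Fin 4 → F) → (Fin 4 → F) → F}
  {M : Subgroup (GL (Idx 2 4) F)}

omit [Fintype F] in
/-- Two sign vectors with vanishing sums. -/
lemma zero_sum_pairs {x y : Fin 4 → ℤ} (hx : ∀ i, x i = 1 ∨ x i = -1) (hy : ∀ i, y i = 1 ∨ y i = -1)
    (h1 : ∑ i, x i = 0) (h3 : ∑ i, y i = 0) : y = x ∨ y = -x ∨ ∑ i, (x * y) i = 0 := by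
  obtain ⟨b, rfl⟩ : ∃ b : Fin 4 → Bool, x = fun j => if b j then 1 else -1 :=
    ⟨fun j => decide (x j = 1), funext fun j => by rcases hx j with h | h <;> simp [h]⟩
  obtain ⟨c, rfl⟩ : ∃ c : Fin 4 → Bool, y = fun j => if c j then 1 else -1 :=
    ⟨fun j => decide (y j = 1), funext fun j => by rcases hy j with h | h <;> simp [h]⟩
  have key : ∀ b0 b1 b2 b3 c0 c1 c2 c3 : Bool, [b0, b1, b2, b3].count true = 2 → [c0, c1, c2, c3].count true = 2 →
      (b0 = c0 ∧ b1 = c1 ∧ b2 = c2 ∧ b3 = c3) ∨ (b0 = !c0 ∧ b1 = !c1 ∧ b2 = !c2 ∧ b3 = !c3) ∨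
        [b0 == c0, b1 == c1, b2 == c2, b3 == c3].count true = 2 := by decide +kernel
  have hsum : ∀ p : Fin 4 → Bool, ∑ j, (if p j then (1 : ℤ) else -1) =
      2 * ([p 0, p 1, p 2, p 3].count true : ℕ) - 4 := fun p => by
    rw [Fin.sum_univ_four]
    cases p 0 <;> cases p 1 <;> cases p 2 <;> cases p 3 <;> simp
  rw [hsum] at h1 h3
  rcases key (b 0) (b 1) (b 2) (b 3) (c 0) (c 1) (c 2) (c 3) (by omega) (by omega) with
    ⟨e0, e1, e2, e3⟩ | ⟨e0, e1, e2, e3⟩ | e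
  · refine Or.inl (funext fun j => ?_)
    have hj : b j = c j := by fin_cases j <;> assumption
    simp [hj]
  · refine Or.inr (Or.inl (funext fun j => ?_))
    have hj : b j = !c j := by fin_cases j <;> assumption
    cases hc : c j <;> simp [hj, hc]
  · refine Or.inr (Or.inr ?_)
    rw [show ((fun j => if b j then (1 : ℤ) else -1) * fun j => if c j then (1 : ℤ) else -1) =
      fun j => if (b j == c j) then (1 : ℤ) else -1 from funext fun j => by cases hb : b j <;> cases hc : c j <;> simp [hb, hc],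
      hsum, e]
    rfl

namespace TwoCtx
variable (C : TwoCtx f M)
include C

omit C in
lemma sign_inj (h2 : (2 : F) ≠ 0) {ε η : ℤ} (hε : ε = 1 ∨ ε = -1) (hη : η = 1 ∨ η = -1) (h : (ε : F) = (η : F)) :
    ε = η := by
  rcases hε with rfl | rfl <;> rcases hη with rfl | rfl <;> try rfl
  all_goals
    exfalso
    push_cast at h
    first
      | exact h2 (by linear_combination h)
      | exact h2 (by linear_combination -h)

/-- The sorting with the signs on the pure vector of the pair. -/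
theorem sort_good {s l : Fin 2} (hsl : s ≠ l) {v a : Fin 4 → F} (hv : f v v ≠ 0) (ha : f a a ≠ 0)
    {y : GL (Idx 2 4) F} (hy : y ∈ M) (htw : IsTW y) (hy2 : y * y = 1)
    (hyP : y * (slotEl s (rG C.ctx.sym v) * slotEl l (rG C.ctx.sym a)) =
      slotEl s (rG C.ctx.sym v) * slotEl l (rG C.ctx.sym a) * y)
    (hsig : sig (y * (slotEl s (rG C.ctx.sym v) * slotEl l (rG C.ctx.sym a))) = 4 ∨
      sig (y * (slotEl s (rG C.ctx.sym v) * slotEl l (rG C.ctx.sym a))) = -4) (h0 : sig y = 0) :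
    Good C.ctx.sym C.ctx.two M (slotEl s (rG C.ctx.sym v) * slotEl l (rG C.ctx.sym a)) y ∨
    ∃ X Y, IsHalf C.ctx.sym X ∧ IsHalf C.ctx.sym Y ∧ rG C.ctx.sym v * X = X * rG C.ctx.sym v ∧
      rG C.ctx.sym a * Y = Y * rG C.ctx.sym a ∧ y = slotEl s X * slotEl l Y := by
  rcases C.sort hsl hv ha hy htw hy2 hyP hsig h0 with ⟨X, hX, ⟨hXv, rfl⟩ | ⟨hXa, rfl⟩⟩ | h
  · exact Or.inl (C.good_single hsl hX hv ha hXv)
  · left
    rw [slotEl_commute hsl]
    exact C.good_single hsl.symm hX ha hv hXa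
  · exact Or.inr h

/-- An element of the centraliser of the pair conjugating a half turn into the tensor wreath group. -/
theorem tw_of_conj_single {s l : Fin 2} (hsl : s ≠ l) {v a : Fin 4 → F} (hv : f v v ≠ 0) (ha : f a a ≠ 0)
    {Z : GL (Fin 4) F} (hZ : IsHalf C.ctx.sym Z) (hZv : rG C.ctx.sym v * Z = Z * rG C.ctx.sym v)
    {d : GL (Idx 2 4) F} (hd : d ∈ M)
    (hdP : d * (slotEl s (rG C.ctx.sym v) * slotEl l (rG C.ctx.sym a)) =
      slotEl s (rG C.ctx.sym v) * slotEl l (rG C.ctx.sym a) * d)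
    (h : IsTW (d * slotEl s Z * d⁻¹)) : IsTW d := by
  have hf := C.ctx.sym
  have h2 := C.ctx.two
  have hgood := C.good_single hsl hZ hv ha hZv
  obtain ⟨ε, hε, hεv, hεs⟩ := C.sig_single hsl hZ hv ha hZv
  obtain ⟨P, hP⟩ : ∃ P, P = slotEl s (rG hf v) * slotEl l (rG hf a) := ⟨_, rfl⟩
  rw [← hP] at hdP hgood hεs
  obtain ⟨z, hz⟩ : ∃ z, z = slotEl s Z := ⟨_, rfl⟩
  rw [← hz] at h hgood hεv hεs
  have hzM : z ∈ M := hz ▸ C.ctx.slot_half_mem s hZ
  have hz2 : z * z = 1 := by rw [hz, slotEl_mul, hZ.mul_self hf h2, slot_one]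
  have hzs : sig z = 0 := by
    obtain ⟨u, hu, rfl⟩ := hZ
    rw [hz, C.ctx.sig_slot s hu (half_eig hf hu)]; simp [Fin.sum_univ_four]
  have hzP : z * P = P * z := by
    rw [hz, hP, ← mul_assoc, slotEl_mul, ← hZv, mul_assoc (slotEl s (rG hf v)), slotEl_commute hsl.symm, ← mul_assoc,
      slotEl_mul]
  obtain ⟨y, hy⟩ : ∃ y, y = d * z * d⁻¹ := ⟨_, rfl⟩
  rw [← hy] at h
  have hPd : d * P * d⁻¹ = P := by rw [hdP, mul_inv_cancel_right]
  have conjP : ∀ x, d * x * d⁻¹ * P = d * (x * P) * d⁻¹ := fun x => by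
    conv_lhs => rw [← hPd, conj_mul]
  have hyM : y ∈ M := hy ▸ M.mul_mem (M.mul_mem hd hzM) (M.inv_mem hd)
  have hy2 : y * y = 1 := by rw [hy, conj_mul, hz2, mul_one, mul_inv_cancel]
  have hyP : y * P = P * y := by
    rw [hy, conjP, hzP]; conv_rhs => rw [← hPd, conj_mul]
  have hys : sig y = 0 := by rw [hy, sig_conj, hzs]
  have hyPs : sig (y * P) = -4 * ε := by rw [hy, conjP, sig_conj, hεs]
  have habs : ∀ {x : ℤ} {η : ℤ}, (η = 1 ∨ η = -1) → (x = 4 * η ∨ x = -4 * η) → x = 4 ∨ x = -4 := by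
    intro x η hη hx
    rcases hη with rfl | rfl <;> rcases hx with rfl | rfl <;> norm_num
  subst hP
  rcases C.sort_good hsl hv ha hyM h hy2 hyP (habs hε (Or.inr hyPs)) hys with hg | ⟨X, Y, hX, hY, hXv, hYa, hye⟩
  · exact C.tw_of_good_conj hd hdP hgood (hy ▸ hg)
  obtain ⟨η, hη, hηv, hηs⟩ := C.sig_double hsl hX hY hv ha hXv hYa
  rw [← hye] at hηv hηs
  obtain ⟨θ, hθ, hθv, hθs⟩ := C.sig_single hsl hX hv ha hXv
  obtain ⟨φ, hφ, hφv, hφs⟩ := C.sig_single hsl.symm hY ha hv hYa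
  rw [← slotEl_commute hsl] at hφs
  have hgX := C.good_single hsl hX hv ha hXv
  have hgY := C.good_single hsl.symm hY ha hv hYa
  rw [← slotEl_commute hsl] at hgY
  have hXy : slotEl s X * y = slotEl l Y := by
    rw [hye, ← mul_assoc, slotEl_mul, hX.mul_self hf h2, slot_one, one_mul]
  -- the preimage of one component
  obtain ⟨q, hq⟩ : ∃ q, q = d⁻¹ * slotEl s X * d := ⟨_, rfl⟩
  have hdq : d * q * d⁻¹ = slotEl s X := by rw [hq]; group
  have hqM : q ∈ M := hq ▸ M.mul_mem (M.mul_mem (M.inv_mem hd) (C.ctx.slot_half_mem s hX)) hd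
  have hXP : slotEl s X * (slotEl s (rG hf v) * slotEl l (rG hf a)) =
      slotEl s (rG hf v) * slotEl l (rG hf a) * slotEl s X := by
    rw [← mul_assoc, slotEl_mul, ← hXv, mul_assoc (slotEl s (rG hf v)), slotEl_commute hsl.symm, ← mul_assoc,
      slotEl_mul]
  have hqP : q * (slotEl s (rG hf v) * slotEl l (rG hf a)) = slotEl s (rG hf v) * slotEl l (rG hf a) * q := by
    refine mul_left_cancel (a := d) (mul_right_cancel (b := d⁻¹) ?_)
    rw [← conj_mul, hdq, hPd, hXP, ← conj_mul, hdq, hPd]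
  have hXy' : slotEl s X * y = y * slotEl s X := by
    rw [hye, ← mul_assoc, mul_assoc (slotEl s X) (slotEl l Y), slotEl_commute hsl.symm, ← mul_assoc]
  have hqz : q * z = z * q := by
    refine mul_left_cancel (a := d) (mul_right_cancel (b := d⁻¹) ?_)
    rw [← conj_mul, hdq, ← hy, hXy', ← conj_mul, hdq, ← hy]
  have hqtw : IsTW q := hgood.1 q hqM hqz hqP
  have hq2 : q * q = 1 := by
    rw [hq, show d⁻¹ * slotEl s X * d * (d⁻¹ * slotEl s X * d) = d⁻¹ * (slotEl s X * slotEl s X) * d by group,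
      slotEl_mul, hX.mul_self hf h2, slot_one, mul_one, inv_mul_cancel]
  have hqs : sig q = 0 := by
    have h' := sig_conj q d
    rw [hdq] at h'
    obtain ⟨u, hu, rfl⟩ := hX
    rw [← h', C.ctx.sig_slot s hu (half_eig hf hu)]; simp [Fin.sum_univ_four]
  have hqPs : sig (q * (slotEl s (rG hf v) * slotEl l (rG hf a))) = -4 * θ := by
    rw [← sig_conj _ d, ← conjP, hdq, hθs]
  rcases C.sort_good hsl hv ha hqM hqtw hq2 hqP (habs hθ (Or.inr hqPs)) hqs with hg | ⟨X', Y', hX', hY', hX'v, hY'a, hqe⟩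
  · exact C.tw_of_good_conj hd hdP hg (hdq.symm ▸ hgX)
  obtain ⟨κ, hκ, hκv, hκs⟩ := C.sig_double hsl hX' hY' hv ha hX'v hY'a
  rw [← hqe] at hκv hκs
  have hqzM : q * z ∈ M := M.mul_mem hqM hzM
  have hqzd : d * (q * z) * d⁻¹ = slotEl l Y := by rw [← conj_mul, hdq, ← hy, hXy]
  have hqzP : q * z * (slotEl s (rG hf v) * slotEl l (rG hf a)) = slotEl s (rG hf v) * slotEl l (rG hf a) * (q * z) := by
    rw [mul_assoc, hzP, ← mul_assoc, hqP, mul_assoc]
  have hqz2 : q * z * (q * z) = 1 := invol_mul hq2 hz2 hqz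
  have hqzs : sig (q * z) = 0 := by
    have h' := sig_conj (q * z) d
    rw [hqzd] at h'
    obtain ⟨u, hu, rfl⟩ := hY
    rw [← h', C.ctx.sig_slot l hu (half_eig hf hu)]; simp [Fin.sum_univ_four]
  have hqzPs : sig (q * z * (slotEl s (rG hf v) * slotEl l (rG hf a))) = -4 * φ := by
    rw [← sig_conj _ d, ← conjP, hqzd, hφs]
  rcases C.sort_good hsl hv ha hqzM (isTW_mul hqtw (hz ▸ slotEl_tw s Z)) hqz2 hqzP (habs hφ (Or.inr hqzPs)) hqzs with
    hg | ⟨X'', Y'', hX'', hY'', hX''v, hY''a, hre⟩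
  · exact C.tw_of_good_conj hd hdP hg (hqzd.symm ▸ hgY)
  -- the signs contradict each other
  exfalso
  obtain ⟨μ, hμ, hμv, hμs⟩ := C.sig_double hsl hX'' hY'' hv ha hX''v hY''a
  rw [← hre] at hμv hμs
  have hv0 : pt2 s v a ≠ 0 := fun h0 => by
    have := congrArg (fun x => OPow.bil f x (pt2 s v a)) h0
    simp only [bil_pt2 hf, OPow.bil, dotProduct] at this
    exact mul_ne_zero hv ha (by
      have e : OPow.bil f (pt2 s v a) (pt2 s v a) = 0 := by rw [h0]; simp [OPow.bil]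
      rwa [bil_pt2 hf] at e)
  have inj : ∀ {r r' : F}, r • pt2 s v a = r' • pt2 s v a → r = r' := fun {r r'} e => by
    have : (r - r') • pt2 s v a = 0 := by rw [sub_smul, e, sub_self]
    exact sub_eq_zero.mp ((smul_eq_zero.mp this).resolve_right hv0)
  have m1 : μ = κ * ε := by
    refine sign_inj h2 hμ (by rcases hκ with rfl | rfl <;> rcases hε with rfl | rfl <;> simp) (inj ?_)
    rw [← hμv, Transvec.mul_mulVec, hεv, mulVec_smul, hκv, smul_smul, Int.cast_mul, mul_comm]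
  have hφl : (slotEl l Y).val *ᵥ pt2 s v a = (φ : F) • pt2 s v a := by
    have e : pt2 s v a = pt2 l a v := funext fun x => by
      rcases fin2_cases hsl with ⟨rfl, rfl⟩ | ⟨rfl, rfl⟩ <;> simp [pt2_apply, mul_comm]
    rw [e]; exact hφv
  have m2 : φ = θ * η := by
    refine sign_inj h2 hφ (by rcases hθ with rfl | rfl <;> rcases hη with rfl | rfl <;> simp) (inj ?_)
    rw [← hφl, ← hXy, Transvec.mul_mulVec, hηv, mulVec_smul, hθv, smul_smul, Int.cast_mul, mul_comm]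
  rw [hηs] at hyPs
  rw [hκs] at hqPs
  rw [hμs] at hqzPs
  subst m1 m2
  rcases hε with rfl | rfl <;> rcases hκ with rfl | rfl <;> rcases hθ with rfl | rfl <;> rcases hη with rfl | rfl <;> omega

omit C in
lemma half_mul_cases (C : TwoCtx f M) {X Y : GL (Fin 4) F} (hX : IsHalf C.ctx.sym X) (hY : IsHalf C.ctx.sym Y)
    (hc : X * Y = Y * X) : Y = X ∨ Y = -X ∨ IsHalf C.ctx.sym (X * Y) := by
  have hf := C.ctx.sym
  have h2 := C.ctx.two
  obtain ⟨u, hu, hA⟩ := exists_frame hf h2 [X, Y] (fun B hB => by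
      simp only [List.mem_cons, List.not_mem_nil, or_false] at hB
      rcases hB with rfl | rfl
      exacts [⟨hX.iso hf h2, hX.mul_self hf h2⟩, ⟨hY.iso hf h2, hY.mul_self hf h2⟩]) (fun B hB B' hB' => by
      simp only [List.mem_cons, List.not_mem_nil, or_false] at hB hB'
      rcases hB with rfl | rfl <;> rcases hB' with rfl | rfl <;> first | rfl | exact hc | exact hc.symm)
  obtain ⟨x, hx⟩ := hA X List.mem_cons_self
  obtain ⟨y, hy⟩ := hA Y (List.mem_cons_of_mem _ List.mem_cons_self)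
  have sum0 : ∀ {A : GL (Fin 4) F} {e : Fin 4 → ℤ}, IsHalf hf A → Eig A u e → ∑ i, e i = 0 := fun {A e} hA he => by
    obtain ⟨w, hw, rfl⟩ := hA
    have h := (C.ctx.sig_slot 0 hu he).symm.trans (C.ctx.sig_slot 0 hw (half_eig hf hw))
    simpa [Fin.sum_univ_four] using h
  have hxy : y = x ∨ y = -x ∨ ∑ i, (x * y) i = 0 := by
    have s1 := sum0 hX hx
    have s2 := sum0 hY hy
    exact zero_sum_pairs hx.sgn hy.sgn s1 s2
  rcases hxy with rfl | rfl | h
  · exact Or.inl (hu.eig_ext hf hy hx)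
  · exact Or.inr (Or.inl (hu.eig_ext hf hy hx.neg))
  · exact Or.inr (Or.inr (isHalf_of_sum hf h2 hu (hx.mul hy) h))

omit C in
lemma half_not_scalar (C : TwoCtx f M) {X : GL (Fin 4) F} (hX : IsHalf C.ctx.sym X) (c : F) : X.val ≠ c • 1 := by
  obtain ⟨u, hu, rfl⟩ := hX
  exact half_ne_smul C.ctx.sym C.ctx.two hu c

/-- A conjugate of a half turn in the centraliser of the pair, which is a tensor wreath element, is a half turn. -/
theorem conj_single_is_single {s l : Fin 2} (hsl : s ≠ l) {v a : Fin 4 → F} (hv : f v v ≠ 0) (ha : f a a ≠ 0)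
    {s₀ : Fin 2} {Z : GL (Fin 4) F} (hZ : IsHalf C.ctx.sym Z) {k : GL (Idx 2 4) F} (hk : k ∈ M) (hktw : IsTW k)
    (hZP : slotEl s₀ Z * (slotEl s (rG C.ctx.sym v) * slotEl l (rG C.ctx.sym a)) =
      slotEl s (rG C.ctx.sym v) * slotEl l (rG C.ctx.sym a) * slotEl s₀ Z)
    (hkP : k * (slotEl s (rG C.ctx.sym v) * slotEl l (rG C.ctx.sym a)) =
      slotEl s (rG C.ctx.sym v) * slotEl l (rG C.ctx.sym a) * k)
    (hsig : sig (slotEl s₀ Z * (slotEl s (rG C.ctx.sym v) * slotEl l (rG C.ctx.sym a))) = 4 ∨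
      sig (slotEl s₀ Z * (slotEl s (rG C.ctx.sym v) * slotEl l (rG C.ctx.sym a))) = -4) :
    ∃ X, IsHalf C.ctx.sym X ∧ ((rG C.ctx.sym v * X = X * rG C.ctx.sym v ∧ k * slotEl s₀ Z * k⁻¹ = slotEl s X) ∨
      (rG C.ctx.sym a * X = X * rG C.ctx.sym a ∧ k * slotEl s₀ Z * k⁻¹ = slotEl l X)) := by
  have hf := C.ctx.sym
  obtain ⟨P, hP⟩ : ∃ P, P = slotEl s (rG hf v) * slotEl l (rG hf a) := ⟨_, rfl⟩
  rw [← hP] at hZP hkP hsig
  obtain ⟨σ, gs, hd⟩ := hktw
  obtain ⟨i, hi⟩ := σ.surjective s₀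
  have hke : k * slotEl s₀ Z * k⁻¹ = slotEl i (gs i * Z * (gs i)⁻¹) := hi ▸ hd.conj_slotEl i Z
  obtain ⟨y, hy⟩ : ∃ y, y = k * slotEl s₀ Z * k⁻¹ := ⟨_, rfl⟩
  have hkPk : k * P * k⁻¹ = P := by rw [hkP, mul_inv_cancel_right]
  have hyP : y * P = k * (slotEl s₀ Z * P) * k⁻¹ := by rw [hy]; conv_lhs => rw [← hkPk, conj_mul]
  have hs0 : sig (slotEl s₀ Z) = 0 := by
    obtain ⟨u, hu, rfl⟩ := hZ
    rw [C.ctx.sig_slot s₀ hu (half_eig hf hu)]; simp [Fin.sum_univ_four]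
  subst hP
  have h := C.sort hsl hv ha (y := y) (hy ▸ M.mul_mem (M.mul_mem hk (C.ctx.slot_half_mem s₀ hZ)) (M.inv_mem hk))
    (by rw [hy, hke]; exact slotEl_tw i _) (by
      rw [hy, conj_mul, slotEl_mul, hZ.mul_self hf C.ctx.two, slot_one, mul_one, mul_inv_cancel]) (by
      rw [hyP, hZP, hy]; conv_rhs => rw [← hkPk, conj_mul]) (by rw [hyP, sig_conj]; exact hsig)
    (by rw [hy, sig_conj, hs0])
  rw [← hy]
  rcases h with h | ⟨X, Y, hX, hY, -, -, he⟩
  · exact h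
  exfalso
  rw [hy, hke] at he
  rcases fin2_cases hsl with ⟨rfl, rfl⟩ | ⟨rfl, rfl⟩ <;> rcases (show i = 0 ∨ i = 1 by fin_cases i <;> simp) with rfl | rfl
  all_goals
    first
      | (have e : slotEl (1 : Fin 2) Y = slotEl 0 (X⁻¹ * (gs 0 * Z * (gs 0)⁻¹)) := by
          rw [← slotEl_mul, ← slotEl_inv', he, inv_mul_cancel_left]
         exact absurd (slotEl_eq (half_not_scalar C hY) e).1 (by decide))
      | (have e : slotEl (0 : Fin 2) Y = slotEl 1 (X⁻¹ * (gs 1 * Z * (gs 1)⁻¹)) := by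
          rw [← slotEl_mul, ← slotEl_inv', he, inv_mul_cancel_left]
         exact absurd (slotEl_eq (half_not_scalar C hY) e).1 (by decide))
      | (have e : slotEl (0 : Fin 2) X = slotEl 1 ((gs 1 * Z * (gs 1)⁻¹) * Y⁻¹) := by
          rw [← slotEl_mul, ← slotEl_inv', he, mul_inv_cancel_right]
         exact absurd (slotEl_eq (half_not_scalar C hX) e).1 (by decide))
      | (have e : slotEl (1 : Fin 2) X = slotEl 0 ((gs 0 * Z * (gs 0)⁻¹) * Y⁻¹) := by
          rw [← slotEl_mul, ← slotEl_inv', he, mul_inv_cancel_right]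
         exact absurd (slotEl_eq (half_not_scalar C hX) e).1 (by decide))

/-- The common centraliser of the pair and a double half turn negating its pure vector factors. -/
theorem tw_of_comm_pair_double {s l : Fin 2} (hsl : s ≠ l) {u w : Fin 4 → Fin 4 → F} (hu : Frame f u)
    (hw : Frame f w) {g : GL (Idx 2 4) F} (hg : g ∈ M)
    (hgP : g * (slotEl s (rG C.ctx.sym (u 2)) * slotEl l (rG C.ctx.sym (w 2))) =
      slotEl s (rG C.ctx.sym (u 2)) * slotEl l (rG C.ctx.sym (w 2)) * g)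
    (hgD : g * (slotEl s (half C.ctx.sym u) * slotEl l (half C.ctx.sym w)) =
      slotEl s (half C.ctx.sym u) * slotEl l (half C.ctx.sym w) * g) : IsTW g := by
  classical
  have hf := C.ctx.sym
  have h2 := C.ctx.two
  have hv := hu.aniso 2
  have ha := hw.aniso 2
  have hU := half_eig hf hu
  have hW := half_eig hf hw
  have hXu : IsHalf hf (half hf u) := ⟨u, hu, rfl⟩
  have hXw : IsHalf hf (half hf w) := ⟨w, hw, rfl⟩
  obtain ⟨u', hu'⟩ : ∃ u', u' = u ∘ Equiv.swap (0 : Fin 4) 3 := ⟨_, rfl⟩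
  have hF : Frame f u' := hu' ▸ hu.perm hf _
  have hXs : IsHalf hf (half hf u') := ⟨u', hF, rfl⟩
  have he' : Eig (half hf u') u ![-1, 1, -1, 1] := by
    have h := (half_eig hf hF).perm (Equiv.swap (0 : Fin 4) 3)
    rw [hu', Function.comp_assoc, show (Equiv.swap (0 : Fin 4) 3 : Fin 4 → Fin 4) ∘ Equiv.swap 0 3 = id from
      funext fun i => Equiv.swap_apply_self 0 3 i, Function.comp_id] at h
    convert h using 1
    · rw [hu']
    · funext i; fin_cases i <;> simp [Equiv.swap_apply_def]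
  have cU : rG hf (u 2) * half hf u = half hf u * rG hf (u 2) := hu.eig_comm hf (hu.eig_rG hf 2) hU
  have cW : rG hf (w 2) * half hf w = half hf w * rG hf (w 2) := hw.eig_comm hf (hw.eig_rG hf 2) hW
  have cS : rG hf (u 2) * half hf u' = half hf u' * rG hf (u 2) := hu.eig_comm hf (hu.eig_rG hf 2) he'
  obtain ⟨P, hP⟩ : ∃ P, P = slotEl s (rG hf (u 2)) * slotEl l (rG hf (w 2)) := ⟨_, rfl⟩
  obtain ⟨D, hD⟩ : ∃ D, D = slotEl s (half hf u) * slotEl l (half hf w) := ⟨_, rfl⟩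
  rw [← hP] at hgP; rw [← hD] at hgD
  obtain ⟨H, hHd⟩ : ∃ H : Subgroup (GL (Idx 2 4) F), H = M ⊓ Subgroup.centralizer {P} ⊓ Subgroup.centralizer {D} :=
    ⟨_, rfl⟩
  have memH : ∀ x, x ∈ H ↔ x ∈ M ∧ x * P = P * x ∧ x * D = D * x := fun x => by
    rw [hHd, Subgroup.mem_inf, Subgroup.mem_inf, Subgroup.mem_centralizer_singleton_iff,
      Subgroup.mem_centralizer_singleton_iff, and_assoc]
  have slot_H : ∀ X : GL (Fin 4) F, IsHalf hf X → rG hf (u 2) * X = X * rG hf (u 2) →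
      half hf u * X = X * half hf u → slotEl s X ∈ H := fun X hX h1 h3 => by
    refine (memH _).mpr ⟨C.ctx.slot_half_mem s hX, ?_, ?_⟩
    · rw [hP, ← mul_assoc, slotEl_mul, ← h1, mul_assoc (slotEl s (rG hf (u 2))), slotEl_commute hsl.symm,
        ← mul_assoc, slotEl_mul]
    · rw [hD, ← mul_assoc, slotEl_mul, ← h3, mul_assoc (slotEl s (half hf u)), slotEl_commute hsl.symm,
        ← mul_assoc, slotEl_mul]
  obtain ⟨t₀, ht₀⟩ : ∃ t₀, t₀ = slotEl s (half hf u) := ⟨_, rfl⟩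
  obtain ⟨S, hS⟩ : ∃ S, S = slotEl s (half hf u') := ⟨_, rfl⟩
  have ht₀H : t₀ ∈ H := ht₀ ▸ slot_H _ hXu cU rfl
  have hSH : S ∈ H := hS ▸ slot_H _ hXs cS (hu.eig_comm hf hU he')
  have hgH : g ∈ H := (memH g).mpr ⟨hg, hgP, hgD⟩
  obtain ⟨T, hT⟩ : ∃ T, T = g * S * g⁻¹ := ⟨_, rfl⟩
  have hTH : T ∈ H := hT ▸ H.mul_mem (H.mul_mem hgH hSH) (H.inv_mem hgH)
  -- invariants
  have it : sig (t₀ * P) = 4 ∧ sig (t₀ * P * D) = 4 := by
    refine ⟨by rw [ht₀, hP, C.ctx.sig_half_pair_neg hsl hXu hv ha (by rw [hU.act]; simp)]; norm_num, ?_⟩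
    have e : t₀ * P * D = slotEl s (half hf u * rG hf (u 2) * half hf u) * slotEl l (rG hf (w 2) * half hf w) := by
      rw [ht₀, hP, hD]
      simp only [mul_assoc]
      rw [← mul_assoc (slotEl l (rG hf (w 2))), slotEl_commute hsl.symm, mul_assoc (slotEl s (half hf u)) _ _,
        slotEl_mul, ← mul_assoc, ← mul_assoc, slotEl_mul, slotEl_mul, mul_assoc]
    rw [e, C.ctx.sig_two hsl hu ((hU.mul (hu.eig_rG hf 2)).mul hU) hw ((hw.eig_rG hf 2).mul hW)]
    simp [Fin.sum_univ_four]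
  have iS : sig (S * P) = 4 ∧ sig (S * P * D) = -4 := by
    refine ⟨by rw [hS, hP, C.ctx.sig_half_pair_neg hsl hXs hv ha (by rw [he'.act]; simp)]; norm_num, ?_⟩
    have e : S * P * D = slotEl s (half hf u' * rG hf (u 2) * half hf u) * slotEl l (rG hf (w 2) * half hf w) := by
      rw [hS, hP, hD]
      simp only [mul_assoc]
      rw [← mul_assoc (slotEl l (rG hf (w 2))), slotEl_commute hsl.symm, mul_assoc (slotEl s (half hf u)) _ _,
        slotEl_mul, ← mul_assoc, ← mul_assoc, slotEl_mul, slotEl_mul, mul_assoc]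
    rw [e, C.ctx.sig_two hsl hu ((he'.mul (hu.eig_rG hf 2)).mul hU) hw ((hw.eig_rG hf 2).mul hW)]
    simp [Fin.sum_univ_four]
  have hconj : ∀ k ∈ H, ∀ x, sig (k * x * k⁻¹ * P) = sig (x * P) ∧ sig (k * x * k⁻¹ * P * D) = sig (x * P * D) :=
    fun k hk x => by
    obtain ⟨-, h1, h3⟩ := (memH k).mp hk
    have e1 : k * P * k⁻¹ = P := by rw [h1, mul_inv_cancel_right]
    have e3 : k * D * k⁻¹ = D := by rw [h3, mul_inv_cancel_right]
    refine ⟨?_, ?_⟩
    · conv_lhs => rw [← e1, conj_mul]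
      rw [sig_conj]
    · conv_lhs => rw [← e1, conj_mul, ← e3, conj_mul]
      rw [sig_conj]
  have iT : sig (T * P) = 4 ∧ sig (T * P * D) = -4 := by
    rw [hT, (hconj g hgH S).1, (hconj g hgH S).2]; exact iS
  have hne : ∀ k ∈ H, k * t₀ * k⁻¹ ≠ T := fun k hk h => by
    have := (hconj k hk t₀).2
    rw [h, iT.2, it.2] at this
    norm_num at this
  obtain ⟨c, hcH, hc2, hc1, hct, hcT, hcl⟩ := exists_central ht₀H hTH
    (by rw [ht₀, slotEl_mul, hXu.mul_self hf h2, slot_one])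
    (by rw [hT, conj_mul, hS, slotEl_mul, hXs.mul_self hf h2, slot_one, mul_one, mul_inv_cancel]) hne
  obtain ⟨hcM, hcP, hcD⟩ := (memH c).mp hcH
  obtain ⟨hTM, hTP, hTD⟩ := (memH T).mp hTH
  have hctw : IsTW c := C.gamma hsl hXu hv ha cU hcM (by rw [← ht₀]; exact hct) (hP ▸ hcP)
  -- the product is a half turn of one slot
  obtain ⟨k, hk, X₀, hX₀, hX₀v, hkc⟩ : ∃ k ∈ H, ∃ X, IsHalf hf X ∧ rG hf (u 2) * X = X * rG hf (u 2) ∧
      k * slotEl s X * k⁻¹ = t₀ * c := by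
    rcases hcl with ⟨⟨k, hk, e⟩, -⟩ | ⟨⟨k, hk, e⟩, -⟩
    · exact ⟨k, hk, _, hXu, cU, by rw [← ht₀]; exact e⟩
    · exact ⟨k * g, H.mul_mem hk hgH, _, hXs, cS, by rw [← hS, ← e, hT]; group⟩
  obtain ⟨hkM, hkP, -⟩ := (memH k).mp hk
  have hktw : IsTW k := C.tw_of_conj_single hsl hv ha hX₀ hX₀v hkM (hP ▸ hkP)
    (hkc ▸ isTW_mul (ht₀ ▸ slotEl_tw s _) hctw)
  have hXP : slotEl s X₀ * (slotEl s (rG hf (u 2)) * slotEl l (rG hf (w 2))) =
      slotEl s (rG hf (u 2)) * slotEl l (rG hf (w 2)) * slotEl s X₀ := by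
    rw [← mul_assoc, slotEl_mul, ← hX₀v, mul_assoc (slotEl s (rG hf (u 2))), slotEl_commute hsl.symm, ← mul_assoc,
      slotEl_mul]
  obtain ⟨e₀, he₀, -, he₀s⟩ := C.sig_single hsl hX₀ hv ha hX₀v
  obtain ⟨Z, hZ, hZc⟩ := C.conj_single_is_single hsl hv ha hX₀ hkM hktw hXP (hP ▸ hkP) (by
    rw [he₀s]; rcases he₀ with rfl | rfl <;> norm_num)
  rw [hkc] at hZc
  have hcl' : (sig (t₀ * c * P) = 4 ∧ sig (t₀ * c * P * D) = 4 ∧ sig (T * c * P * D) = -4) ∨
      (sig (t₀ * c * P) = 4 ∧ sig (t₀ * c * P * D) = -4) := by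
    rcases hcl with ⟨⟨k₁, hk₁, e₁⟩, k₂, hk₂, e₂⟩ | ⟨⟨k₁, hk₁, e₁⟩, -⟩
    · left
      rw [← e₁, ← e₂, (hconj k₁ hk₁ t₀).1, (hconj k₁ hk₁ t₀).2, (hconj k₂ hk₂ T).2]
      exact ⟨it.1, it.2, iT.2⟩
    · right
      rw [← e₁, (hconj k₁ hk₁ T).1, (hconj k₁ hk₁ T).2]
      exact iT
  have hgT : IsTW T → IsTW g := fun h => C.tw_of_conj_single hsl hv ha hXs cS hg (hP ▸ hgP)
    (by rw [← hS, ← hT]; exact h)
  refine hgT ?_
  have ht₀2 : t₀ * (t₀ * c) = c := by
    rw [← mul_assoc, ht₀, slotEl_mul, hXu.mul_self hf h2, slot_one, one_mul]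
  rcases hZc with ⟨hZv, hZe⟩ | ⟨hZa, hZe⟩
  · -- same slot
    have hce : c = slotEl s (half hf u * Z) := by rw [← ht₀2, hZe, ht₀, slotEl_mul]
    have hZU : half hf u * Z = Z * half hf u := by
      refine (slotEl_comm_iff s).mp ?_
      rw [← hZe, ← ht₀, mul_assoc t₀ c t₀, hct]
    rcases half_mul_cases C hXu hZ hZU with rfl | rfl | hh
    · exact absurd (by rw [hce, hXu.mul_self hf h2, slot_one]) hc1
    · exfalso
      have h1 : sig (t₀ * c * P) = -4 := by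
        rw [hZe, hP, C.ctx.sig_half_pair_fix hsl (hXu.neg hf h2) hv ha (by
          rw [Units.val_neg, neg_mulVec, hU.act]; simp)]
        norm_num
      rcases hcl' with ⟨h, -⟩ | ⟨h, -⟩ <;> rw [h1] at h <;> norm_num at h
    · refine C.gamma hsl hh hv ha ?_ hTM (hce ▸ hcT.symm) (hP ▸ hTP)
      rw [← mul_assoc, cU, mul_assoc, hZv, mul_assoc]
  · -- the other slot
    have hce : c = slotEl s (half hf u) * slotEl l Z := by rw [← ht₀2, hZe, ht₀]
    have hZW : half hf w * Z = Z * half hf w := by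
      have h := ((memH _).mp (H.mul_mem ht₀H hcH)).2.2
      rw [hZe, hD, slotEl_commute hsl] at h
      exact (Ctx4.comm_component C.ctx hsl.symm h).symm
    have hcD' : c * D = slotEl l (half hf w * Z) := by
      rw [hce, hD, slotEl_commute hsl (half hf u) Z, mul_assoc, ← mul_assoc (slotEl s (half hf u)), slotEl_mul,
        hXu.mul_self hf h2, slot_one, one_mul, slotEl_mul, hZW]
    rcases half_mul_cases C hXw hZ hZW with rfl | rfl | hh
    · exfalso
      have hcD1 : c = D := by rw [hce, hD]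
      have e1 : T * c * P * D = T * P := by
        rw [hcD1, mul_assoc T D P, show D * P = P * D from hcD1 ▸ hcP, mul_assoc, mul_assoc P D D, hD,
          invol_mul (by rw [slotEl_mul, hXu.mul_self hf h2, slot_one]) (by rw [slotEl_mul, hXw.mul_self hf h2, slot_one])
            (slotEl_commute hsl _ _), mul_one]
      rcases hcl' with ⟨-, -, h⟩ | ⟨-, h⟩
      · rw [e1, iT.1] at h; norm_num at h
      · have e2 : t₀ * c * P * D = t₀ * P := by
          rw [hcD1, mul_assoc t₀ D P, show D * P = P * D from hcD1 ▸ hcP, mul_assoc, mul_assoc P D D, hD,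
            invol_mul (by rw [slotEl_mul, hXu.mul_self hf h2, slot_one]) (by rw [slotEl_mul, hXw.mul_self hf h2, slot_one])
              (slotEl_commute hsl _ _), mul_one]
        rw [e2, it.1] at h; norm_num at h
    · exfalso
      have h1 : sig (t₀ * c * P) = -4 := by
        rw [hZe, hP, slotEl_commute hsl, C.ctx.sig_half_pair_fix hsl.symm (hXw.neg hf h2) ha hv (by
          rw [Units.val_neg, neg_mulVec, hW.act]; simp)]
        norm_num
      rcases hcl' with ⟨h, -⟩ | ⟨h, -⟩ <;> rw [h1] at h <;> norm_num at h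
    · refine C.gamma hsl.symm hh ha hv (by rw [← mul_assoc, cW, mul_assoc, hZa, mul_assoc]) hTM ?_ ?_
      · rw [← hcD', ← mul_assoc, ← hcT, mul_assoc, hTD, mul_assoc]
      · rw [← slotEl_commute hsl]; exact hP ▸ hTP

/-- The centraliser of a pair of reflections. -/
theorem tw_of_comm_pair {s l : Fin 2} (hsl : s ≠ l) {v a : Fin 4 → F} (hv : f v v ≠ 0) (ha : f a a ≠ 0)
    {g : GL (Idx 2 4) F} (hg : g ∈ M)
    (hgP : g * (slotEl s (rG C.ctx.sym v) * slotEl l (rG C.ctx.sym a)) =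
      slotEl s (rG C.ctx.sym v) * slotEl l (rG C.ctx.sym a) * g) : IsTW g := by
  classical
  have hf := C.ctx.sym
  have h2 := C.ctx.two
  -- frames with prescribed planes
  obtain ⟨u₀, hu₀, hu₀v, hu₀1⟩ := exists_halves hf h2 hv (-(f v v)) (neg_ne_zero.mpr hv)
  obtain ⟨ν, hν⟩ := FiniteField.exists_nonsquare (F := F)
    (fun h => h2 (by rw [← Nat.cast_two, ← h]; exact ringChar.Nat.cast_ringChar))
  have hν0 : ν ≠ 0 := fun h => hν (h ▸ IsSquare.zero)
  obtain ⟨w₀, hw₀, hw₀a, hw₀1⟩ := exists_halves hf h2 ha (-(f a a * ν)) (neg_ne_zero.mpr (mul_ne_zero ha hν0))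
  obtain ⟨u, hu⟩ : ∃ u, u = u₀ ∘ ![2, 3, 0, 1] := ⟨_, rfl⟩
  obtain ⟨w, hw⟩ : ∃ w, w = w₀ ∘ ![2, 3, 0, 1] := ⟨_, rfl⟩
  have hF : Frame f u := hu ▸ (half_rot hf h2 hu₀).1
  have hG : Frame f w := hw ▸ (half_rot hf h2 hw₀).1
  have hu2 : u 2 = v := by rw [hu]; exact hu₀v
  have hw2 : w 2 = a := by rw [hw]; exact hw₀a
  have hisoU : IsSquare (-(f (u 2) (u 2) * f (u 3) (u 3))) := by
    rw [hu]; simp only [Function.comp_apply, Matrix.cons_val, Matrix.cons_val_zero, Matrix.cons_val_one]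
    rw [hu₀v, hu₀1]; exact ⟨f v v, by ring⟩
  have hanW : ¬ IsSquare (-(f (w 2) (w 2) * f (w 3) (w 3))) := by
    rw [hw]; simp only [Function.comp_apply, Matrix.cons_val, Matrix.cons_val_zero, Matrix.cons_val_one]
    rw [hw₀a, hw₀1]
    rintro ⟨r, hr⟩
    exact hν ⟨r / f a a, by field_simp; linear_combination hr⟩
  subst hu2 hw2
  have hU := half_eig hf hF
  have hW := half_eig hf hG
  have hXu : IsHalf hf (half hf u) := ⟨u, hF, rfl⟩
  have hXw : IsHalf hf (-half hf w) := IsHalf.neg hf h2 ⟨w, hG, rfl⟩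
  have cU : rG hf (u 2) * half hf u = half hf u * rG hf (u 2) := hF.eig_comm hf (hF.eig_rG hf 2) hU
  have cW : rG hf (w 2) * -half hf w = -half hf w * rG hf (w 2) := hG.eig_comm hf (hG.eig_rG hf 2) hW.neg
  obtain ⟨P, hP⟩ : ∃ P, P = slotEl s (rG hf (u 2)) * slotEl l (rG hf (w 2)) := ⟨_, rfl⟩
  rw [← hP] at hgP
  obtain ⟨H, hHd⟩ : ∃ H : Subgroup (GL (Idx 2 4) F), H = M ⊓ Subgroup.centralizer {P} := ⟨_, rfl⟩
  have memH : ∀ x, x ∈ H ↔ x ∈ M ∧ x * P = P * x := fun x => by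
    rw [hHd, Subgroup.mem_inf, Subgroup.mem_centralizer_singleton_iff]
  obtain ⟨t₀, ht₀⟩ : ∃ t₀, t₀ = slotEl s (half hf u) := ⟨_, rfl⟩
  obtain ⟨S, hS⟩ : ∃ S, S = slotEl l (-half hf w) := ⟨_, rfl⟩
  have ht₀H : t₀ ∈ H := (memH _).mpr ⟨ht₀ ▸ C.ctx.slot_half_mem s hXu, by
    rw [ht₀, hP, ← mul_assoc, slotEl_mul, ← cU, mul_assoc (slotEl s (rG hf (u 2))), slotEl_commute hsl.symm,
      ← mul_assoc, slotEl_mul]⟩
  have hSH : S ∈ H := (memH _).mpr ⟨hS ▸ C.ctx.slot_half_mem l hXw, by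
    rw [hS, hP, mul_assoc, slotEl_mul, cW, ← slotEl_mul, ← mul_assoc, ← slotEl_commute hsl, mul_assoc]⟩
  have hgH : g ∈ H := (memH g).mpr ⟨hg, hgP⟩
  obtain ⟨T, hT⟩ : ∃ T, T = g * S * g⁻¹ := ⟨_, rfl⟩
  have hTH : T ∈ H := hT ▸ H.mul_mem (H.mul_mem hgH hSH) (H.inv_mem hgH)
  have it : sig (t₀ * P) = 4 := by
    rw [ht₀, hP, C.ctx.sig_half_pair_neg hsl hXu hv ha (by rw [hU.act]; simp)]; norm_num
  have iS : sig (S * P) = -4 := by
    rw [hS, hP, slotEl_commute hsl, C.ctx.sig_half_pair_fix hsl.symm hXw ha hv (by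
      rw [Units.val_neg, neg_mulVec, hW.act]; simp)]
    norm_num
  have hconj : ∀ k ∈ H, ∀ x, sig (k * x * k⁻¹ * P) = sig (x * P) := fun k hk x => by
    have e1 : k * P * k⁻¹ = P := by rw [((memH k).mp hk).2, mul_inv_cancel_right]
    conv_lhs => rw [← e1, conj_mul]
    rw [sig_conj]
  have hne : ∀ k ∈ H, k * t₀ * k⁻¹ ≠ T := fun k hk h => by
    have := hconj k hk t₀
    rw [h, hT, hconj g hgH S, iS, it] at this
    norm_num at this
  obtain ⟨c, hcH, hc2, hc1, hct, hcT, hcl⟩ := exists_central ht₀H hTH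
    (by rw [ht₀, slotEl_mul, hXu.mul_self hf h2, slot_one])
    (by rw [hT, conj_mul, hS, slotEl_mul, hXw.mul_self hf h2, slot_one, mul_one, mul_inv_cancel]) hne
  obtain ⟨hcM, hcP⟩ := (memH c).mp hcH
  obtain ⟨hTM, hTP⟩ := (memH T).mp hTH
  have hctw : IsTW c := C.gamma hsl hXu hv ha cU hcM (by rw [← ht₀]; exact hct) (hP ▸ hcP)
  have hgT : IsTW T → IsTW g := fun h => by
    have h' := hgP
    rw [hP, slotEl_commute hsl] at h'
    exact C.tw_of_conj_single hsl.symm ha hv hXw cW hg h' (by rw [← hS, ← hT]; exact h)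
  refine hgT ?_
  have htctw : IsTW (t₀ * c) := isTW_mul (ht₀ ▸ slotEl_tw s _) hctw
  have ht₀2 : t₀ * (t₀ * c) = c := by
    rw [← mul_assoc, ht₀, slotEl_mul, hXu.mul_self hf h2, slot_one, one_mul]
  have hSP : slotEl l (-half hf w) * (slotEl s (rG hf (u 2)) * slotEl l (rG hf (w 2))) =
      slotEl s (rG hf (u 2)) * slotEl l (rG hf (w 2)) * slotEl l (-half hf w) := hS ▸ hP ▸ ((memH _).mp hSH).2
  have hTP' : ∀ (h : T * P = P * T), T * (slotEl l (rG hf (w 2)) * slotEl s (rG hf (u 2))) =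
      slotEl l (rG hf (w 2)) * slotEl s (rG hf (u 2)) * T := fun h => by
    rw [← slotEl_commute hsl]; exact hP ▸ h
  obtain ⟨k, hk, s₀, X₀, hX₀, hX₀P, hX₀s, hkc, hktw, hleft⟩ : ∃ k ∈ H, ∃ s₀ X, IsHalf hf X ∧
      slotEl s₀ X * (slotEl s (rG hf (u 2)) * slotEl l (rG hf (w 2))) =
        slotEl s (rG hf (u 2)) * slotEl l (rG hf (w 2)) * slotEl s₀ X ∧
      (sig (slotEl s₀ X * P) = 4 ∨ sig (slotEl s₀ X * P) = -4) ∧ k * slotEl s₀ X * k⁻¹ = t₀ * c ∧ IsTW k ∧
      ((s₀ = s ∧ sig (t₀ * c * P) = 4) ∨ (s₀ = l ∧ X = -half hf w)) := by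
    rcases hcl with ⟨⟨k, hk, e⟩, -⟩ | ⟨⟨k, hk, e⟩, -⟩
    · refine ⟨k, hk, s, _, hXu, ht₀ ▸ hP ▸ ((memH _).mp ht₀H).2, Or.inl (ht₀ ▸ it), by rw [← ht₀]; exact e,
        C.tw_of_conj_single hsl hv ha hXu cU ((memH k).mp hk).1 (hP ▸ ((memH k).mp hk).2) (by
          rw [← ht₀, e]; exact htctw), Or.inl ⟨rfl, by rw [← e, hconj k hk, it]⟩⟩
    · have hkg := H.mul_mem hk hgH
      have e' : k * g * slotEl l (-half hf w) * (k * g)⁻¹ = t₀ * c := by rw [← hS, ← e, hT]; group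
      refine ⟨k * g, hkg, l, _, hXw, hSP, Or.inr (hS ▸ iS), e', ?_, Or.inr ⟨rfl, rfl⟩⟩
      have h' := ((memH _).mp hkg).2
      rw [hP, slotEl_commute hsl] at h'
      exact C.tw_of_conj_single hsl.symm ha hv hXw cW ((memH _).mp hkg).1 h' (e' ▸ htctw)
  obtain ⟨Z, hZ, hZc⟩ := C.conj_single_is_single hsl hv ha hX₀ ((memH k).mp hk).1 hktw hX₀P
    (hP ▸ ((memH k).mp hk).2) (hP ▸ hX₀s)
  rw [hkc] at hZc
  rcases hZc with ⟨hZv, hZe⟩ | ⟨hZa, hZe⟩
  · have hce : c = slotEl s (half hf u * Z) := by rw [← ht₀2, hZe, ht₀, slotEl_mul]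
    have hZU : half hf u * Z = Z * half hf u := by
      refine (slotEl_comm_iff s).mp ?_
      rw [← hZe, ← ht₀, mul_assoc t₀ c t₀, hct]
    rcases half_mul_cases C hXu hZ hZU with rfl | rfl | hh
    · exact absurd (by rw [hce, hXu.mul_self hf h2, slot_one]) hc1
    · exfalso
      rcases hleft with ⟨-, h1⟩ | ⟨hs₀, hXw'⟩
      · rw [hZe, hP, C.ctx.sig_half_pair_fix hsl (hXu.neg hf h2) hv ha (by
          rw [Units.val_neg, neg_mulVec, hU.act]; simp)] at h1
        norm_num at h1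
      · -- the types of the negated planes differ
        subst hs₀ hXw'
        obtain ⟨σ, gs, hd⟩ := hktw
        rw [hZe] at hkc
        obtain ⟨-, e2⟩ := C.ctx.slot_conj_eq (half_not_scalar C hXw) hd (half_not_scalar C (hXu.neg hf h2)) hkc
        obtain ⟨μ, hμ0, hμ⟩ := OPow.sim_of_tw hf h2 (by norm_num) hd (C.ctx.iso k ((memH k).mp hk).1) s
        have h1 := isoNeg_conj (X := -half hf w) hf (A := gs s) hμ hμ0
        rw [e2] at h1
        have iso_neg : ∀ (z : Fin 4 → Fin 4 → F), Frame f z →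
            (IsoNeg f (-half hf z) ↔ IsSquare (-(f (z 0) (z 0) * f (z 1) (z 1)))) := fun z hz =>
          isoNeg_iff hf h2 hz (half_eig hf hz).neg (i := 0) (j := 1) (by decide) (by simp) (by simp)
            (fun i h1 h3 => by fin_cases i <;> first | exact absurd rfl h1 | exact absurd rfl h3 | simp)
        rw [iso_neg u hF, iso_neg w hG] at h1
        exact Frame.planes hf h2 hF C.ctx.noline
          ⟨h1.mpr ((Frame.planes' hf h2 hG C.ctx.noline).resolve_right hanW), hisoU⟩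
    · refine C.gamma hsl hh hv ha ?_ hTM (hce ▸ hcT.symm) (hP ▸ hTP)
      rw [← mul_assoc, cU, mul_assoc, hZv, mul_assoc]
  · -- a double half turn
    have hce : c = slotEl s (half hf u) * slotEl l Z := by rw [← ht₀2, hZe, ht₀]
    rcases hZ.comm_cases hf h2 ha hZa with h | h
    · obtain ⟨w', hw', hw'2, hw'e⟩ := (hZ.neg hf h2).adapt_neg hf h2 ha (by rw [Units.val_neg, neg_mulVec, h])
      refine C.tw_of_comm_pair_double hsl hF hw' hTM (hw'2.symm ▸ hP ▸ hTP) ?_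
      rw [← hw'e, ← neg_slotEl, mul_neg, mul_neg, neg_mul, neg_inj, ← hce]
      exact hcT.symm
    · obtain ⟨w', hw', hw'2, hw'e⟩ := hZ.adapt_neg hf h2 ha h
      refine C.tw_of_comm_pair_double hsl hF hw' hTM (hw'2.symm ▸ hP ▸ hTP) ?_
      rw [← hw'e, ← hce]
      exact hcT.symm

/-- An element conjugating a pair of reflections into the tensor wreath group. -/
theorem tw_of_conj_pair {s l : Fin 2} (hsl : s ≠ l) {v a : Fin 4 → F} (hv : f v v ≠ 0) (ha : f a a ≠ 0)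
    {g : GL (Idx 2 4) F} (hg : g ∈ M)
    (h : IsTW (g * (slotEl s (rG C.ctx.sym v) * slotEl l (rG C.ctx.sym a)) * g⁻¹)) : IsTW g := by
  have hf := C.ctx.sym
  have h2 := C.ctx.two
  obtain ⟨P, hP⟩ : ∃ P, P = slotEl s (rG hf v) * slotEl l (rG hf a) := ⟨_, rfl⟩
  rw [← hP] at h
  obtain ⟨p, c, hp, hc, hpc⟩ := C.pair_of_sig
    (M.mul_mem (M.mul_mem hg (hP ▸ C.pair_mem hsl hv ha)) (M.inv_mem hg)) h
    (by rw [conj_mul, hP, pair_invol hf hsl, mul_one, mul_inv_cancel])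
    (by rw [sig_conj, hP, C.ctx.sig_pair hsl hv ha]; norm_num) hsl
  obtain ⟨e, d, he, hee, hed, hd, hev, hdv⟩ := exists_root_perp hf h2 hv
  refine C.ctx.tw_of_conj_root hg he hee hed hd (l := s) (C.tw_of_comm_pair hsl hp hc
    (M.mul_mem (M.mul_mem hg (C.ctx.eU_mem s hee hed hd)) (M.inv_mem hg)) ?_)
  rw [← hpc, conj_mul, conj_mul]
  congr 2
  have hfix : (eU hf h2 e d).val *ᵥ v = v := eU_fix hf h2 hee hed (by rw [hf.symm, hev]) (by rw [hf.symm, hdv])
  have hcm : eU hf h2 e d * rG hf v = rG hf v * eU hf h2 e d := by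
    have h := OPow.rG_conj hf (OPow.eU_iso hf h2 e d) v
    rw [hfix] at h
    conv_rhs => rw [← h, inv_mul_cancel_right]
  rw [hP, ← mul_assoc, slotEl_mul, hcm, ← slotEl_mul, mul_assoc (slotEl s (rG hf v)), slotEl_commute hsl,
    ← mul_assoc]

end TwoCtx

end CfsgLib.Classical22.OFour
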