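/-
Two slots: centralisers of single half turns, given the facts about pairs of reflections.
-/
import Cfsg.Agent.Lib.Classical22.OrthFour.Two
import Cfsg.Agent.Lib.Classical22.OrthFour.RPlus

set_option autoImplicit false
set_option linter.unusedSectionVars false
set_option linter.unusedSimpArgs false

namespace CfsgLib.Classical22.OFour

open Matrix CfsgLib.Transvec CfsgLib.Classical22.TensorMax CfsgLib.Classical22.TensorMax.SympO
open CfsgLib.Classical22.TensorMax.SpO (sym_zero_left sym_zero_right)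
open CfsgLib.Classical22.TWMax (Idx pv slotEl slotEl_mul slotEl_data TWData IsTW)
open CfsgLib.Classical22.OFour.MCtx (slot_refl_sq)
open CfsgLib.Classical22.OPow (PIso isoF rG rG_iso rG_mul_self eU isTW_mul isTW_inv slotEl_commute)
open scoped MatrixGroups

variable {F : Type*} [Field F] [Fintype F] {f : (Fin 4 → F) → (Fin 4 → F) → F}
  {M : Subgroup (GL (Idx 2 4) F)}

/-- The element of a pair of reflections. -/
noncomputable abbrev prP (hf : Cfsg.Geo.IsSymmetricForm f) (s l : Fin 2) (v a : Fin 4 → F) : GL (Idx 2 4) F :=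
  slotEl s (rG hf v) * slotEl l (rG hf a)

omit [Fintype F] in
lemma slot_pair_mul {s l : Fin 2} (hsl : s ≠ l) (A B A' B' : GL (Fin 4) F) :
    slotEl s A * slotEl l B * (slotEl s A' * slotEl l B') = slotEl s (A * A') * slotEl l (B * B') := by
  rw [mul_assoc, ← mul_assoc (slotEl l B), slotEl_commute hsl.symm B A', mul_assoc (slotEl s A'), slotEl_mul,
    ← mul_assoc, slotEl_mul]

lemma commute_slot_neg {g : GL (Idx 2 4) F} {s : Fin 2} {A : GL (Fin 4) F} (h : Commute g (slotEl s A)) :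
    Commute g (slotEl s (-A)) := by
  rw [← neg_slotEl]; exact h.neg_right

omit [Fintype F] in
lemma commute_fst {g : GL (Idx 2 4) F} {s l : Fin 2} {A B : GL (Fin 4) F}
    (h : Commute g (slotEl s A * slotEl l B)) (hB : Commute g (slotEl l B)) : Commute g (slotEl s A) := by
  simpa using h.mul_right hB.inv_right

omit [Fintype F] in
lemma commute_snd {g : GL (Idx 2 4) F} {s l : Fin 2} {A B : GL (Fin 4) F}
    (h : Commute g (slotEl s A * slotEl l B)) (hA : Commute g (slotEl s A)) : Commute g (slotEl l B) := by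
  simpa using hA.inv_right.mul_right h

lemma commute_slot_neg_one {g : GL (Idx 2 4) F} (s : Fin 2) : Commute g (slotEl s (-1 : GL (Fin 4) F)) :=
  commute_slot_neg (by rw [slot_one]; exact Commute.one_right g)

section Vectors
variable (hf : Cfsg.Geo.IsSymmetricForm f) (h2 : (2 : F) ≠ 0)
include hf h2

omit h2 in
/-- A reflection conjugated to a multiple of a reflection. -/
lemma refl_scalar_one {v y : Fin 4 → F} (hv : f v v ≠ 0) (hy : f y y ≠ 0) {A : GL (Fin 4) F} {k : F}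
    (h : (rG hf y * A).val = k • (A * rG hf v).val) : k = 1 := by
  obtain ⟨φ, hφ⟩ : ∃ φ : (Fin 4 → F) →ₗ[F] F × F, ∀ z, φ z = (f z v, f (A.val *ᵥ z) y) :=
    ⟨{ toFun := fun z => (f z v, f (A.val *ᵥ z) y)
       map_add' := fun a b => by simp [hf.bilinear.add_left, mulVec_add]
       map_smul' := fun c a => by simp [hf.bilinear.smul_left, mulVec_smul] }, fun z => rfl⟩
  obtain ⟨z, hz, hz0⟩ := (Submodule.ne_bot_iff _).mp (LinearMap.ker_ne_bot_of_finrank_lt (f := φ) (by simp))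
  rw [LinearMap.mem_ker, hφ, Prod.mk_eq_zero] at hz
  have e := congrArg (fun X => X *ᵥ z) h
  simp only [smul_mulVec, Transvec.mul_mulVec, rG_fix hf hv hz.1, rG_fix hf hy hz.2] at e
  have e' : (k - 1) • (A.val *ᵥ z) = 0 := by rw [sub_smul, ← e, one_smul, sub_self]
  exact sub_eq_zero.mp ((smul_eq_zero.mp e').resolve_right (Transvec.mulVec_ne_zero A hz0))

/-- The two factors of a product with a common fixed vector. -/
lemma refl_pair_cases {v x : Fin 4 → F} (hv : f v v ≠ 0) (hx : f x x ≠ 0)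
    (h : rG hf v * rG hf x = rG hf x * rG hf v) :
    rG hf v * rG hf x = 1 ∨ IsHalf hf (rG hf v * rG hf x) := by
  rcases rG_comm hf h2 hv hx h with h0 | h0
  · exact Or.inr (isHalf_refl_refl hf h2 hv hx ((hf.symm v x).trans h0))
  · exact Or.inl (by rw [h0, rG_mul_self])

/-- Two commuting reflections at fixed vectors of a half turn. -/
lemma IsHalf.fix_cases {X : GL (Fin 4) F} (hX : IsHalf hf X) {v x : Fin 4 → F} (hv : f v v ≠ 0) (hx : f x x ≠ 0)
    (h : rG hf v * rG hf x = rG hf x * rG hf v) (hXv : X.val *ᵥ v = v) (hXx : X.val *ᵥ x = x) :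
    rG hf v * rG hf x = 1 ∨ rG hf v * rG hf x = -X := by
  rcases rG_comm hf h2 hv hx h with h0 | h0
  · exact Or.inr (hX.refl_refl_fix hf h2 hv hx ((hf.symm v x).trans h0) hXv hXx)
  · exact Or.inl (by rw [h0, rG_mul_self])

lemma half_swap_mul {u : Fin 4 → Fin 4 → F} (hu : Frame f u) :
    half hf u * half hf (u ∘ Equiv.swap 1 2) = half hf (u ∘ ![0, 3, 1, 2]) ∧ Frame f (u ∘ ![0, 3, 1, 2]) := by
  have hw : Frame f (u ∘ ![0, 3, 1, 2]) :=
    ⟨fun i j hij => hu.orth _ _ (by revert hij; revert i j; decide), fun i => hu.aniso _⟩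
  have h' : Eig (half hf (u ∘ Equiv.swap 1 2)) u ![1, -1, 1, -1] := by
    have h := (half_eig hf (hu.perm hf (Equiv.swap 1 2))).perm (Equiv.swap 1 2)
    rw [Function.comp_assoc, show (Equiv.swap (1 : Fin 4) 2 : Fin 4 → Fin 4) ∘ Equiv.swap 1 2 = id from
      funext fun i => Equiv.swap_apply_self 1 2 i, Function.comp_id] at h
    convert h using 1
    funext i; fin_cases i <;> simp [Equiv.swap_apply_def]
  refine ⟨hw.eig_ext hf ⟨(half_eig hf hw).sgn, fun i => ?_⟩ (half_eig hf hw), hw⟩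
  rw [Function.comp_apply, ((half_eig hf hu).mul h').act]
  fin_cases i <;> simp

lemma IsHalf.straddle_mul {X : GL (Fin 4) F} (hX : IsHalf hf X) {x y : Fin 4 → F} (hx : f x x ≠ 0) (hy : f y y ≠ 0)
    (hXx : X.val *ᵥ x = x) (hXy : X.val *ᵥ y = -y) :
    IsHalf hf (rG hf x * rG hf y) ∧ IsHalf hf (rG hf x * rG hf y * X) := by
  obtain ⟨w, hw, -, -, e1, e2⟩ := hX.straddle hf h2 hx hy hXx hXy
  have hw' := hw.perm hf (Equiv.swap 1 2)
  refine ⟨⟨_, hw', e2⟩, ?_⟩
  obtain ⟨e3, hF⟩ := half_swap_mul hf h2 hw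
  refine ⟨_, hF, ?_⟩
  rw [e2, e1, ← e3]
  exact hw.eig_comm hf (by
    have h := (half_eig hf hw').perm (Equiv.swap 1 2)
    rwa [Function.comp_assoc, show (Equiv.swap (1 : Fin 4) 2 : Fin 4 → Fin 4) ∘ Equiv.swap 1 2 = id from
      funext fun i => Equiv.swap_apply_self 1 2 i, Function.comp_id] at h) (half_eig hf hw)

/-- A half turn and a reflection at one of its eigenvectors. -/
lemma IsHalf.eig_mul_refl {X : GL (Fin 4) F} (hX : IsHalf hf X) {x : Fin 4 → F} (hx : f x x ≠ 0) {ε : ℤ}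
    (h : (ε = 1 ∧ X.val *ᵥ x = x) ∨ (ε = -1 ∧ X.val *ᵥ x = -x)) :
    ∃ u e, Frame f u ∧ Eig (X * rG hf x) u e ∧ ∑ i, e i = -2 * ε := by
  rcases h with ⟨rfl, h⟩ | ⟨rfl, h⟩
  · obtain ⟨u, hu, h0, rfl⟩ := hX.adapt_fix hf h2 hx h
    exact ⟨u, _, hu, h0 ▸ (half_eig hf hu).mul (hu.eig_rG hf 0), by simp [Fin.sum_univ_four]⟩
  · obtain ⟨u, hu, h0, rfl⟩ := hX.adapt_neg hf h2 hx h
    exact ⟨u, _, hu, h0 ▸ (half_eig hf hu).mul (hu.eig_rG hf 2), by simp [Fin.sum_univ_four]⟩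

omit h2 in
lemma neg_fix {X : GL (Fin 4) F} {x : Fin 4 → F} (h : X.val *ᵥ x = -x) : (-X).val *ᵥ x = x := by
  rw [Units.val_neg, neg_mulVec, h, neg_neg]

omit h2 in
lemma neg_neg_vec {X : GL (Fin 4) F} {x : Fin 4 → F} (h : X.val *ᵥ x = x) : (-X).val *ᵥ x = -x := by
  rw [Units.val_neg, neg_mulVec, h]

/-- One of the two planes of a half turn has non-square discriminant. -/
lemma IsHalf.exists_nonsq (hn : NoLine f) {Y : GL (Fin 4) F} (hY : IsHalf hf Y) :
    ∃ w, Frame f w ∧ ¬ IsSquare (f (w 0) (w 0) * f (w 1) (w 1)) ∧ (Y = half hf w ∨ Y = -half hf w) := by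
  obtain ⟨w, hw, rfl⟩ := hY
  by_cases h : IsSquare (f (w 0) (w 0) * f (w 1) (w 1))
  swap
  · exact ⟨w, hw, h, Or.inl rfl⟩
  obtain ⟨hw', e⟩ := half_rot hf h2 hw
  refine ⟨_, hw', fun h' => ?_, Or.inr (by rw [e, neg_neg])⟩
  simp only [Function.comp_apply, Matrix.cons_val_zero, Matrix.cons_val_one] at h'
  by_cases hm : IsSquare (-1 : F)
  · exact hw.planes hf h2 hn ⟨by simpa using hm.mul h, by simpa using hm.mul h'⟩
  · rcases hw.planes' hf h2 hn with h0 | h0
    · exact hm (by simpa [mul_ne_zero (hw.aniso 0) (hw.aniso 1)] using h0.div h)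
    · exact hm (by simpa [mul_ne_zero (hw.aniso 2) (hw.aniso 3)] using h0.div h')

end Vectors

/-- The facts about pairs of reflections used for two slots. -/
structure PairHyp (C : TwoCtx f M) : Prop where
  hP : ∀ s l : Fin 2, s ≠ l → ∀ v a : Fin 4 → F, f v v ≠ 0 → f a a ≠ 0 → ∀ g ∈ M,
    g * prP C.ctx.sym s l v a = prP C.ctx.sym s l v a * g → IsTW g
  hJ : ∀ s l : Fin 2, s ≠ l → ∀ v a : Fin 4 → F, f v v ≠ 0 → f a a ≠ 0 → ∀ g ∈ M,
    IsTW (g * prP C.ctx.sym s l v a * g⁻¹) → IsTW g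

namespace TwoCtx
variable (C : TwoCtx f M)
include C

lemma sig_pr {s l : Fin 2} (hsl : s ≠ l) {v a : Fin 4 → F} (hv : f v v ≠ 0) (ha : f a a ≠ 0) :
    sig (prP C.ctx.sym s l v a) = 4 := by
  simpa using C.ctx.sig_pair (t := 0) hsl hv ha

/-- The signature of a single half turn times a pair. -/
lemma sig_half_pr {s l : Fin 2} (hsl : s ≠ l) {X : GL (Fin 4) F} (hX : IsHalf C.ctx.sym X) {v a : Fin 4 → F}
    (hv : f v v ≠ 0) (ha : f a a ≠ 0) {ε : ℤ}
    (h : (ε = 1 ∧ X.val *ᵥ v = v) ∨ (ε = -1 ∧ X.val *ᵥ v = -v)) :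
    sig (slotEl s X * prP C.ctx.sym s l v a) = -4 * ε := by
  rcases h with ⟨rfl, h⟩ | ⟨rfl, h⟩
  · simpa using C.ctx.sig_half_pair_fix (t := 0) hsl hX hv ha h
  · simpa using C.ctx.sig_half_pair_neg (t := 0) hsl hX hv ha h

/-- The signature of a double half turn times a pair. -/
lemma sig_halves_pr {s l : Fin 2} (hsl : s ≠ l) {X Y : GL (Fin 4) F} (hX : IsHalf C.ctx.sym X) (hY : IsHalf C.ctx.sym Y)
    {v a : Fin 4 → F} (hv : f v v ≠ 0) (ha : f a a ≠ 0) {ε δ : ℤ}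
    (h : (ε = 1 ∧ X.val *ᵥ v = v) ∨ (ε = -1 ∧ X.val *ᵥ v = -v))
    (h' : (δ = 1 ∧ Y.val *ᵥ a = a) ∨ (δ = -1 ∧ Y.val *ᵥ a = -a)) :
    sig (slotEl s X * slotEl l Y * prP C.ctx.sym s l v a) = 4 * ε * δ := by
  obtain ⟨u, e, hu, he, hes⟩ := hX.eig_mul_refl C.ctx.sym C.ctx.two hv h
  obtain ⟨w, e', hw, he', hes'⟩ := hY.eig_mul_refl C.ctx.sym C.ctx.two ha h'
  rw [slot_pair_mul hsl, C.ctx.sig_two hsl hu he hw he', hes, hes']
  ring

/-- The components of a product commuting with a pair commute with the reflections. -/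
lemma comm_pr {s l : Fin 2} (hsl : s ≠ l) {A B : GL (Fin 4) F} {v a : Fin 4 → F} (hv : f v v ≠ 0) (ha : f a a ≠ 0)
    (h : slotEl s A * slotEl l B * prP C.ctx.sym s l v a = prP C.ctx.sym s l v a * (slotEl s A * slotEl l B)) :
    A * rG C.ctx.sym v = rG C.ctx.sym v * A ∧ B * rG C.ctx.sym a = rG C.ctx.sym a * B := by
  rw [slot_pair_mul hsl, slot_pair_mul hsl] at h
  obtain ⟨k, -, hk⟩ := pair_slot_eq hsl h
  have h' : slotEl l (B * rG C.ctx.sym a) * slotEl s (A * rG C.ctx.sym v) =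
      slotEl l (rG C.ctx.sym a * B) * slotEl s (rG C.ctx.sym v * A) := by
    rwa [slotEl_commute hsl.symm, slotEl_commute hsl.symm]
  obtain ⟨k', -, hk'⟩ := pair_slot_eq hsl.symm h'
  have e := refl_scalar_one C.ctx.sym hv hv hk
  have e' := refl_scalar_one C.ctx.sym ha ha hk'
  rw [e, one_smul] at hk
  rw [e', one_smul] at hk'
  exact ⟨(Units.ext hk).symm, (Units.ext hk').symm⟩

/-- The forms under a tensor wreath element. -/
lemma iso_two {k : GL (Idx 2 4) F} (hk : k ∈ M) {σ : Equiv.Perm (Fin 2)} {gs : Fin 2 → GL (Fin 4) F}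
    (hd : TWData k σ gs) {s l : Fin 2} (hsl : s ≠ l) (p p' q q' : Fin 4 → F) :
    f ((gs s).val *ᵥ p) ((gs s).val *ᵥ p') * f ((gs l).val *ᵥ q) ((gs l).val *ᵥ q') = f p p' * f q q' := by
  have hf := C.ctx.sym
  have hne : σ l ≠ σ s := fun h => hsl (σ.injective h).symm
  have h := C.ctx.iso k hk (pv (Function.update (fun _ => q) (σ s) p)) (pv (Function.update (fun _ => q') (σ s) p'))
  rw [hd, hd, OPow.bil_pv hf, OPow.bil_pv hf,
    ← Equiv.prod_comp σ (fun i => f (Function.update (fun _ => q) (σ s) p i) (Function.update (fun _ => q') (σ s) p' i))]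
    at h
  have hu : (Finset.univ : Finset (Fin 2)) = {s, l} :=
    (by decide : ∀ a b : Fin 2, a ≠ b → (Finset.univ : Finset (Fin 2)) = {a, b}) s l hsl
  rw [hu, Finset.prod_pair hsl, Finset.prod_pair hsl, Function.update_self, Function.update_self,
    Function.update_of_ne hne, Function.update_of_ne hne] at h
  exact h

/-- A tensor wreath element conjugates a product over both slots componentwise. -/
lemma conj_pr {k : GL (Idx 2 4) F} {σ : Equiv.Perm (Fin 2)} {gs : Fin 2 → GL (Fin 4) F} (hd : TWData k σ gs)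
    {s l : Fin 2} (hsl : s ≠ l) (A B : GL (Fin 4) F) :
    (σ s = s ∧ k * (slotEl s A * slotEl l B) * k⁻¹ =
        slotEl s (gs s * A * (gs s)⁻¹) * slotEl l (gs l * B * (gs l)⁻¹)) ∨
      (σ s = l ∧ k * (slotEl s A * slotEl l B) * k⁻¹ =
        slotEl s (gs s * B * (gs s)⁻¹) * slotEl l (gs l * A * (gs l)⁻¹)) := by
  have key : ∀ a b : Fin 2, a ≠ b → σ a = a ∧ σ b = b ∨ σ a = b ∧ σ b = a :=
    (by decide : ∀ (τ : Equiv.Perm (Fin 2)) (a b : Fin 2), a ≠ b → τ a = a ∧ τ b = b ∨ τ a = b ∧ τ b = a) σ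
  rcases key s l hsl with ⟨h1, h2⟩ | ⟨h1, h2⟩
  · refine Or.inl ⟨h1, ?_⟩
    rw [← hd.conj_slotEl s, ← hd.conj_slotEl l, h1, h2]; group
  · refine Or.inr ⟨h1, ?_⟩
    rw [← hd.conj_slotEl s, ← hd.conj_slotEl l, h1, h2, slotEl_commute hsl]; group

/-- Components of a conjugated reflection. -/
lemma conj_refl_vec {s l : Fin 2} (hsl : s ≠ l) {g : GL (Fin 4) F} {B B' : GL (Fin 4) F} {v x : Fin 4 → F}
    (hv : f v v ≠ 0) (hx : f x x ≠ 0)
    (h : slotEl s (g * rG C.ctx.sym v * g⁻¹) * slotEl l B = slotEl s (rG C.ctx.sym x) * slotEl l B') :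
    ∃ α : F, g.val *ᵥ v = α • x := by
  have hf := C.ctx.sym
  obtain ⟨k, -, hk⟩ := pair_slot_eq hsl h
  have e : (rG hf x * g).val = k • (g * rG hf v).val := by
    rw [Units.val_mul, hk, Matrix.smul_mul, ← Units.val_mul, inv_mul_cancel_right]
  rw [refl_scalar_one hf hv hx e, one_smul] at hk
  refine rG_neg_vec hf C.ctx.two hx ?_
  rw [hk, Transvec.mul_mulVec, Transvec.mul_mulVec, Transvec.inv_mulVec_cancel, rG_self hf hv, mulVec_neg]

/-- Conjugate pairs have the same square class. -/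
lemma square_of_conj {k : GL (Idx 2 4) F} (hk : k ∈ M) (htw : IsTW k) {s l : Fin 2} (hsl : s ≠ l)
    {v a x y : Fin 4 → F} (hv : f v v ≠ 0) (ha : f a a ≠ 0) (hx : f x x ≠ 0) (hy : f y y ≠ 0)
    (h : k * prP C.ctx.sym s l v a * k⁻¹ = prP C.ctx.sym s l x y) : IsSquare (f v v * f a a * (f x x * f y y)) := by
  have hf := C.ctx.sym
  obtain ⟨σ, gs, hd⟩ := htw
  have fin : ∀ v a, f v v ≠ 0 → f a a ≠ 0 →
      slotEl s (gs s * rG hf v * (gs s)⁻¹) * slotEl l (gs l * rG hf a * (gs l)⁻¹) = prP hf s l x y →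
      IsSquare (f v v * f a a * (f x x * f y y)) := by
    intro v a hv ha e
    obtain ⟨α, hα⟩ := C.conj_refl_vec hsl hv hx e
    obtain ⟨β, hβ⟩ := C.conj_refl_vec hsl.symm ha hy (B' := rG hf x)
      (by rw [slotEl_commute hsl.symm, e, prP, slotEl_commute hsl])
    have h1 := C.iso_two hk hd hsl v v a a
    rw [hα, hβ, SpO.sym_quad_smul hf, SpO.sym_quad_smul hf] at h1
    exact ⟨α * β * (f x x * f y y), by rw [← h1]; ring⟩
  rcases C.conj_pr hd hsl (rG hf v) (rG hf a) with ⟨-, e⟩ | ⟨-, e⟩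
  · exact fin v a hv ha (e.symm.trans h)
  · rw [mul_comm (f v v) (f a a)]
    exact fin a v ha hv (e.symm.trans h)

/-- The common argument in a centraliser. -/
lemma central_step (hh : PairHyp C) {s l : Fin 2} (hsl : s ≠ l) {H : Subgroup (GL (Idx 2 4) F)} (hHM : H ≤ M)
    {v a v' a' : Fin 4 → F} (hv : f v v ≠ 0) (ha : f a a ≠ 0) (hv' : f v' v' ≠ 0) (ha' : f a' a' ≠ 0)
    (ht : prP C.ctx.sym s l v a ∈ H) (hS : prP C.ctx.sym s l v' a' ∈ H) {g : GL (Idx 2 4) F} (hg : g ∈ H)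
    {x₀ : GL (Idx 2 4) F} (hx₀ : ∀ k ∈ H, Commute k x₀)
    (hne : sig (x₀ * prP C.ctx.sym s l v a) ≠ sig (x₀ * prP C.ctx.sym s l v' a')) :
    ∃ (c : GL (Idx 2 4) F) (x y : Fin 4 → F), f x x ≠ 0 ∧ f y y ≠ 0 ∧ prP C.ctx.sym s l x y ∈ H ∧
      c = slotEl s (rG C.ctx.sym v * rG C.ctx.sym x) * slotEl l (rG C.ctx.sym a * rG C.ctx.sym y) ∧
      rG C.ctx.sym v * rG C.ctx.sym x = rG C.ctx.sym x * rG C.ctx.sym v ∧
      rG C.ctx.sym a * rG C.ctx.sym y = rG C.ctx.sym y * rG C.ctx.sym a ∧ c ≠ 1 ∧ c * c = 1 ∧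
      Commute (g * prP C.ctx.sym s l v' a' * g⁻¹) c ∧ sig (g * prP C.ctx.sym s l v' a' * g⁻¹ * c) = 4 ∧
      ((∃ k ∈ H, k * prP C.ctx.sym s l v a * k⁻¹ = prP C.ctx.sym s l x y) ∧
          (∃ k ∈ H, k * prP C.ctx.sym s l v' a' * k⁻¹ = g * prP C.ctx.sym s l v' a' * g⁻¹ * c) ∨
        ∃ k ∈ H, k * prP C.ctx.sym s l v' a' * k⁻¹ = prP C.ctx.sym s l x y) := by
  have hf := C.ctx.sym
  obtain ⟨t, htd⟩ : ∃ t, t = prP hf s l v a := ⟨_, rfl⟩
  obtain ⟨S, hSd⟩ : ∃ S, S = prP hf s l v' a' := ⟨_, rfl⟩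
  rw [← htd] at ht hne ⊢
  rw [← hSd] at hS hne ⊢
  obtain ⟨T, hT⟩ : ∃ T, T = g * S * g⁻¹ := ⟨_, rfl⟩
  rw [← hT]
  have ht2 : t * t = 1 := htd ▸ pair_invol hf hsl v a
  have hTH : T ∈ H := hT ▸ H.mul_mem (H.mul_mem hg hS) (H.inv_mem hg)
  have hT2 : T * T = 1 := by rw [hT, conj_mul, hSd, pair_invol hf hsl v' a', mul_one, mul_inv_cancel]
  have hne' : ∀ k ∈ H, k * t * k⁻¹ ≠ T := fun k hk e => hne (by
    have inv : ∀ q ∈ H, ∀ z, sig (x₀ * (q * z * q⁻¹)) = sig (x₀ * z) := fun q hq z => by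
      rw [← mul_assoc, ← mul_assoc, ← (hx₀ q hq).eq, mul_assoc q, sig_conj]
    rw [← inv k hk, e, hT, inv g hg])
  obtain ⟨c, hcH, hc2, hc1, hct, hcT, hcl⟩ := exists_central ht hTH ht2 hT2 hne'
  have hcW : IsTW c := hh.hP s l hsl v a hv ha c (hHM hcH) (htd ▸ hct)
  have hsT : sig T = 4 := by rw [hT, sig_conj, hSd, C.sig_pr hsl hv' ha']
  have hst : sig t = 4 := by rw [htd, C.sig_pr hsl hv ha]
  have hsig : sig (t * c) = 4 ∧ sig (T * c) = 4 := by
    rcases hcl with ⟨⟨k, -, e⟩, k', -, e'⟩ | ⟨⟨k, -, e⟩, k', -, e'⟩ <;> rw [← e, ← e', sig_conj, sig_conj]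
    exacts [⟨hst, hsT⟩, ⟨hsT, hst⟩]
  have htcH : t * c ∈ H := H.mul_mem ht hcH
  obtain ⟨x, y, hx, hy, hxy⟩ := C.pair_of_sig (hHM htcH)
    (isTW_mul (htd ▸ isTW_mul (slotEl_tw s _) (slotEl_tw l _)) hcW) (invol_mul ht2 hc2 hct.symm) hsig.1 hsl
  have hce : c = slotEl s (rG hf v * rG hf x) * slotEl l (rG hf a * rG hf y) := by
    rw [← slot_pair_mul hsl, ← hxy, show slotEl s (rG hf v) * slotEl l (rG hf a) = t from htd.symm, ← mul_assoc, ht2,
      one_mul]
  have hcm : prP hf s l v a * prP hf s l x y = prP hf s l x y * prP hf s l v a := by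
    rw [← htd, prP, ← hxy, ← mul_assoc, ht2, one_mul, mul_assoc, hct, ← mul_assoc, ht2, one_mul]
  obtain ⟨h1, h3⟩ := C.comm_pr hsl hx hy hcm
  refine ⟨c, x, y, hx, hy, by rw [prP, ← hxy]; exact htcH, hce, h1, h3, hc1, hc2, hcT.symm, hsig.2, ?_⟩
  rcases hcl with ⟨⟨k, hk, e⟩, k', hk', e'⟩ | ⟨⟨k, hk, e⟩, -⟩
  · refine Or.inl ⟨⟨k, hk, by rw [e, hxy]⟩, k' * g, H.mul_mem hk' hg, ?_⟩
    rw [← e', hT]; group
  · refine Or.inr ⟨k * g, H.mul_mem hk hg, ?_⟩
    rw [prP, ← hxy, ← e, hT]; group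

/-- The invariant of a conjugate. -/
lemma sig_inv {k x₀ z : GL (Idx 2 4) F} (h : Commute k x₀) : sig (x₀ * (k * z * k⁻¹)) = sig (x₀ * z) := by
  rw [← mul_assoc, ← mul_assoc, ← h.eq, mul_assoc k, sig_conj]

variable (hh : PairHyp C)
include hh

/-- The centraliser of single half turns in both slots. -/
theorem tw_J0 {s l : Fin 2} (hsl : s ≠ l) {X Y : GL (Fin 4) F} (hX : IsHalf C.ctx.sym X) (hY : IsHalf C.ctx.sym Y)
    {g : GL (Idx 2 4) F} (hg : g ∈ M) (hgX : Commute g (slotEl s X)) (hgY : Commute g (slotEl l Y)) : IsTW g := by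
  have hf := C.ctx.sym
  have h2 := C.ctx.two
  obtain ⟨w, hw, hns, hYw⟩ := hY.exists_nonsq hf h2 C.ctx.noline
  have hgw : Commute g (slotEl l (half hf w)) := by
    rcases hYw with rfl | rfl
    · exact hgY
    · simpa using commute_slot_neg hgY
  obtain ⟨u, hu, rfl⟩ := hX
  have hX : IsHalf hf (half hf u) := ⟨u, hu, rfl⟩
  have hY : IsHalf hf (half hf w) := ⟨w, hw, rfl⟩
  have hH := half_eig hf hu
  have hW := half_eig hf hw
  obtain ⟨H, memH⟩ : ∃ H : Subgroup (GL (Idx 2 4) F),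
      ∀ x, x ∈ H ↔ x ∈ M ∧ Commute x (slotEl s (half hf u)) ∧ Commute x (slotEl l (half hf w)) :=
    ⟨M ⊓ (Subgroup.centralizer {slotEl s (half hf u)} ⊓ Subgroup.centralizer {slotEl l (half hf w)}), fun x => by
      simp only [Subgroup.mem_inf, Subgroup.mem_centralizer_singleton_iff]; rfl⟩
  have hHM : H ≤ M := fun x hx => ((memH x).mp hx).1
  have hmem : ∀ i j, prP hf s l (u i) (w j) ∈ H := fun i j => (memH _).mpr
    ⟨C.pair_mem hsl (hu.aniso i) (hw.aniso j),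
      Commute.mul_left ((slotEl_comm_iff s).mpr (hu.eig_comm hf (hu.eig_rG hf i) hH))
        (slotEl_commute hsl.symm _ _),
      Commute.mul_left (slotEl_commute hsl _ _)
        ((slotEl_comm_iff l).mpr (hw.eig_comm hf (hw.eig_rG hf j) hW))⟩
  have hgH : g ∈ H := (memH g).mpr ⟨hg, hgX, hgw⟩
  have hT : g * prP hf s l (u 2) (w 0) * g⁻¹ ∈ H := H.mul_mem (H.mul_mem hgH (hmem 2 0)) (H.inv_mem hgH)
  have u0 : (half hf u).val *ᵥ u 0 = u 0 := hH.fix (by simp)
  have u2 : (half hf u).val *ᵥ u 2 = -u 2 := by rw [hH.act]; simp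
  have w0 : (half hf w).val *ᵥ w 0 = w 0 := hW.fix (by simp)
  have s1 := C.sig_half_pr hsl hX (hu.aniso 0) (hw.aniso 0) (ε := 1) (Or.inl ⟨rfl, u0⟩)
  have s2 := C.sig_half_pr hsl hX (hu.aniso 2) (hw.aniso 0) (ε := -1) (Or.inr ⟨rfl, u2⟩)
  obtain ⟨c, x, y, hx, hy, hxyH, hc, hvx, hay, hc1, hc2, hTc, hsTc, hcl⟩ :=
    C.central_step hh hsl hHM (hu.aniso 0) (hw.aniso 0) (hu.aniso 2) (hw.aniso 0) (hmem 0 0) (hmem 2 0) hgH
      (x₀ := slotEl s (half hf u)) (fun k hk => ((memH k).mp hk).2.1) (by rw [s1, s2]; norm_num)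
  obtain ⟨-, cX, cY⟩ := (memH _).mp hxyH
  have xs := hX.comm_cases hf h2 hx (Ctx4.comm_component C.ctx hsl cX.eq.symm).symm
  have ys := hY.comm_cases hf h2 hy (Ctx4.comm_component C.ctx hsl.symm (A := rG hf y) (B := rG hf x)
    (by rw [← slotEl_commute hsl]; exact cY.eq.symm)).symm
  -- the side of the second vector
  have yfix : (half hf w).val *ᵥ y = y := by
    rcases ys with h | h
    · exact h
    exfalso
    have d : ∀ i, f (u i) (u i) ≠ 0 → sig (slotEl l (half hf w) * prP hf s l (u i) (w 0)) = -4 := fun i hi => by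
      rw [prP, slotEl_commute hsl]
      simpa using C.sig_half_pr hsl.symm hY (hw.aniso 0) hi (ε := 1) (Or.inl ⟨rfl, w0⟩)
    have e : sig (slotEl l (half hf w) * prP hf s l x y) = -4 := by
      rcases hcl with ⟨⟨k, hk, e⟩, -⟩ | ⟨k, hk, e⟩ <;> rw [← e, C.sig_inv ((memH k).mp hk).2.2]
      exacts [d 0 (hu.aniso 0), d 2 (hu.aniso 2)]
    rw [prP, slotEl_commute hsl] at e
    have := C.sig_half_pr hsl.symm hY hy hx (ε := -1) (Or.inr ⟨rfl, h⟩)
    rw [prP] at this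
    omega
  have bcases := hY.fix_cases hf h2 (hw.aniso 0) hy hay w0 yfix
  obtain ⟨hTM, hTu, hTw⟩ := (memH _).mp hT
  refine hh.hJ s l hsl _ _ (hu.aniso 2) (hw.aniso 0) g hg ?_
  rcases hcl with ⟨⟨k, hk, e⟩, k', hk', e'⟩ | ⟨k, hk, e⟩
  · -- the first vector is fixed
    exfalso
    have xfix : (half hf u).val *ᵥ x = x := by
      rcases xs with h | h
      · exact h
      have := C.sig_half_pr hsl hX hx hy (ε := -1) (Or.inr ⟨rfl, h⟩)
      rw [← e, C.sig_inv ((memH k).mp hk).2.1, s1] at this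
      omega
    have hcC : ∀ q ∈ H, Commute q c := fun q hq => by
      rw [hc]
      refine Commute.mul_right ?_ ?_
      · rcases hX.fix_cases hf h2 (hu.aniso 0) hx hvx u0 xfix with h | h <;> rw [h]
        exacts [by rw [slot_one]; exact Commute.one_right q, commute_slot_neg ((memH q).mp hq).2.1]
      · rcases bcases with h | h <;> rw [h]
        exacts [by rw [slot_one]; exact Commute.one_right q, commute_slot_neg ((memH q).mp hq).2.2]
    have hgc := hcC g hgH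
    have eT : g * (prP hf s l (u 2) (w 0) * c) * g⁻¹ = g * prP hf s l (u 2) (w 0) * g⁻¹ * c := by
      rw [mul_assoc (g * prP hf s l (u 2) (w 0)) g⁻¹ c, hgc.inv_left.eq]; group
    rw [← eT, sig_conj] at hsTc
    rcases hX.fix_cases hf h2 (hu.aniso 0) hx hvx u0 xfix with h | h
    · rw [h, slot_one, one_mul] at hc
      rcases bcases with h' | h'
      · exact hc1 (by rw [hc, h', slot_one])
      have w1 : rG hf (w 0) * rG hf (w 1) = -half hf w :=
        hY.refl_refl_fix hf h2 (hw.aniso 0) (hw.aniso 1) (hw.orth 0 1 (by decide)) w0 (hW.fix (by simp))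
      have eS : prP hf s l (u 2) (w 0) * c = prP hf s l (u 2) (w 1) := by
        rw [hc, h', ← w1, prP, prP, mul_assoc, slotEl_mul, ← mul_assoc (rG hf (w 0)), rG_mul_self, one_mul]
      obtain ⟨k₂, hk₂⟩ : ∃ q, q = g⁻¹ * k' := ⟨_, rfl⟩
      have e2 : k₂ * prP hf s l (u 2) (w 0) * k₂⁻¹ = prP hf s l (u 2) (w 1) := by
        rw [← eS, hk₂, show g⁻¹ * k' * prP hf s l (u 2) (w 0) * (g⁻¹ * k')⁻¹ =
          g⁻¹ * (k' * prP hf s l (u 2) (w 0) * k'⁻¹) * g by group, e', ← eT]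
        group
      have hk₂M : k₂ ∈ M := hk₂ ▸ M.mul_mem (M.inv_mem hg) (hHM hk')
      obtain ⟨r, hr⟩ := C.square_of_conj hk₂M (hh.hJ s l hsl _ _ (hu.aniso 2) (hw.aniso 0) k₂ hk₂M
        (by rw [e2]; exact isTW_mul (slotEl_tw s _) (slotEl_tw l _))) hsl (hu.aniso 2) (hw.aniso 0) (hu.aniso 2)
        (hw.aniso 1) e2
      refine hns ⟨r / f (u 2) (u 2), ?_⟩
      have := hu.aniso 2
      field_simp
      linear_combination hr
    · rw [(hcC _ (hmem 2 0)).eq, hc, h] at hsTc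
      rcases bcases with h' | h' <;> rw [h'] at hsTc
      · rw [slot_one, mul_one, C.sig_half_pr hsl (hX.neg hf h2) (hu.aniso 2) (hw.aniso 0) (ε := 1)
          (Or.inl ⟨rfl, neg_fix hf u2⟩)] at hsTc
        norm_num at hsTc
      · rw [C.sig_halves_pr hsl (hX.neg hf h2) (hY.neg hf h2) (hu.aniso 2) (hw.aniso 0) (ε := 1) (δ := -1)
          (Or.inl ⟨rfl, neg_fix hf u2⟩) (Or.inr ⟨rfl, neg_neg_vec hf w0⟩)] at hsTc
        norm_num at hsTc
  · -- the first vector is negated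
    have xneg : (half hf u).val *ᵥ x = -x := by
      rcases xs with h | h
      · have := C.sig_half_pr hsl hX hx hy (ε := 1) (Or.inl ⟨rfl, h⟩)
        rw [← e, C.sig_inv ((memH k).mp hk).2.1, s2] at this
        omega
      · exact h
    obtain ⟨v, hv, -, -, hXv, hstr⟩ := hX.straddle hf h2 (hu.aniso 0) hx u0 xneg
    refine C.ctx.tw_of_comm_halves (s := s) hv hTM (by rw [← hXv]; exact hTu.eq) ?_
    rw [← hstr]
    rw [hc] at hTc
    refine (commute_fst hTc ?_).eq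
    rcases bcases with h | h <;> rw [h]
    exacts [by rw [slot_one]; exact Commute.one_right _, commute_slot_neg hTw]

/-- The centraliser of a single half turn and an overlapping double one. -/
theorem tw_J1 {s l : Fin 2} (hsl : s ≠ l) {u : Fin 4 → Fin 4 → F} (hu : Frame f u) {Y : GL (Fin 4) F}
    (hY : IsHalf C.ctx.sym Y) {g : GL (Idx 2 4) F} (hg : g ∈ M)
    (hgX : Commute g (slotEl s (half C.ctx.sym u)))
    (hgD : Commute g (slotEl s (half C.ctx.sym (u ∘ Equiv.swap 1 2)) * slotEl l Y)) : IsTW g := by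
  have hf := C.ctx.sym
  have h2 := C.ctx.two
  obtain ⟨w, hw, hns, hYw⟩ := hY.exists_nonsq hf h2 C.ctx.noline
  obtain ⟨X', hX'd⟩ : ∃ q, q = half hf (u ∘ Equiv.swap 1 2) := ⟨_, rfl⟩
  rw [← hX'd] at hgD
  have hgD' : Commute g (slotEl s X' * slotEl l (half hf w)) := by
    rcases hYw with rfl | rfl
    · exact hgD
    · rw [← neg_slotEl, mul_neg] at hgD
      simpa using hgD.neg_right
  have hX : IsHalf hf (half hf u) := ⟨u, hu, rfl⟩
  have hX' : IsHalf hf X' := ⟨_, hu.perm hf (Equiv.swap 1 2), hX'd⟩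
  have hY : IsHalf hf (half hf w) := ⟨w, hw, rfl⟩
  have hH := half_eig hf hu
  have hW := half_eig hf hw
  have hH' : Eig X' u ![1, -1, 1, -1] := by
    have h := (half_eig hf (hu.perm hf (Equiv.swap 1 2))).perm (Equiv.swap 1 2)
    rw [Function.comp_assoc, show (Equiv.swap (1 : Fin 4) 2 : Fin 4 → Fin 4) ∘ Equiv.swap 1 2 = id from
      funext fun i => Equiv.swap_apply_self 1 2 i, Function.comp_id, ← hX'd] at h
    convert h using 1
    funext i; fin_cases i <;> simp [Equiv.swap_apply_def]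
  obtain ⟨H, memH⟩ : ∃ H : Subgroup (GL (Idx 2 4) F), ∀ x, x ∈ H ↔
      x ∈ M ∧ Commute x (slotEl s (half hf u)) ∧ Commute x (slotEl s X' * slotEl l (half hf w)) :=
    ⟨M ⊓ (Subgroup.centralizer {slotEl s (half hf u)} ⊓
      Subgroup.centralizer {slotEl s X' * slotEl l (half hf w)}), fun x => by
      simp only [Subgroup.mem_inf, Subgroup.mem_centralizer_singleton_iff]; rfl⟩
  have hHM : H ≤ M := fun x hx => ((memH x).mp hx).1
  have hmem : ∀ i j, prP hf s l (u i) (w j) ∈ H := fun i j => (memH _).mpr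
    ⟨C.pair_mem hsl (hu.aniso i) (hw.aniso j),
      Commute.mul_left ((slotEl_comm_iff s).mpr (hu.eig_comm hf (hu.eig_rG hf i) hH)) (slotEl_commute hsl.symm _ _),
      by
        change _ * _ = _ * _
        rw [slot_pair_mul hsl, slot_pair_mul hsl, hu.eig_comm hf (hu.eig_rG hf i) hH',
          hw.eig_comm hf (hw.eig_rG hf j) hW]⟩
  have hgH : g ∈ H := (memH g).mpr ⟨hg, hgX, hgD'⟩
  have hT : g * prP hf s l (u 2) (w 0) * g⁻¹ ∈ H := H.mul_mem (H.mul_mem hgH (hmem 2 0)) (H.inv_mem hgH)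
  obtain ⟨hTM, hTu, hTD⟩ := (memH _).mp hT
  have u0 : (half hf u).val *ᵥ u 0 = u 0 := hH.fix (by simp)
  have u2 : (half hf u).val *ᵥ u 2 = -u 2 := by rw [hH.act]; simp
  have u0' : X'.val *ᵥ u 0 = u 0 := hH'.fix (by simp)
  have u2' : X'.val *ᵥ u 2 = u 2 := hH'.fix (by simp)
  have w0 : (half hf w).val *ᵥ w 0 = w 0 := hW.fix (by simp)
  have s1 := C.sig_half_pr hsl hX (hu.aniso 0) (hw.aniso 0) (ε := 1) (Or.inl ⟨rfl, u0⟩)
  have s2 := C.sig_half_pr hsl hX (hu.aniso 2) (hw.aniso 0) (ε := -1) (Or.inr ⟨rfl, u2⟩)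
  obtain ⟨c, x, y, hx, hy, hxyH, hc, hvx, hay, hc1, hc2, hTc, hsTc, hcl⟩ :=
    C.central_step hh hsl hHM (hu.aniso 0) (hw.aniso 0) (hu.aniso 2) (hw.aniso 0) (hmem 0 0) (hmem 2 0) hgH
      (x₀ := slotEl s (half hf u)) (fun k hk => ((memH k).mp hk).2.1) (by rw [s1, s2]; norm_num)
  obtain ⟨-, cX, cD⟩ := (memH _).mp hxyH
  obtain ⟨cX', cY⟩ := C.comm_pr hsl hx hy cD.eq.symm
  have xs := hX.comm_cases hf h2 hx (Ctx4.comm_component C.ctx hsl cX.eq.symm).symm
  -- the two components lie on one side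
  have sides : (X'.val *ᵥ x = x ∧ (half hf w).val *ᵥ y = y) ∨
      (X'.val *ᵥ x = -x ∧ (half hf w).val *ᵥ y = -y) := by
    have d : sig (slotEl s X' * slotEl l (half hf w) * prP hf s l x y) = 4 := by
      rcases hcl with ⟨⟨k, hk, e⟩, -⟩ | ⟨k, hk, e⟩ <;> rw [← e, C.sig_inv ((memH k).mp hk).2.2]
      · simpa using C.sig_halves_pr hsl hX' hY (hu.aniso 0) (hw.aniso 0) (ε := 1) (δ := 1) (Or.inl ⟨rfl, u0'⟩)
          (Or.inl ⟨rfl, w0⟩)
      · simpa using C.sig_halves_pr hsl hX' hY (hu.aniso 2) (hw.aniso 0) (ε := 1) (δ := 1) (Or.inl ⟨rfl, u2'⟩)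
          (Or.inl ⟨rfl, w0⟩)
    rcases hX'.comm_cases hf h2 hx cX'.symm with a | a <;> rcases hY.comm_cases hf h2 hy cY.symm with b | b
    · exact Or.inl ⟨a, b⟩
    · rw [C.sig_halves_pr hsl hX' hY hx hy (ε := 1) (δ := -1) (Or.inl ⟨rfl, a⟩) (Or.inr ⟨rfl, b⟩)] at d
      norm_num at d
    · rw [C.sig_halves_pr hsl hX' hY hx hy (ε := -1) (δ := 1) (Or.inr ⟨rfl, a⟩) (Or.inl ⟨rfl, b⟩)] at d
      norm_num at d
    · exact Or.inr ⟨a, b⟩
  rw [hc] at hTc
  refine hh.hJ s l hsl _ _ (hu.aniso 2) (hw.aniso 0) g hg ?_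
  rcases hcl with ⟨⟨k, hk, e⟩, -⟩ | ⟨k, hk, e⟩
  · -- the first vector is fixed
    have xfix : (half hf u).val *ᵥ x = x := by
      rcases xs with h | h
      · exact h
      have := C.sig_half_pr hsl hX hx hy (ε := -1) (Or.inr ⟨rfl, h⟩)
      rw [← e, C.sig_inv ((memH k).mp hk).2.1, s1] at this
      omega
    have hA : Commute (g * prP hf s l (u 2) (w 0) * g⁻¹) (slotEl s (rG hf (u 0) * rG hf x)) := by
      rcases hX.fix_cases hf h2 (hu.aniso 0) hx hvx u0 xfix with h | h <;> rw [h]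
      exacts [by rw [slot_one]; exact Commute.one_right _, commute_slot_neg hTu]
    have hB := commute_snd hTc hA
    rcases sides with ⟨xf, yf⟩ | ⟨-, yn⟩
    · rcases hY.fix_cases hf h2 (hw.aniso 0) hy hay w0 yf with h' | h'
      · exfalso
        have hx1 : rG hf (u 0) * rG hf x = 1 := by
          rcases hX.fix_cases hf h2 (hu.aniso 0) hx hvx u0 xfix with h | h
          · exact h
          rcases hX'.fix_cases hf h2 (hu.aniso 0) hx hvx u0' xf with h'' | h''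
          · exact h''
          exfalso
          have e1 := congrArg (fun A : GL (Fin 4) F => A.val *ᵥ u 1) (h.symm.trans h'')
          simp only [Units.val_neg, neg_mulVec, hH.act, hH'.act] at e1
          simp at e1
          have e2 : (2 : F) • u 1 = 0 := by linear_combination (norm := module) -e1
          exact h2 ((smul_eq_zero.mp e2).resolve_right (hu.ne_zero hf 1))
        exact hc1 (by rw [hc, hx1, h', slot_one, slot_one, mul_one])
      · refine C.tw_J0 hh hsl hX hY hTM hTu ?_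
        rw [h'] at hB
        simpa using commute_slot_neg hB
    · exact C.tw_J0 hh hsl hX (hY.straddle_mul hf h2 (hw.aniso 0) hy w0 yn).1 hTM hTu hB
  · -- the first vector is negated
    have xneg : (half hf u).val *ᵥ x = -x := by
      rcases xs with h | h
      · have := C.sig_half_pr hsl hX hx hy (ε := 1) (Or.inl ⟨rfl, h⟩)
        rw [← e, C.sig_inv ((memH k).mp hk).2.1, s2] at this
        omega
      · exact h
    obtain ⟨hstr, -⟩ := hX.straddle_mul hf h2 (hu.aniso 0) hx u0 xneg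
    have hne1 : rG hf (u 0) * rG hf x ≠ 1 := fun h => by
      obtain ⟨v, hv, hv'⟩ := hstr
      exact half_ne_smul hf h2 hv 1 (by rw [← hv', h, Units.val_one, one_smul])
    rcases sides with ⟨xf, yf⟩ | ⟨xn, yn⟩
    · have hA := (hX'.fix_cases hf h2 (hu.aniso 0) hx hvx u0' xf).resolve_left hne1
      rcases hY.fix_cases hf h2 (hw.aniso 0) hy hay w0 yf with h' | h'
      · rw [hA, h', slot_one, mul_one] at hTc
        refine C.ctx.tw_of_comm_halves (s := s) hu hTM hTu.eq ?_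
        rw [← hX'd]
        simpa using (commute_slot_neg hTc).eq
      · exfalso
        have ex : rG hf x = rG hf (u 2) := by
          rw [← hX'.refl_refl_fix hf h2 (hu.aniso 0) (hu.aniso 2) (hu.orth 0 2 (by decide)) u0' u2'] at hA
          exact mul_left_cancel hA
        have ey : rG hf y = rG hf (w 1) := by
          rw [← hY.refl_refl_fix hf h2 (hw.aniso 0) (hw.aniso 1) (hw.orth 0 1 (by decide)) w0 (hW.fix (by simp))]
            at h'
          exact mul_left_cancel h'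
        have e2 : k * prP hf s l (u 2) (w 0) * k⁻¹ = prP hf s l (u 2) (w 1) := by rw [e, prP, prP, ex, ey]
        obtain ⟨r, hr⟩ := C.square_of_conj (hHM hk) (hh.hJ s l hsl _ _ (hu.aniso 2) (hw.aniso 0) k (hHM hk)
          (by rw [e2]; exact isTW_mul (slotEl_tw s _) (slotEl_tw l _))) hsl (hu.aniso 2) (hw.aniso 0) (hu.aniso 2)
          (hw.aniso 1) e2
        refine hns ⟨r / f (u 2) (u 2), ?_⟩
        have := hu.aniso 2
        field_simp
        linear_combination hr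
    · obtain ⟨e3, hF⟩ := half_swap_mul hf h2 hu
      rw [← hX'd] at e3
      have hXX : IsHalf hf (half hf u * X') := ⟨_, hF, e3⟩
      have hA : rG hf (u 0) * rG hf x = -(half hf u * X') :=
        (hXX.fix_cases hf h2 (hu.aniso 0) hx hvx (by rw [Transvec.mul_mulVec, u0', u0])
          (by rw [Transvec.mul_mulVec, xn, mulVec_neg, xneg, neg_neg])).resolve_left hne1
      have hp := hTc.mul_right hTD
      rw [slot_pair_mul hsl, hA, neg_mul, mul_assoc (half hf u), hX'.mul_self hf h2, mul_one] at hp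
      exact C.tw_J0 hh hsl hX (hY.straddle_mul hf h2 (hw.aniso 0) hy w0 yn).2 hTM hTu
        (commute_snd hp (commute_slot_neg hTu))

/-- The centraliser of a single half turn. -/
theorem tw_C1 {s l : Fin 2} (hsl : s ≠ l) {X : GL (Fin 4) F} (hX : IsHalf C.ctx.sym X) {g : GL (Idx 2 4) F}
    (hg : g ∈ M) (hgX : Commute g (slotEl s X)) : IsTW g := by
  have hf := C.ctx.sym
  have h2 := C.ctx.two
  obtain ⟨u, hu, rfl⟩ := hX
  obtain ⟨w, hw⟩ := exists_any_frame hf h2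
  have hX : IsHalf hf (half hf u) := ⟨u, hu, rfl⟩
  have hH := half_eig hf hu
  obtain ⟨H, memH⟩ : ∃ H : Subgroup (GL (Idx 2 4) F), ∀ x, x ∈ H ↔ x ∈ M ∧ Commute x (slotEl s (half hf u)) :=
    ⟨M ⊓ Subgroup.centralizer {slotEl s (half hf u)}, fun x => by
      simp only [Subgroup.mem_inf, Subgroup.mem_centralizer_singleton_iff]; rfl⟩
  have hHM : H ≤ M := fun x hx => ((memH x).mp hx).1
  have hmem : ∀ i, prP hf s l (u i) (w 0) ∈ H := fun i => (memH _).mpr
    ⟨C.pair_mem hsl (hu.aniso i) (hw.aniso 0),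
      Commute.mul_left ((slotEl_comm_iff s).mpr (hu.eig_comm hf (hu.eig_rG hf i) hH)) (slotEl_commute hsl.symm _ _)⟩
  have hgH : g ∈ H := (memH g).mpr ⟨hg, hgX⟩
  obtain ⟨hTM, hTu⟩ := (memH _).mp (H.mul_mem (H.mul_mem hgH (hmem 2)) (H.inv_mem hgH))
  have u0 : (half hf u).val *ᵥ u 0 = u 0 := hH.fix (by simp)
  have u2 : (half hf u).val *ᵥ u 2 = -u 2 := by rw [hH.act]; simp
  have s1 := C.sig_half_pr hsl hX (hu.aniso 0) (hw.aniso 0) (ε := 1) (Or.inl ⟨rfl, u0⟩)
  have s2 := C.sig_half_pr hsl hX (hu.aniso 2) (hw.aniso 0) (ε := -1) (Or.inr ⟨rfl, u2⟩)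
  obtain ⟨c, x, y, hx, hy, hxyH, hc, hvx, hay, hc1, hc2, hTc, hsTc, hcl⟩ :=
    C.central_step hh hsl hHM (hu.aniso 0) (hw.aniso 0) (hu.aniso 2) (hw.aniso 0) (hmem 0) (hmem 2) hgH
      (x₀ := slotEl s (half hf u)) (fun k hk => ((memH k).mp hk).2) (by rw [s1, s2]; norm_num)
  obtain ⟨-, cX⟩ := (memH _).mp hxyH
  have xs := hX.comm_cases hf h2 hx (Ctx4.comm_component C.ctx hsl cX.eq.symm).symm
  refine hh.hJ s l hsl _ _ (hu.aniso 2) (hw.aniso 0) g hg ?_
  have hTc' := hTc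
  rw [hc] at hTc'
  rcases hcl with ⟨⟨k, hk, e⟩, -⟩ | ⟨k, hk, e⟩
  · have xfix : (half hf u).val *ᵥ x = x := by
      rcases xs with h | h
      · exact h
      have := C.sig_half_pr hsl hX hx hy (ε := -1) (Or.inr ⟨rfl, h⟩)
      rw [← e, C.sig_inv ((memH k).mp hk).2, s1] at this
      omega
    have hA := hX.fix_cases hf h2 (hu.aniso 0) hx hvx u0 xfix
    have hTA : Commute (g * prP hf s l (u 2) (w 0) * g⁻¹) (slotEl s (rG hf (u 0) * rG hf x)) := by
      rcases hA with h | h <;> rw [h]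
      exacts [by rw [slot_one]; exact Commute.one_right _, commute_slot_neg hTu]
    rcases refl_pair_cases hf h2 (hw.aniso 0) hy hay with h' | h'
    · exfalso
      rcases hA with h | h
      · exact hc1 (by rw [hc, h, h', slot_one, slot_one, mul_one])
      rw [h', slot_one, mul_one, h] at hc
      have hgc : Commute g c := hc ▸ commute_slot_neg hgX
      have hSc : Commute (prP hf s l (u 2) (w 0)) c := hc ▸ commute_slot_neg ((memH _).mp (hmem 2)).2
      have eT : g * (prP hf s l (u 2) (w 0) * c) * g⁻¹ = g * prP hf s l (u 2) (w 0) * g⁻¹ * c := by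
        rw [mul_assoc (g * prP hf s l (u 2) (w 0)) g⁻¹ c, hgc.inv_left.eq]; group
      rw [← eT, sig_conj, hSc.eq, hc, C.sig_half_pr hsl (hX.neg hf h2) (hu.aniso 2) (hw.aniso 0) (ε := 1)
        (Or.inl ⟨rfl, neg_fix hf u2⟩)] at hsTc
      norm_num at hsTc
    · exact C.tw_J0 hh hsl hX h' hTM hTu (commute_snd hTc' hTA)
  · have xneg : (half hf u).val *ᵥ x = -x := by
      rcases xs with h | h
      · have := C.sig_half_pr hsl hX hx hy (ε := 1) (Or.inl ⟨rfl, h⟩)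
        rw [← e, C.sig_inv ((memH k).mp hk).2, s2] at this
        omega
      · exact h
    obtain ⟨v, hv, -, -, hXv, hstr⟩ := hX.straddle hf h2 (hu.aniso 0) hx u0 xneg
    rw [hstr] at hTc'
    rcases refl_pair_cases hf h2 (hw.aniso 0) hy hay with h' | h'
    · rw [h', slot_one, mul_one] at hTc'
      exact C.ctx.tw_of_comm_halves (s := s) hv hTM (by rw [← hXv]; exact hTu.eq) hTc'.eq
    · exact C.tw_J1 hh hsl hv h' hTM (by rw [← hXv]; exact hTu) hTc'

end TwoCtx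

end CfsgLib.Classical22.OFour
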