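/-
Two slots: double half turns, and the tensor wreath group is everything, given the facts about pairs.
-/
import Cfsg.Agent.Lib.Classical22.OrthFour.Single
import Cfsg.Agent.Lib.Classical22.OrthFour.Pair

set_option autoImplicit false
set_option linter.unusedSectionVars false
set_option linter.unusedSimpArgs false

namespace CfsgLib.Classical22.OFour

open Matrix CfsgLib.Transvec CfsgLib.Classical22.TensorMax CfsgLib.Classical22.TensorMax.SympO
open CfsgLib.Classical22.TensorMax.SpO (sym_zero_left sym_quad_add sym_quad_smul)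
open CfsgLib.Classical22.TWMax (Idx slotEl slotEl_mul slotEl_data TWData IsTW)
open CfsgLib.Classical22.OFour.MCtx (slot_refl_sq)
open CfsgLib.Classical22.OPow (PIso isoF rG rG_iso rG_mul_self eU isTW_mul isTW_inv slotEl_commute)
open scoped MatrixGroups

variable {F : Type*} [Field F] [Fintype F] {f : (Fin 4 → F) → (Fin 4 → F) → F}
  {M : Subgroup (GL (Idx 2 4) F)}

section Planes
variable (hf : Cfsg.Geo.IsSymmetricForm f) (h2 : (2 : F) ≠ 0)
include hf h2

/-- Up to sign, a half turn negates the isotropic one of its planes. -/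
lemma IsHalf.exists_isoNeg (hn : NoLine f) {X : GL (Fin 4) F} (hX : IsHalf hf X) :
    ∃ X', IsHalf hf X' ∧ IsoNeg f X' ∧ ¬ IsoNeg f (-X') ∧ (X' = X ∨ X' = -X) := by
  obtain ⟨u, hu, rfl⟩ := hX
  have hX : IsHalf hf (half hf u) := ⟨u, hu, rfl⟩
  have h23 := isoNeg_iff hf h2 hu (half_eig hf hu) (i := 2) (j := 3) (by decide) (by simp) (by simp)
    (fun l h1 h3 => by fin_cases l <;> simp_all)
  have h01 := isoNeg_iff hf h2 hu (half_eig hf hu).neg (i := 0) (j := 1) (by decide) (by simp) (by simp)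
    (fun l h1 h3 => by fin_cases l <;> simp_all)
  by_cases h : IsSquare (-(f (u 2) (u 2) * f (u 3) (u 3)))
  · exact ⟨_, hX, h23.mpr h, fun h' => hu.planes hf h2 hn ⟨h01.mp h', h⟩, Or.inl rfl⟩
  · exact ⟨_, hX.neg hf h2, h01.mpr ((hu.planes' hf h2 hn).resolve_right h), by rw [neg_neg]; exact fun h' => h (h23.mp h'),
      Or.inr rfl⟩

/-- A half turn times the reflection at a fixed vector. -/
lemma IsHalf.mul_refl {X : GL (Fin 4) F} (hX : IsHalf hf X) {x : Fin 4 → F} (hx : f x x ≠ 0)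
    (h : X.val *ᵥ x = x ∨ X.val *ᵥ x = -x) :
    ∃ z, f z z ≠ 0 ∧ (X * rG hf x = rG hf z ∨ X * rG hf x = -rG hf z) := by
  rcases h with h | h
  · obtain ⟨u, hu, h0, rfl⟩ := hX.adapt_fix hf h2 hx h
    refine ⟨u 1, hu.aniso 1, Or.inr ?_⟩
    rw [← h0]
    refine hu.eig_ext hf ((half_eig hf hu).mul (hu.eig_rG hf 0)) ?_
    convert (hu.eig_rG hf 1).neg using 1
    funext i; fin_cases i <;> simp
  · obtain ⟨u, hu, h0, rfl⟩ := hX.adapt_neg hf h2 hx h
    refine ⟨u 3, hu.aniso 3, Or.inl ?_⟩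
    rw [← h0]
    refine hu.eig_ext hf ((half_eig hf hu).mul (hu.eig_rG hf 2)) ?_
    convert hu.eig_rG hf 3 using 1
    funext i; fin_cases i <;> simp

end Planes

namespace TwoCtx
variable (C : TwoCtx f M)
include C

/-- An element fixing two half turns with isotropic negated planes keeps their sides. -/
lemma no_flip {s l : Fin 2} (hsl : s ≠ l) {X Y : GL (Fin 4) F} (hX : IsoNeg f X) (hY : IsoNeg f Y)
    (hnX : ¬ IsoNeg f (-X)) {v a x y : Fin 4 → F} (hv : f v v ≠ 0) (ha : f a a ≠ 0) (hx : f x x ≠ 0)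
    (hXv : X.val *ᵥ v = v) (hYa : Y.val *ᵥ a = a) (hXx : X.val *ᵥ x = -x) {k : GL (Idx 2 4) F} (hk : k ∈ M)
    (htw : IsTW k) (hkD : Commute k (slotEl s X * slotEl l Y))
    (h : k * prP C.ctx.sym s l v a * k⁻¹ = prP C.ctx.sym s l x y) : False := by
  have hf := C.ctx.sym
  obtain ⟨σ, gs, hd⟩ := htw
  have hD : k * (slotEl s X * slotEl l Y) * k⁻¹ = slotEl s X * slotEl l Y := by rw [hkD.eq, mul_inv_cancel_right]
  have fin : ∀ (A : GL (Fin 4) F) (B B' : GL (Fin 4) F) (v : Fin 4 → F), IsoNeg f A → f v v ≠ 0 → A.val *ᵥ v = v →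
      slotEl s (gs s * A * (gs s)⁻¹) * slotEl l B = slotEl s X * slotEl l Y →
      slotEl s (gs s * rG hf v * (gs s)⁻¹) * slotEl l B' = prP hf s l x y → False := by
    intro A B B' v hA hv hAv e1 e2
    obtain ⟨c, -, hc⟩ := pair_slot_eq hsl e1
    obtain ⟨α, hα⟩ := C.conj_refl_vec hsl hv hx e2
    have hv0 : v ≠ 0 := fun h0 => hv (by rw [h0, sym_zero_left hf])
    have hgv := Transvec.mulVec_ne_zero (gs s) hv0
    have e3 : X.val *ᵥ ((gs s).val *ᵥ v) = c • ((gs s).val *ᵥ v) := by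
      rw [hc, smul_mulVec, Transvec.mul_mulVec, Transvec.mul_mulVec, Transvec.inv_mulVec_cancel, hAv]
    have e4 : X.val *ᵥ ((gs s).val *ᵥ v) = -((gs s).val *ᵥ v) := by rw [hα, mulVec_smul, hXx, smul_neg]
    have hc1 : c = -1 := by
      have e5 : (c + 1) • ((gs s).val *ᵥ v) = 0 := by rw [add_smul, ← e3, e4, one_smul, neg_add_cancel]
      exact eq_neg_of_add_eq_zero_left ((smul_eq_zero.mp e5).resolve_right hgv)
    have e6 : gs s * A * (gs s)⁻¹ = -X := Units.ext (by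
      rw [Units.val_neg, hc, hc1, neg_one_smul, neg_neg])
    obtain ⟨w, hw⟩ := exists_any_frame hf C.ctx.two
    obtain ⟨ν, hν⟩ : ∃ ν, ν = f ((gs l).val *ᵥ w 0) ((gs l).val *ᵥ w 0) := ⟨_, rfl⟩
    have hν0 : ν ≠ 0 := fun h0 => by
      have h1 := C.iso_two hk hd hsl v v (w 0) (w 0)
      rw [← hν, h0, mul_zero] at h1
      exact mul_ne_zero hv (hw.aniso 0) h1.symm
    refine hnX (e6 ▸ (isoNeg_conj hf (μ := f (w 0) (w 0) / ν) (fun p p' => ?_) ?_).mpr hA)
    · rw [div_mul_eq_mul_div, eq_div_iff hν0, hν, C.iso_two hk hd hsl p p' (w 0) (w 0)]; ring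
    · exact div_ne_zero (hw.aniso 0) hν0
  rcases C.conj_pr hd hsl X Y with ⟨hs1, e1⟩ | ⟨hs1, e1⟩ <;>
    rcases C.conj_pr hd hsl (rG hf v) (rG hf a) with ⟨hs2, e2⟩ | ⟨hs2, e2⟩
  · exact fin X _ _ v hX hv hXv (e1.symm.trans hD) (e2.symm.trans h)
  · exact hsl (hs1.symm.trans hs2)
  · exact hsl (hs2.symm.trans hs1)
  · exact fin Y _ _ a hY ha hYa (e1.symm.trans hD) (e2.symm.trans h)

variable (hh : PairHyp C)
include hh

/-- The centraliser of a double half turn. -/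
theorem tw_C2 {s l : Fin 2} (hsl : s ≠ l) {X Y : GL (Fin 4) F} (hX : IsHalf C.ctx.sym X) (hY : IsHalf C.ctx.sym Y)
    {g : GL (Idx 2 4) F} (hg : g ∈ M) (hgD : Commute g (slotEl s X * slotEl l Y)) : IsTW g := by
  have hf := C.ctx.sym
  have h2 := C.ctx.two
  obtain ⟨X₁, hX₁, hiX, hnX, heX⟩ := hX.exists_isoNeg hf h2 C.ctx.noline
  obtain ⟨Y₁, hY₁, hiY, -, heY⟩ := hY.exists_isoNeg hf h2 C.ctx.noline
  have hgD₁ : Commute g (slotEl s X₁ * slotEl l Y₁) := by
    rcases heX with rfl | rfl <;> rcases heY with rfl | rfl <;>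
      (try simp only [← neg_slotEl, neg_mul, mul_neg, neg_neg])
    exacts [hgD, hgD.neg_right, hgD.neg_right, hgD]
  obtain ⟨u, hu, rfl⟩ := hX₁
  obtain ⟨w, hw, rfl⟩ := hY₁
  have hX₁ : IsHalf hf (half hf u) := ⟨u, hu, rfl⟩
  have hY₁ : IsHalf hf (half hf w) := ⟨w, hw, rfl⟩
  have hH := half_eig hf hu
  have hW := half_eig hf hw
  obtain ⟨H, memH⟩ : ∃ H : Subgroup (GL (Idx 2 4) F),
      ∀ x, x ∈ H ↔ x ∈ M ∧ Commute x (slotEl s (half hf u) * slotEl l (half hf w)) :=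
    ⟨M ⊓ Subgroup.centralizer {slotEl s (half hf u) * slotEl l (half hf w)}, fun x => by
      simp only [Subgroup.mem_inf, Subgroup.mem_centralizer_singleton_iff]; rfl⟩
  have hHM : H ≤ M := fun x hx => ((memH x).mp hx).1
  have hmem : ∀ i j, prP hf s l (u i) (w j) ∈ H := fun i j => (memH _).mpr
    ⟨C.pair_mem hsl (hu.aniso i) (hw.aniso j), by
      change _ * _ = _ * _
      rw [slot_pair_mul hsl, slot_pair_mul hsl, hu.eig_comm hf (hu.eig_rG hf i) hH,
        hw.eig_comm hf (hw.eig_rG hf j) hW]⟩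
  have hgH : g ∈ H := (memH g).mpr ⟨hg, hgD₁⟩
  obtain ⟨hTM, hTD⟩ := (memH _).mp (H.mul_mem (H.mul_mem hgH (hmem 0 2)) (H.inv_mem hgH))
  have u0 : (half hf u).val *ᵥ u 0 = u 0 := hH.fix (by simp)
  have w0 : (half hf w).val *ᵥ w 0 = w 0 := hW.fix (by simp)
  have w2 : (half hf w).val *ᵥ w 2 = -w 2 := by rw [hW.act]; simp
  have s1 := C.sig_halves_pr hsl hX₁ hY₁ (hu.aniso 0) (hw.aniso 0) (ε := 1) (δ := 1) (Or.inl ⟨rfl, u0⟩)
    (Or.inl ⟨rfl, w0⟩)
  have s2 := C.sig_halves_pr hsl hX₁ hY₁ (hu.aniso 0) (hw.aniso 2) (ε := 1) (δ := -1) (Or.inl ⟨rfl, u0⟩)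
    (Or.inr ⟨rfl, w2⟩)
  obtain ⟨c, x, y, hx, hy, hxyH, hc, hvx, hay, hc1, hc2, hTc, hsTc, hcl⟩ :=
    C.central_step hh hsl hHM (hu.aniso 0) (hw.aniso 0) (hu.aniso 0) (hw.aniso 2) (hmem 0 0) (hmem 0 2) hgH
      (x₀ := slotEl s (half hf u) * slotEl l (half hf w)) (fun k hk => ((memH k).mp hk).2)
      (by rw [s1, s2]; norm_num)
  obtain ⟨cX, cY⟩ := C.comm_pr hsl hx hy ((memH _).mp hxyH).2.eq.symm
  refine hh.hJ s l hsl _ _ (hu.aniso 0) (hw.aniso 2) g hg ?_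
  have hTc' := hTc
  rw [hc] at hTc'
  -- one trivial component
  rcases refl_pair_cases hf h2 (hu.aniso 0) hx hvx with hA | hA
  · rcases refl_pair_cases hf h2 (hw.aniso 0) hy hay with hB | hB
    · exact absurd (by rw [hc, hA, hB, slot_one, slot_one, mul_one]) hc1
    · rw [hA, slot_one, one_mul] at hTc'
      exact C.tw_C1 hh hsl.symm hB hTM hTc'
  rcases refl_pair_cases hf h2 (hw.aniso 0) hy hay with hB | hB
  · rw [hB, slot_one, mul_one] at hTc'
    exact C.tw_C1 hh hsl hA hTM hTc'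
  have hne1 : ∀ {A : GL (Fin 4) F}, IsHalf hf A → A ≠ 1 := fun ⟨v, hv, e⟩ h1 =>
    half_ne_smul hf h2 hv 1 (by rw [← e, h1, Units.val_one, one_smul])
  rcases hX₁.comm_cases hf h2 hx cX.symm with xs | xs <;> rcases hY₁.comm_cases hf h2 hy cY.symm with ys | ys
  · -- both fixed
    exfalso
    rw [(hX₁.fix_cases hf h2 (hu.aniso 0) hx hvx u0 xs).resolve_left (hne1 hA),
      (hY₁.fix_cases hf h2 (hw.aniso 0) hy hay w0 ys).resolve_left (hne1 hB), ← neg_slotEl, ← neg_slotEl,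
      neg_mul_neg] at hc
    have hgc : Commute g c := hc ▸ hgD₁
    have hSc : Commute (prP hf s l (u 0) (w 2)) c := hc ▸ ((memH _).mp (hmem 0 2)).2
    have eT : g * (prP hf s l (u 0) (w 2) * c) * g⁻¹ = g * prP hf s l (u 0) (w 2) * g⁻¹ * c := by
      rw [mul_assoc (g * prP hf s l (u 0) (w 2)) g⁻¹ c, hgc.inv_left.eq]; group
    rw [← eT, sig_conj, hSc.eq, hc, s2] at hsTc
    norm_num at hsTc
  · have hA' := (hX₁.fix_cases hf h2 (hu.aniso 0) hx hvx u0 xs).resolve_left (hne1 hA)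
    have hp := hTc'.mul_right hTD
    rw [slot_pair_mul hsl, hA', neg_mul, hX₁.mul_self hf h2] at hp
    exact C.tw_C1 hh hsl.symm (hY₁.straddle_mul hf h2 (hw.aniso 0) hy w0 ys).2 hTM
      (commute_snd hp (commute_slot_neg_one s))
  · have hB' := (hY₁.fix_cases hf h2 (hw.aniso 0) hy hay w0 ys).resolve_left (hne1 hB)
    have hp := hTc'.mul_right hTD
    rw [slot_pair_mul hsl, hB', neg_mul, hY₁.mul_self hf h2] at hp
    exact C.tw_C1 hh hsl (hX₁.straddle_mul hf h2 (hu.aniso 0) hx u0 xs).2 hTM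
      (commute_fst hp (commute_slot_neg_one l))
  · -- both negated
    exfalso
    rcases hcl with ⟨⟨k, hk, e⟩, -⟩ | ⟨k, hk, e⟩
    · exact C.no_flip hsl hiX hiY hnX (hu.aniso 0) (hw.aniso 0) hx u0 w0 xs (hHM hk)
        (hh.hJ s l hsl _ _ (hu.aniso 0) (hw.aniso 0) k (hHM hk)
          (by rw [e]; exact isTW_mul (slotEl_tw s _) (slotEl_tw l _))) ((memH k).mp hk).2 e
    · have := C.sig_halves_pr hsl hX₁ hY₁ hx hy (ε := -1) (δ := -1) (Or.inr ⟨rfl, xs⟩) (Or.inr ⟨rfl, ys⟩)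
      rw [← e, C.sig_inv ((memH k).mp hk).2, s2] at this
      norm_num at this

/-- An element is tensor wreath, or so is its conjugate of every single half turn. -/
theorem tw_or_conj_half (s : Fin 2) {X : GL (Fin 4) F} (hX : IsHalf C.ctx.sym X) {g : GL (Idx 2 4) F} (hg : g ∈ M) :
    IsTW g ∨ IsTW (g * slotEl s X * g⁻¹) := by
  have hf := C.ctx.sym
  have h2 := C.ctx.two
  obtain ⟨l, hsl⟩ : ∃ l : Fin 2, s ≠ l := (exists_ne s).imp fun _ h => h.symm
  obtain ⟨u, hu⟩ := exists_any_frame hf h2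
  obtain ⟨t, htd⟩ : ∃ t, t = prP hf s l (u 0) (u 0) := ⟨_, rfl⟩
  obtain ⟨Z, hZd⟩ : ∃ Z, Z = slotEl s X := ⟨_, rfl⟩
  obtain ⟨T, hT⟩ : ∃ T, T = g * Z * g⁻¹ := ⟨_, rfl⟩
  rw [← hZd, ← hT]
  have ht : t ∈ M := htd ▸ C.pair_mem hsl (hu.aniso 0) (hu.aniso 0)
  have hZ : Z ∈ M := hZd ▸ C.ctx.slot_half_mem s hX
  have hTM : T ∈ M := hT ▸ M.mul_mem (M.mul_mem hg hZ) (M.inv_mem hg)
  have ht2 : t * t = 1 := by rw [htd]; exact pair_invol hf hsl _ _
  have hZ2 : Z * Z = 1 := by rw [hZd, slotEl_mul, hX.mul_self hf h2, slot_one]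
  have hT2 : T * T = 1 := by rw [hT, conj_mul, hZ2, mul_one, mul_inv_cancel]
  have hsZ : sig Z = 0 := by
    obtain ⟨v, hv, rfl⟩ := hX
    rw [hZd, C.ctx.sig_slot s hv (half_eig hf hv)]
    simp [Fin.sum_univ_four]
  have hst : sig t = 4 := htd ▸ C.sig_pr hsl (hu.aniso 0) (hu.aniso 0)
  obtain ⟨c, hcM, hc2, hc1, hct, hcT, hcl⟩ := exists_central ht hTM ht2 hT2 fun k _ e => by
    have := congrArg sig e
    rw [sig_conj, hT, sig_conj, hst, hsZ] at this
    norm_num at this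
  have hcW : IsTW c := hh.hP s l hsl _ _ (hu.aniso 0) (hu.aniso 0) c hcM (htd ▸ hct)
  rcases hcl with ⟨⟨k, -, e⟩, -⟩ | ⟨-, k, -, e⟩
  · right
    have hs : sig (t * c) = 4 := by rw [← e, sig_conj, hst]
    obtain ⟨x, y, hx, hy, hxy⟩ := C.pair_of_sig (M.mul_mem ht hcM)
      (isTW_mul (htd ▸ isTW_mul (slotEl_tw s _) (slotEl_tw l _)) hcW) (invol_mul ht2 hc2 hct.symm) hs hsl
    have hce : c = slotEl s (rG hf (u 0) * rG hf x) * slotEl l (rG hf (u 0) * rG hf y) := by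
      rw [← slot_pair_mul hsl, ← hxy, show slotEl s (rG hf (u 0)) * slotEl l (rG hf (u 0)) = t from htd.symm,
        ← mul_assoc, ht2, one_mul]
    have hcm : prP hf s l (u 0) (u 0) * prP hf s l x y = prP hf s l x y * prP hf s l (u 0) (u 0) := by
      rw [← htd, prP, ← hxy, ← mul_assoc, ht2, one_mul, mul_assoc, hct, ← mul_assoc, ht2, one_mul]
    obtain ⟨h1, h3⟩ := C.comm_pr hsl hx hy hcm
    have hTc : Commute T c := hcT.symm
    rw [hce] at hTc
    rcases refl_pair_cases hf h2 (hu.aniso 0) hx h1 with hA | hA <;>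
      rcases refl_pair_cases hf h2 (hu.aniso 0) hy h3 with hB | hB
    · exact absurd (by rw [hce, hA, hB, slot_one, slot_one, mul_one]) hc1
    · rw [hA, slot_one, one_mul] at hTc
      exact C.tw_C1 hh hsl.symm hB hTM hTc
    · rw [hB, slot_one, mul_one] at hTc
      exact C.tw_C1 hh hsl hA hTM hTc
    · exact C.tw_C2 hh hsl hA hB hTM hTc
  · left
    obtain ⟨d, hd⟩ : ∃ d, d = g⁻¹ * c * g := ⟨_, rfl⟩
    have hdM : d ∈ M := hd ▸ M.mul_mem (M.mul_mem (M.inv_mem hg) hcM) hg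
    have hdZ : Commute d Z := by
      change _ = _
      rw [hd, show g⁻¹ * c * g * Z = g⁻¹ * (c * (g * Z * g⁻¹)) * g by group, ← hT, hcT, hT]
      group
    have hdW : IsTW d := C.tw_C1 hh hsl hX hdM (hZd ▸ hdZ)
    have hd2 : d * d = 1 := by
      rw [hd, show g⁻¹ * c * g * (g⁻¹ * c * g) = g⁻¹ * (c * c) * g by group, hc2]; group
    have hs : sig (Z * d) = 4 := by
      rw [show Z * d = g⁻¹ * (T * c) * g⁻¹⁻¹ by rw [hd, hT]; group, sig_conj, ← e, sig_conj, hst]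
    obtain ⟨x, y, hx, hy, hxy⟩ := C.pair_of_sig (M.mul_mem hZ hdM) (isTW_mul (hZd ▸ slotEl_tw s X) hdW)
      (invol_mul hZ2 hd2 hdZ.eq.symm) hs hsl
    have hde : d = slotEl s (X * rG hf x) * slotEl l (rG hf y) := by
      rw [← slotEl_mul, mul_assoc, ← hxy, ← hZd, ← mul_assoc, hZ2, one_mul]
    have hXx := Ctx4.comm_component C.ctx hsl (show slotEl s X * (slotEl s (rG hf x) * slotEl l (rG hf y)) =
      slotEl s (rG hf x) * slotEl l (rG hf y) * slotEl s X by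
        rw [← hxy, ← hZd, ← mul_assoc, hZ2, one_mul, mul_assoc, hdZ.eq, ← mul_assoc, hZ2, one_mul])
    obtain ⟨z, hz, hXz⟩ := hX.mul_refl hf h2 hx (hX.comm_cases hf h2 hx hXx.symm)
    have hq : Commute (g⁻¹ * t * g) d := by
      change _ = _
      rw [hd, show g⁻¹ * t * g * (g⁻¹ * c * g) = g⁻¹ * (t * c) * g by group, ← hct]
      group
    have hqp : Commute (g⁻¹ * t * g) (prP hf s l z y) := by
      rcases hXz with h | h <;> rw [hde, h] at hq
      · exact hq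
      · rw [← neg_slotEl, neg_mul] at hq
        simpa using hq.neg_right
    have hgi := hh.hJ s l hsl _ _ (hu.aniso 0) (hu.aniso 0) g⁻¹ (M.inv_mem hg) (by
      rw [inv_inv, ← htd]
      exact hh.hP s l hsl z y hz hy _ (M.mul_mem (M.mul_mem (M.inv_mem hg) ht) hg) hqp)
    simpa using isTW_inv hgi

/-- With the facts about pairs, the group lies in the tensor wreath group. -/
theorem main_of_hyp {g : GL (Idx 2 4) F} (hg : g ∈ M) : IsTW g := by
  have hf := C.ctx.sym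
  have h2 := C.ctx.two
  by_contra hng
  obtain ⟨v, hv⟩ : ∃ v : Fin 4 → F, f v v ≠ 0 := (exists_any_frame hf h2).elim fun u hu => ⟨u 0, hu.aniso 0⟩
  obtain ⟨e, w, he, hee, hew, hw, hev, hwv⟩ := exists_root_perp hf h2 hv
  obtain ⟨b, hb⟩ : ∃ b, b = w + (f w w / 2) • e := ⟨_, rfl⟩
  have hbb : f b b = f w w := by
    rw [hb, sym_quad_add hf, sym_quad_smul hf, hf.bilinear.smul_right, hee, hf.symm w e, hew]; ring
  have hbv : f v b = 0 := by
    rw [hb, hf.bilinear.add_right, hf.bilinear.smul_right, hf.symm v w, hf.symm v e, hwv, hev]; ring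
  have hbb' : f b b ≠ 0 := by rwa [hbb]
  have k1 := (C.tw_or_conj_half hh 0 (isHalf_refl_refl hf h2 hw hv hwv) hg).resolve_left hng
  have k2 := (C.tw_or_conj_half hh 0 (isHalf_refl_refl hf h2 hv hbb' hbv) hg).resolve_left hng
  refine hng (C.ctx.tw_of_conj_root hg (l := 0) he hee hew hw ?_)
  have h12 : eU hf h2 e w = rG hf w * rG hf v * (rG hf v * rG hf b) := by
    rw [eU_eq_rG hf h2 hee hew hw, ← hb, mul_assoc, ← mul_assoc (rG hf v), rG_mul_self, one_mul]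
  rw [h12, ← slotEl_mul, ← conj_mul]
  exact isTW_mul k1 k2

omit hh in
/-- The group lies in the tensor wreath group once the two facts about pairs are known. -/
theorem main_of_pair
    (hP : ∀ s l : Fin 2, s ≠ l → ∀ v a : Fin 4 → F, f v v ≠ 0 → f a a ≠ 0 → ∀ g ∈ M,
      g * (slotEl s (rG C.ctx.sym v) * slotEl l (rG C.ctx.sym a)) =
        slotEl s (rG C.ctx.sym v) * slotEl l (rG C.ctx.sym a) * g → IsTW g)
    (hJ : ∀ s l : Fin 2, s ≠ l → ∀ v a : Fin 4 → F, f v v ≠ 0 → f a a ≠ 0 → ∀ g ∈ M,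
      IsTW (g * (slotEl s (rG C.ctx.sym v) * slotEl l (rG C.ctx.sym a)) * g⁻¹) → IsTW g) :
    ∀ g ∈ M, IsTW g :=
  fun _ hg => C.main_of_hyp ⟨hP, hJ⟩ hg

omit hh in
/-- With two slots and no exchange, every element is a tensor wreath element. -/
theorem main {g : GL (Idx 2 4) F} (hg : g ∈ M) : IsTW g :=
  C.main_of_pair (fun _ _ hsl _ _ hv ha _ hg h => C.tw_of_comm_pair hsl hv ha hg h)
    (fun _ _ hsl _ _ hv ha _ hg h => C.tw_of_conj_pair hsl hv ha hg h) g hg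

end TwoCtx

end CfsgLib.Classical22.OFour
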