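/-
The tensor power statement for slots of dimension four without singular lines.
-/
import Cfsg.Agent.Lib.Classical22.OrthFour.Pair
import Cfsg.Agent.Lib.Classical22.OrthFour.FlagTwo
import Cfsg.Agent.Lib.Classical22.OrthFour.FlagsCtx
import Cfsg.Agent.Lib.Classical22.OrthFour.STop
import Cfsg.Agent.Lib.Classical22.OrthFour.MTop
import Cfsg.Agent.Lib.Classical22.OrthPower.Statement

set_option autoImplicit false
set_option linter.unusedSectionVars false

namespace CfsgLib.Classical22.OFour

open Matrix CfsgLib.Transvec CfsgLib.Classical22.TensorMax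
open CfsgLib.Classical22.TWMax (Idx IsTW)
open CfsgLib.Classical22.OPow (bil)
open scoped MatrixGroups

variable {F : Type*} [Field F] [Fintype F]

/-- A space of dimension four without a totally singular half has no singular line. -/
lemma noLine_of_not_plus {f : (Fin 4 → F) → (Fin 4 → F) → F} (hf : Cfsg.Geo.IsSymmetricForm f)
    (hns : ¬ Cfsg.Geo.IsPlusTypeOn (fun v : Fin 4 → F => f v v) ⊤) : NoLine f := by
  intro x y hx hxx hyy hxy
  by_contra hy
  refine hns ⟨Submodule.span F {x, y}, le_top, fun w hw => ?_, ?_⟩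
  · obtain ⟨a, b, rfl⟩ := Submodule.mem_span_pair.mp hw
    simp only [hf.bilinear.add_left, hf.bilinear.add_right, hf.bilinear.smul_left, hf.bilinear.smul_right, hxx, hyy,
      hxy, hf.symm y x]
    ring
  · have hli : LinearIndependent F ![x, y] := (LinearIndependent.pair_iff' hx).mpr fun a h =>
      hy (Submodule.mem_span_singleton.mpr ⟨a, h⟩)
    have := finrank_span_eq_card hli
    rw [Matrix.range_cons, Matrix.range_cons, Matrix.range_empty, Set.union_empty, Set.singleton_union,
      Fintype.card_fin] at this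
    rw [this, finrank_top, Module.finrank_pi, Fintype.card_fin]

/-- A group above the stabiliser of the tensor power is inside it or contains Omega. -/
theorem four_dich {t : ℕ} {f : (Fin 4 → F) → (Fin 4 → F) → F} (hf : Cfsg.Geo.IsSymmetricForm f) (h2 : (2 : F) ≠ 0)
    (hn : NoLine f) {Q : QuadraticForm F (Idx (t + 2) 4 → F)} (hpol : ∀ x y, QuadraticMap.polar Q x y = bil f x y)
    {M : Subgroup (GL (Idx (t + 2) 4) F)} (hM : M ≤ Cfsg.Geo.omegaGL ⇑Q)
    (hS : ∀ g ∈ Cfsg.Geo.omegaGL ⇑Q, IsTW g → g ∈ M) :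
    (∀ g ∈ M, IsTW g) ∨ Cfsg.Geo.omegaGL ⇑Q ≤ M := by
  rcases Nat.eq_zero_or_pos t with ht | ht
  · subst ht
    rcases twoCtx_or hf h2 hn hpol hM hS with h | C
    · exact Or.inr h
    · exact Or.inl fun g hg => C.main hg
  · exact four_dich_ge hf h2 hn hpol hM hS ht

/-- The statement in given coordinates. -/
theorem isMaximalIn_orthFour {ι : Type} [Fintype ι] [DecidableEq ι] {t : ℕ} (q : QuadraticForm F (ι → F))
    (e : ι ≃ (Fin (t + 2) → Fin 4)) (P : GL ι F) {f : (Fin 4 → F) → (Fin 4 → F) → F}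
    (hf : Cfsg.Geo.IsSymmetricForm f) (hn : NoLine f)
    (hT : Cfsg.Geo.IsTensorPowerFormStructure id (QuadraticMap.polar ⇑q) f e P) (h2 : (2 : F) ≠ 0) :
    Cfsg.Geo.IsMaximalIn (Cfsg.Geo.omegaGL ⇑q)
      (Cfsg.Geo.tensorWreathSubgroup 4 (t + 2) e P ⊓ Cfsg.Geo.omegaGL ⇑q) :=
  OPow.isMaximalIn_of_dich q e P hf hT h2 (by norm_num) fun _Q hQp _M hM hS =>
    four_dich hf h2 hn hQp hM hS

end CfsgLib.Classical22.OFour
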